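import Cfsg.Agent.Lib.CoprimeTrans.Basic

/-!
# The linear group of a complement acting on an elementary abelian normal subgroup
-/

set_option autoImplicit false
set_option linter.style.haveILetI false

noncomputable section

namespace CfsgLib.CoprimeTrans

open Subgroup CfsgLib.TransLinear

universe u

/-- A complement transitive on the nontrivial elements of an elementary abelian normal subgroup is a
coprime transitive linear group. -/
theorem exists_linear {X : Type u} [Group X] [Finite X] {p : ℕ} [Fact p.Prime] (V : Subgroup X)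
    [V.Normal] (hVexp : ∀ v ∈ V, v ^ p = 1) (hab : ∀ a ∈ V, ∀ b ∈ V, a * b = b * a)
    (G : Subgroup X) (hfaith : ∀ g ∈ G, (∀ v ∈ V, g * v = v * g) → g = 1)
    (htrans : ∀ v ∈ V, ∀ w ∈ V, v ≠ 1 → w ≠ 1 → ∃ g ∈ G, g * v * g⁻¹ = w) :
    ∃ (M : Type u) (_ : AddCommGroup M) (_ : Module (ZMod p) M) (_ : Finite M)
      (ρ : G →* (M ≃ₗ[ZMod p] M)) (e : V ≃ M), Function.Injective ρ ∧ Trans ρ ∧
      e 1 = 0 ∧ ∀ (g : G) (v : V), ρ g (e v) = e v ↔ (g : X) * v = (v : X) * g := by
  classical
  letI : CommGroup V :=
    { (inferInstance : Group V) with mul_comm := fun a b => Subtype.ext (hab a a.2 b b.2) }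
  have hexp : ∀ x : Additive V, p • x = 0 := fun x => by
    show Additive.ofMul ((Additive.toMul x : V) ^ p) = Additive.ofMul 1
    exact congrArg Additive.ofMul (Subtype.ext (hVexp _ (Additive.toMul x).2))
  letI : Module (ZMod p) (Additive V) := AddCommGroup.zmodModule (n := p) hexp
  let τ : G →* Module.End (ZMod p) (Additive V) :=
    { toFun := fun g => AddMonoidHom.toZModLinearMap p
        (MonoidHom.toAdditive ((MulAut.conjNormal (g : X) : MulAut V).toMonoidHom))
      map_one' := LinearMap.ext fun x => by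
        show Additive.ofMul ((MulAut.conjNormal ((1 : G) : X) : MulAut V) x.toMul) = x
        rw [Subgroup.coe_one, map_one]; rfl
      map_mul' := fun a b => LinearMap.ext fun x => by
        show Additive.ofMul ((MulAut.conjNormal ((a * b : G) : X) : MulAut V) x.toMul) =
          Additive.ofMul ((MulAut.conjNormal (a : X) : MulAut V)
            ((MulAut.conjNormal (b : X) : MulAut V) x.toMul))
        rw [Subgroup.coe_mul, map_mul]; rfl }
  let ρ : G →* (Additive V ≃ₗ[ZMod p] Additive V) :=
    (LinearMap.GeneralLinearGroup.generalLinearEquiv (ZMod p) (Additive V)).toMonoidHom.comp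
      τ.toHomUnits
  have happ : ∀ (g : G) (v : V), ρ g (Additive.ofMul v) =
      Additive.ofMul ((MulAut.conjNormal (g : X) : MulAut V) v) := fun _ _ => rfl
  refine ⟨Additive V, inferInstance, inferInstance, inferInstance, ρ, Additive.ofMul, ?_, ?_, rfl,
    fun g v => ?_⟩
  · intro a b hab'
    have h1 : ρ (a⁻¹ * b) = 1 := by rw [map_mul, ← hab', ← map_mul, inv_mul_cancel, map_one]
    have h2 : ((a⁻¹ * b : G) : X) = 1 := by
      refine hfaith _ (a⁻¹ * b).2 fun v hv => ?_
      have h := congrArg (fun f : Additive V ≃ₗ[ZMod p] Additive V =>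
        (((f (Additive.ofMul (⟨v, hv⟩ : V))).toMul : V) : X)) h1
      simp only [happ] at h
      change ((MulAut.conjNormal ((a⁻¹ * b : G) : X) ⟨v, hv⟩ : V) : X) = v at h
      rw [MulAut.conjNormal_apply] at h
      exact mul_inv_eq_iff_eq_mul.1 h
    have h3 : a⁻¹ * b = 1 := Subtype.ext h2
    exact inv_mul_eq_one.1 h3
  · intro x y hx hy
    obtain ⟨g, hg, hgv⟩ := htrans _ x.toMul.2 _ y.toMul.2
      (fun h => hx (congrArg Additive.ofMul (Subtype.ext h : x.toMul = 1)))
      (fun h => hy (congrArg Additive.ofMul (Subtype.ext h : y.toMul = 1)))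
    refine ⟨⟨g, hg⟩, congrArg Additive.ofMul (Subtype.ext ?_ : _ = y.toMul)⟩
    show ((MulAut.conjNormal g x.toMul : V) : X) = (y.toMul : X)
    rw [MulAut.conjNormal_apply]
    exact hgv
  · rw [happ]
    refine (Additive.ofMul.injective.eq_iff).trans ?_
    rw [Subtype.ext_iff, MulAut.conjNormal_apply]
    exact mul_inv_eq_iff_eq_mul

end CfsgLib.CoprimeTrans
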