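import Cfsg.Agent.Lib.NumberTheory.PrimitivePart

/-!
# Small primitive parts: `q ^ n - 1` with primitive part dividing `(n + 1) (2 n + 1)`
-/

set_option autoImplicit false

namespace CfsgLib.CoprimeTrans

open CfsgLib.NumberTheory CfsgLib.PrimitivePart

/-- Primitive divisors `(q, n, m)` not dividing `(n + 1) (2 n + 1)`. -/
def certCases : List (ℕ × ℕ × ℕ) :=
  [(3, 3, 13), (5, 3, 31), (7, 3, 19), (11, 3, 133), (13, 3, 61), (17, 3, 307), (5, 4, 13), (7, 4,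
  25), (11, 4, 61), (13, 4, 85), (17, 4, 145), (19, 4, 181), (23, 4, 265), (3, 5, 121), (5, 5,
  781), (7, 6, 43), (11, 6, 37), (13, 6, 157), (19, 6, 343), (23, 6, 169), (29, 6, 271), (31, 6,
  931), (37, 6, 1333), (41, 6, 547), (43, 6, 1807), (3, 7, 1093), (3, 8, 41), (5, 8, 313), (7,
  8, 1201), (3, 9, 757), (3, 10, 61), (5, 10, 521), (7, 10, 2101), (3, 12, 73), (5, 12, 601),
  (7, 12, 2353), (11, 12, 14521), (3, 14, 547), (5, 14, 13021), (3, 15, 4561), (3, 16, 3281),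
  (5, 18, 5167), (3, 20, 1181), (3, 22, 44287), (3, 24, 6481), (3, 30, 8401), (3, 42, 97567)]

/-- The odd primes below forty-seven. -/
def oddPrimes : List ℕ := [3, 5, 7, 11, 13, 17, 19, 23, 29, 31, 37, 41, 43]

theorem mem_oddPrimes : ∀ q < 47, Nat.Prime q → q ≠ 2 → q ∈ oddPrimes := by
  intro q hq hp h2
  interval_cases q <;> simp_all [oddPrimes] <;> norm_num at hp

theorem certCases_spec : ∀ c ∈ certCases, c.2.2 ∣ c.1 ^ c.2.1 - 1 ∧
    (∀ i < c.2.1, 1 ≤ i → Nat.Coprime c.2.2 (c.1 ^ i - 1)) ∧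
    ¬ c.2.2 ∣ (c.2.1 + 1) * (2 * c.2.1 + 1) := by
  decide +kernel

theorem covered : ∀ e ∈ smallE, ∀ q ∈ oddPrimes,
    q ^ e.totient ≤ 4 * e * ((e + 1) * (2 * e + 1)) →
      (q, e) ∈ [(3, 4), (3, 6), (5, 6), (17, 6), (3, 18)] ∨
        (q, e) ∈ certCases.map (fun c => (c.1, c.2.1)) := by
  decide +kernel

theorem large_q : ∀ e ∈ smallE, 4 * e * ((e + 1) * (2 * e + 1)) < 47 ^ e.totient := by
  decide +kernel

/-- If every primitive divisor of `q ^ n - 1` divides `(n + 1) (2 n + 1)`, then `(q, n)` is one of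
five pairs. -/
theorem mem_five {q n : ℕ} (hq : q.Prime) (h2 : q ≠ 2) (hn : 3 ≤ n)
    (h : ∀ m : ℕ, m ∣ q ^ n - 1 → (∀ i : ℕ, 1 ≤ i → i < n → Nat.Coprime m (q ^ i - 1)) →
      m ∣ (n + 1) * (2 * n + 1)) :
    (q, n) ∈ [(3, 4), (3, 6), (5, 6), (17, 6), (3, 18)] := by
  have hq3 : 3 ≤ q := by have := hq.two_le; omega
  obtain ⟨m, hm1, hm2, hm3⟩ := exists_primitive_large (q := q) (e := n) (by omega) hn
  have hmB := Nat.le_of_dvd (by positivity) (h m hm1 hm2)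
  have hb : q ^ n.totient ≤ 4 * n * ((n + 1) * (2 * n + 1)) :=
    calc q ^ n.totient ≤ 4 * phiVal n q := pow_totient_le_four_mul_phiVal (by omega) (by omega)
      _ ≤ 4 * (m * n) := Nat.mul_le_mul_left 4 hm3
      _ ≤ 4 * ((n + 1) * (2 * n + 1) * n) :=
          Nat.mul_le_mul_left 4 (Nat.mul_le_mul_right n hmB)
      _ = _ := by ring
  have hsq := (two_mul_totient_sq n).1
  have hs : n.totient ≤ 23 := by
    by_contra hs
    rw [not_le] at hs
    have key : ∀ s, 24 ≤ s → 4 * (2 * s ^ 2) * ((2 * s ^ 2 + 1) * (4 * s ^ 2 + 1)) < 3 ^ s := by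
      intro s hs
      induction s, hs using Nat.le_induction with
      | base => norm_num
      | succ s hs ih =>
        have h1 : (s + 1) ^ 2 * 3 ≤ s ^ 2 * 4 := by
          have : 24 * s ≤ s * s := Nat.mul_le_mul_right _ hs
          nlinarith
        have h2 : (2 * (s + 1) ^ 2) * 3 ≤ 2 * s ^ 2 * 4 := by omega
        have h3 : (2 * (s + 1) ^ 2 + 1) * 3 ≤ (2 * s ^ 2 + 1) * 4 := by omega
        have h4 : (4 * (s + 1) ^ 2 + 1) * 3 ≤ (4 * s ^ 2 + 1) * 4 := by omega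
        have h5 := Nat.mul_le_mul h2 (Nat.mul_le_mul h3 h4)
        rw [pow_succ 3 s]
        have e1 : 2 * (s + 1) ^ 2 * 3 * ((2 * (s + 1) ^ 2 + 1) * 3 * ((4 * (s + 1) ^ 2 + 1) * 3)) =
            27 * ((2 * (s + 1) ^ 2) * ((2 * (s + 1) ^ 2 + 1) * (4 * (s + 1) ^ 2 + 1))) := by ring
        have e2 : 2 * s ^ 2 * 4 * ((2 * s ^ 2 + 1) * 4 * ((4 * s ^ 2 + 1) * 4)) =
            64 * ((2 * s ^ 2) * ((2 * s ^ 2 + 1) * (4 * s ^ 2 + 1))) := by ring
        rw [e1, e2] at h5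
        rw [mul_assoc 4 (2 * s ^ 2)] at ih
        rw [mul_assoc 4 (2 * (s + 1) ^ 2)]
        omega
    have h1 := key _ hs
    have h2 : 3 ^ n.totient ≤ q ^ n.totient := Nat.pow_le_pow_left hq3 _
    have h3 : 4 * n * ((n + 1) * (2 * n + 1)) ≤
        4 * (2 * n.totient ^ 2) * ((2 * n.totient ^ 2 + 1) * (4 * n.totient ^ 2 + 1)) :=
      Nat.mul_le_mul (Nat.mul_le_mul_left 4 hsq) (Nat.mul_le_mul (by omega) (by omega))
    omega
  have hn' : n < 1059 := by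
    have := Nat.pow_le_pow_left hs 2
    omega
  have hmem := mem_smallE n hn' hn hs
  have hq47 : q < 47 := by
    by_contra h47
    have := Nat.pow_le_pow_left (Nat.le_of_not_lt h47) n.totient
    have := large_q n hmem
    omega
  rcases covered n hmem q (mem_oddPrimes q hq47 hq h2) hb with h5 | h5
  · exact h5
  · obtain ⟨⟨a, b, c⟩, hc, heq⟩ := List.mem_map.1 h5
    obtain ⟨rfl, rfl⟩ : a = q ∧ b = n := Prod.ext_iff.1 heq
    obtain ⟨s1, s2, s3⟩ := certCases_spec _ hc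
    exact absurd (h c s1 fun i hi hin => s2 i hin hi) s3

end CfsgLib.CoprimeTrans
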