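import Cfsg.Agent.Lib.TransLinear.Huppert
import Cfsg.Agent.Lib.NumberTheory.Zsigmondy

/-!
# Coprime transitive linear groups: semilinear structure
-/

set_option autoImplicit false
set_option linter.style.haveILetI false
set_option linter.unusedSectionVars false

namespace CfsgLib.CoprimeTrans

open Subgroup CfsgLib.TransLinear CfsgLib.NumberTheory

variable {q : ℕ} [Fact q.Prime] {V : Type*} [AddCommGroup V] [Module (ZMod q) V] [Finite V]
  {G : Type*} [Group G] {ρ : G →* (V ≃ₗ[ZMod q] V)}

/-- A normal cyclic subgroup, semiregular on the nonzero vectors, of index dividing the dimension,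
that makes the group semilinear of dimension one: its elements outside act by nontrivial field
automorphisms, so their fixed points in it lie in proper subfields. -/
structure Semi (ρ : G →* (V ≃ₗ[ZMod q] V)) (C : Subgroup G) : Prop where
  normal : C.Normal
  cyclic : IsCyclic C
  index_dvd : C.index ∣ Module.finrank (ZMod q) V
  quot_cyclic : ∀ H : Subgroup G, H ⊓ C = ⊥ → IsCyclic H
  fpf : ∀ c ∈ C, ∀ v : V, v ≠ 0 → ρ c v = v → c = 1
  card_dvd : Nat.card C ∣ q ^ Module.finrank (ZMod q) V - 1
  fixed_le : ∀ g : G, g ∉ C → ∀ l : ℕ, (∀ m, m ∣ C.index → 1 < m → l ≤ m) → 0 < l →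
    Nat.card {c : C // g * c = c * g} ≤ q ^ (Module.finrank (ZMod q) V / l) - 1

theorem finrank_le_deg (A : Subgroup G) {g : G} (hg : g ∈ A)
    (hirr : ∀ U : Submodule (ZMod q) V, (∀ w ∈ U, act ρ g w ∈ U) → U = ⊥ ∨ U = ⊤)
    [Nontrivial V] : Module.finrank (ZMod q) V ≤ deg ρ A := by
  obtain ⟨v, hv⟩ := exists_ne (0 : V)
  let f : alg ρ A →ₗ[ZMod q] V := (LinearMap.applyₗ v).comp (alg ρ A).val.toLinearMap
  have h1 : LinearMap.range f = ⊤ := by
    refine (hirr _ ?_).resolve_left fun h => hv ?_
    · rintro _ ⟨r, rfl⟩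
      exact ⟨⟨act ρ g * r.1, mul_mem (act_mem hg) r.2⟩, rfl⟩
    · have h1 : v ∈ LinearMap.range f := ⟨1, rfl⟩
      rwa [h, Submodule.mem_bot] at h1
  have h2 := LinearMap.finrank_range_le f
  rw [h1, finrank_top] at h2
  exact h2

variable [Finite G]

theorem semi_centralizer (hρ : Function.Injective ρ) (htr : Trans ρ) [Nontrivial V] {A : Subgroup G}
    (hAn : A.Normal) (hAc : IsMulCommutative A) (hdeg : Module.finrank (ZMod q) V ≤ deg ρ A) :
    Semi ρ (centralizer (A : Set G)) := by
  classical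
  haveI := hAn
  set C := centralizer (A : Set G) with hC
  letI : Field (alg ρ A) := (alg_isField htr hAn hAc).toField
  haveI : Finite (alg ρ A) := Subtype.finite
  obtain ⟨v, hv⟩ := exists_ne (0 : V)
  let ev : alg ρ A →ₗ[ZMod q] V := (LinearMap.applyₗ v).comp (alg ρ A).val.toLinearMap
  have hev : Function.Injective ev := by
    rw [← LinearMap.ker_eq_bot, LinearMap.ker_eq_bot']
    exact fun r hr => Subtype.ext (eq_zero_of_apply htr hAn hAc r.2 hv hr)
  have hn : deg ρ A = Module.finrank (ZMod q) V :=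
    le_antisymm (LinearMap.finrank_le_finrank_of_injective hev) hdeg
  have hsurj : Function.Surjective ev :=
    (LinearMap.injective_iff_surjective_of_finrank_eq_finrank hn).1 hev
  have hmem : ∀ c ∈ C, act ρ c ∈ alg ρ A := by
    intro c hc
    obtain ⟨r, hr⟩ := hsurj (act ρ c v)
    have he : act ρ c = r.1 := by
      refine LinearMap.ext fun w => ?_
      obtain ⟨s, rfl⟩ := hsurj w
      change r.1 v = act ρ c v at hr
      show act ρ c (s.1 v) = r.1 (s.1 v)
      rw [← Module.End.mul_apply, (commute_alg hc s.2).eq, Module.End.mul_apply, ← hr,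
        ← Module.End.mul_apply, alg_comm hAc s.2 r.2, Module.End.mul_apply]
    exact he ▸ r.2
  let f : C →* alg ρ A :=
    { toFun := fun c => ⟨act ρ c, hmem c c.2⟩
      map_one' := Subtype.ext (map_one _)
      map_mul' := fun a b => Subtype.ext (map_mul (act ρ) (a : G) b) }
  have hf : Function.Injective f := fun a b he =>
    Subtype.ext (act_injective ρ hρ (congrArg Subtype.val he))
  have hfu : Function.Injective f.toHomUnits := fun a b he => hf (congrArg Units.val he)
  obtain ⟨-, -, hidx⟩ := index_and_card hρ htr hAn hAc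
  obtain ⟨ψ, hψ, hker⟩ := exists_conjHom (ρ := ρ) (A := A) hAn
  have hker' : ψ.ker = C := hker hρ
  haveI : IsGalois (ZMod q) (alg ρ A) := inferInstance
  have hcycl : IsCyclic (alg ρ A ≃ₐ[ZMod q] alg ρ A) := inferInstance
  refine ⟨inferInstance, isCyclic_of_injective f.toHomUnits hfu, hn ▸ hidx, ?_, ?_, ?_, ?_⟩
  · intro H hH
    refine isCyclic_of_injective (ψ.comp H.subtype) ?_
    rw [← MonoidHom.ker_eq_bot_iff, Subgroup.eq_bot_iff_forall]
    intro x hx
    have : (x : G) ∈ H ⊓ C := ⟨x.2, hker' ▸ hx⟩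
    rw [hH, Subgroup.mem_bot] at this
    exact Subtype.ext this
  · intro c hc w hw he
    have h0 : (act ρ c - 1) w = 0 := by
      rw [LinearMap.sub_apply, Module.End.one_apply, act_apply, he, sub_self]
    have h1 := eq_zero_of_apply htr hAn hAc (sub_mem (hmem c hc) (one_mem _)) hw h0
    exact act_injective ρ hρ ((sub_eq_zero.1 h1).trans (map_one (act ρ)).symm)
  · have h1 := Subgroup.card_dvd_of_injective f.toHomUnits hfu
    rwa [Nat.card_units, Module.natCard_eq_pow_finrank (K := ZMod q) (V := alg ρ A), Nat.card_zmod,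
      show Module.finrank (ZMod q) (alg ρ A) = Module.finrank (ZMod q) V from hn] at h1
  · intro g hg l hl hl0
    set σ := ψ g with hσ
    have hσ1 : σ ≠ 1 := fun h => hg (hker' ▸ MonoidHom.mem_ker.2 h)
    have hord : orderOf σ ∣ C.index := by
      rw [← hker', index_ker]
      exact Subgroup.orderOf_dvd_natCard ψ.range ⟨g, rfl⟩
    have hlm : l ≤ orderOf σ := hl _ hord (lt_of_le_of_ne
      (Nat.one_le_iff_ne_zero.2 (orderOf_pos σ).ne') fun h => hσ1 (orderOf_eq_one_iff.1 h.symm))
    let L := IntermediateField.fixedField (Subgroup.zpowers σ)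
    have hL : Module.finrank L (alg ρ A) = orderOf σ := by
      rw [IntermediateField.finrank_fixedField_eq_card, Nat.card_zpowers]
    have hmul := Module.finrank_mul_finrank (ZMod q) L (alg ρ A)
    rw [hL] at hmul
    have hle : Module.finrank (ZMod q) L ≤ Module.finrank (ZMod q) V / l := by
      rw [Nat.le_div_iff_mul_le hl0, ← hn, deg, ← hmul]
      exact Nat.mul_le_mul_left _ hlm
    refine le_trans ?_ (Nat.sub_le_sub_right (Nat.pow_le_pow_right (Fact.out : q.Prime).pos hle) 1)
    rw [show q ^ Module.finrank (ZMod q) L - 1 = Nat.card Lˣ by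
      rw [Nat.card_units, Module.natCard_eq_pow_finrank (K := ZMod q) (V := L), Nat.card_zmod]]
    have hfix : ∀ c : C, g * c = c * g → f c ∈ L := by
      intro c hc
      have h1 : σ (f c) = f c := by
        refine Subtype.ext ?_
        rw [hσ, hψ]
        show act ρ g * act ρ c * act ρ g⁻¹ = act ρ c
        rw [← map_mul, ← map_mul, hc, mul_inv_cancel_right]
      rw [IntermediateField.mem_fixedField_iff]
      intro τ hτ
      obtain ⟨k, rfl⟩ := Subgroup.mem_zpowers_iff.1 hτ
      have : σ ^ k ∈ MulAction.stabilizer (alg ρ A ≃ₐ[ZMod q] alg ρ A) (f c) :=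
        zpow_mem (MulAction.mem_stabilizer_iff.2 h1) k
      exact this
    refine Nat.card_le_card_of_injective (fun c => Units.mk0 (⟨f c.1, hfix c.1 c.2⟩ : L) ?_) ?_
    · intro h0
      exact (f.toHomUnits c.1).ne_zero (congrArg Subtype.val h0)
    · intro a b hab
      exact Subtype.ext (hf (congrArg (fun u : Lˣ => ((u : L) : alg ρ A)) hab))

theorem exists_semi_of_irreducible_mem (hρ : Function.Injective ρ) (htr : Trans ρ) [Nontrivial V]
    {A : Subgroup G} (hAn : A.Normal) (hAc : IsMulCommutative A) {g : G} (hg : g ∈ A)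
    (hirr : ∀ U : Submodule (ZMod q) V, (∀ w ∈ U, act ρ g w ∈ U) → U = ⊥ ∨ U = ⊤) :
    ∃ C, Semi ρ C :=
  ⟨_, semi_centralizer hρ htr hAn hAc (finrank_le_deg A hg hirr)⟩

theorem exists_semi_of_finrank_one (hρ : Function.Injective ρ) (htr : Trans ρ) [Nontrivial V]
    (hn : Module.finrank (ZMod q) V = 1) : ∃ C, Semi ρ C := by
  have hc : IsMulCommutative (⊤ : Subgroup G) := ⟨⟨fun a b => Subtype.ext <| act_injective ρ hρ <| by
    obtain ⟨v, hv⟩ := exists_ne (0 : V)
    have hs : ∀ g : G, ∃ c : ZMod q, ∀ w, act ρ g w = c • w := by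
      intro g
      obtain ⟨c, hc⟩ := (finrank_eq_one_iff_of_nonzero' v hv).1 hn (act ρ g v)
      refine ⟨c, fun w => ?_⟩
      obtain ⟨d, rfl⟩ := (finrank_eq_one_iff_of_nonzero' v hv).1 hn w
      rw [map_smul, ← hc, smul_comm]
    obtain ⟨c, hc⟩ := hs (a : G)
    obtain ⟨d, hd⟩ := hs (b : G)
    refine LinearMap.ext fun w => ?_
    show act ρ ((a : G) * b) w = act ρ ((b : G) * a) w
    rw [map_mul, map_mul, Module.End.mul_apply, Module.End.mul_apply, hd, hc, hc, hd, smul_comm]⟩⟩
  exact ⟨_, semi_centralizer hρ htr inferInstance hc (hn ▸ (index_and_card hρ htr inferInstance hc).1)⟩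

/-- The elements of order a primitive prime divisor act irreducibly. -/
theorem irreducible_of_orderOf (hρ : Function.Injective ρ) {r : ℕ}
    (hr : IsPPD r q (Module.finrank (ZMod q) V)) (hn : 0 < Module.finrank (ZMod q) V) {x : G}
    (hx : orderOf x = r) (U : Submodule (ZMod q) V) (hU : ∀ w ∈ U, act ρ x w ∈ U) :
    U = ⊥ ∨ U = ⊤ := by
  refine irreducible_of_ppd hr.prime ?_ ?_ ?_ hr.2.2 U hU
  · rw [← map_pow, ← hx, pow_orderOf_eq_one, map_one]
  · intro h
    rw [act_injective ρ hρ (h.trans (map_one (act ρ)).symm), orderOf_one] at hx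
    exact hr.prime.ne_one hx.symm
  · exact hr.not_dvd_base (Fact.out : q.Prime).one_le hn

theorem comm_centralizer_of_orderOf (hρ : Function.Injective ρ) [Nontrivial V] {r : ℕ}
    (hr : IsPPD r q (Module.finrank (ZMod q) V)) (hn : 0 < Module.finrank (ZMod q) V) {x : G}
    (hx : orderOf x = r) {u w : G} (hu : u * x = x * u) (hw : w * x = x * w) : u * w = w * u :=
  commute_of_irreducible hρ (irreducible_of_orderOf hρ hr hn hx) hu hw

/-- An element of order a primitive prime divisor inside a normal abelian subgroup. -/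
theorem exists_semi_of_sylow_normal (hρ : Function.Injective ρ) (htr : Trans ρ) [Nontrivial V]
    {r : ℕ} (hr : IsPPD r q (Module.finrank (ZMod q) V)) (hn : 0 < Module.finrank (ZMod q) V)
    [Fact r.Prime] (hns : ∀ Q : Sylow r G, (Q : Subgroup G).Normal) : ∃ C, Semi ρ C := by
  obtain ⟨R⟩ : Nonempty (Sylow r G) := inferInstance
  haveI := hns R
  haveI := Sylow.unique_of_normal R (hns R)
  obtain ⟨x, hx⟩ := exists_prime_orderOf_dvd_card' (G := G) r (hr.2.1.trans (pow_sub_one_dvd htr))
  have hxR : ∀ y : G, orderOf y = r → y ∈ R := by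
    intro y hy
    obtain ⟨Q, hQ⟩ := (IsPGroup.of_card (n := 1) (by rw [Nat.card_zpowers, hy, pow_one]) :
      IsPGroup r (zpowers y)).exists_le_sylow
    rw [Subsingleton.elim Q R] at hQ
    exact hQ (mem_zpowers y)
  have hxR' := hxR x hx
  haveI : Nontrivial (R : Subgroup G) := ⟨⟨x, hxR'⟩, 1, fun h => hr.prime.ne_one (by
    rw [← hx, show x = 1 from congrArg Subtype.val h, orderOf_one])⟩
  haveI := R.isPGroup'.center_nontrivial
  obtain ⟨z, hz⟩ := exists_prime_orderOf_dvd_card' r (G := Subgroup.center (R : Subgroup G)) (by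
    obtain ⟨c, hc⟩ := IsPGroup.iff_card.1 (R.isPGroup'.to_subgroup (Subgroup.center (R : Subgroup G)))
    rw [hc]
    refine dvd_pow_self r fun h0 => ?_
    have := Finite.one_lt_card (α := Subgroup.center (R : Subgroup G))
    rw [hc, h0, pow_zero] at this
    exact lt_irrefl 1 this)
  let A : Subgroup G := (Subgroup.center (R : Subgroup G)).map (R : Subgroup G).subtype
  have hAn : A.Normal := inferInstance
  have hAc : IsMulCommutative A := ⟨⟨fun a b => Subtype.ext (by
    obtain ⟨a', -, ha⟩ := a.2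
    obtain ⟨b', hb', hb⟩ := b.2
    show (a : G) * b = b * a
    rw [← ha, ← hb]
    exact congrArg Subtype.val (Subgroup.mem_center_iff.1 hb' a'))⟩⟩
  refine exists_semi_of_irreducible_mem hρ htr hAn hAc (g := ((z : (R : Subgroup G)) : G))
    ⟨_, z.2, rfl⟩ (irreducible_of_orderOf hρ hr hn ?_)
  rw [Subgroup.orderOf_coe, Subgroup.orderOf_coe, hz]

end CfsgLib.CoprimeTrans
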