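import Cfsg.Agent.Lib.CoprimeTrans.SemiCount

/-!
# The class numbers of a semilinear transitive group and its point stabiliser
-/

set_option autoImplicit false
set_option linter.style.haveILetI false
set_option linter.unusedSectionVars false

namespace CfsgLib.CoprimeTrans

open Subgroup CfsgLib.TransLinear

theorem odd_key {p : ℕ} : ∀ {k : ℕ}, 3 ≤ p → 1 ≤ k → (k = 1 → 5 ≤ p) → 4 * k ≤ p ^ k := by
  intro k hp hk h5
  induction k, hk using Nat.le_induction with
  | base => have := h5 rfl; rw [pow_one]; omega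
  | succ k hk ih =>
    rcases Nat.lt_or_ge k 2 with h | h
    · obtain rfl : k = 1 := by omega
      have := Nat.mul_le_mul hp hp
      rw [pow_succ, pow_one]
      omega
    · have h1 := ih fun h1 => by omega
      rw [pow_succ]
      calc 4 * (k + 1) ≤ 4 * k * 3 := by omega
        _ ≤ p ^ k * p := Nat.mul_le_mul h1 hp

theorem two_key : ∀ {k : ℕ}, 5 ≤ k → 9 * k ≤ 2 ^ (k + 1) := by
  intro k hk
  induction k, hk using Nat.le_induction with
  | base => norm_num
  | succ k hk ih => rw [pow_succ]; omega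

theorem odd_bound {p n : ℕ} (hp : p.Prime) (hp2 : p ≠ 2) (hn : 2 ≤ n) (h : ¬ (p = 3 ∧ n = 2)) :
    (2 * n - 1) * p ^ (n / 2) + 1 ≤ p ^ n := by
  have hp3 : 3 ≤ p := by have := hp.two_le; omega
  have hp4 : p ≠ 4 := fun h4 => by rw [h4] at hp; exact absurd hp (by norm_num)
  have h1 := odd_key (p := p) (k := n - n / 2) hp3 (by omega) (fun hk => by
    have hn2 : n = 2 := by omega
    have : p ≠ 3 := fun h3 => h ⟨h3, hn2⟩
    omega)
  have h2 : 1 ≤ p ^ (n / 2) := Nat.one_le_pow _ _ hp.pos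
  have e : p ^ n = p ^ (n / 2) * p ^ (n - n / 2) := by rw [← pow_add]; congr 1; omega
  have h3 : p ^ (n / 2) * (2 * n) ≤ p ^ (n / 2) * p ^ (n - n / 2) :=
    Nat.mul_le_mul_left _ (le_trans (by omega) h1)
  have h4 : (2 * n - 1) * p ^ (n / 2) + p ^ (n / 2) = p ^ (n / 2) * (2 * n) := by
    rw [← Nat.succ_mul, Nat.succ_eq_add_one, show 2 * n - 1 + 1 = 2 * n by omega, mul_comm]
  omega

theorem two_bound {n : ℕ} (hn : 4 ≤ n) : (3 * n - 1) * 2 ^ (n / 3) + 1 ≤ 2 * 2 ^ n := by
  have h2 : 1 ≤ 2 ^ (n / 3) := Nat.one_le_pow _ _ two_pos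
  have e : 2 * 2 ^ n = 2 ^ (n / 3) * 2 ^ (n + 1 - n / 3) := by
    rw [← pow_succ', ← pow_add]; congr 1; omega
  have h1 : 3 * n ≤ 2 ^ (n + 1 - n / 3) := by
    rcases Nat.lt_or_ge (n + 1 - n / 3) 5 with h | h
    · have : n = 4 := by omega
      subst this
      norm_num
    · have := two_key h
      rw [pow_succ] at this
      omega
  have h3 : 2 ^ (n / 3) * (3 * n) ≤ 2 ^ (n / 3) * 2 ^ (n + 1 - n / 3) := Nat.mul_le_mul_left _ h1
  have h4 : (3 * n - 1) * 2 ^ (n / 3) + 2 ^ (n / 3) = 2 ^ (n / 3) * (3 * n) := by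
    rw [← Nat.succ_mul, Nat.succ_eq_add_one, show 3 * n - 1 + 1 = 3 * n by omega, mul_comm]
  omega

/-- The order is the number of nonzero vectors times the order of a point stabiliser. -/
theorem card_eq_mul_stabilizer {q : ℕ} [Fact q.Prime] {V : Type*} [AddCommGroup V]
    [Module (ZMod q) V] [Finite V] {G : Type*} [Group G] [Finite G]
    {ρ : G →* (V ≃ₗ[ZMod q] V)} (htr : Trans ρ) {v : V} (hv : v ≠ 0) (H : Subgroup G)
    (hH : ∀ g, g ∈ H ↔ ρ g v = v) : Nat.card G = (Nat.card V - 1) * Nat.card H := by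
  letI : MulAction G V :=
    { smul := fun g w => ρ g w
      one_smul := fun w => by show ρ 1 w = w; rw [map_one]; rfl
      mul_smul := fun g h w => by show ρ (g * h) w = ρ g (ρ h w); rw [map_mul]; rfl }
  have horb : MulAction.orbit G v = ({0} : Set V)ᶜ := by
    ext w
    refine ⟨?_, fun hw => htr v w hv hw⟩
    rintro ⟨g, rfl⟩ h
    exact hv ((ρ g).map_eq_zero_iff.mp (show ρ g v = 0 from h))
  have hst : MulAction.stabilizer G v = H := SetLike.ext fun g => (hH g).symm
  have h1 := H.card_mul_index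
  rw [← hst, MulAction.index_stabilizer, horb, Set.ncard_compl, Set.ncard_singleton, hst] at h1
  rw [← h1, mul_comm]

variable {q : ℕ} [Fact q.Prime] {V : Type*} [AddCommGroup V] [Module (ZMod q) V] [Finite V]
  {G : Type*} [Group G] [Finite G] {ρ : G →* (V ≃ₗ[ZMod q] V)}

theorem Semi.inf_eq_bot {C : Subgroup G} (hS : Semi ρ C) {v : V} (hv : v ≠ 0) {H : Subgroup G}
    (hH : ∀ g, g ∈ H ↔ ρ g v = v) : H ⊓ C = ⊥ :=
  (Subgroup.eq_bot_iff_forall _).2 fun g hg => hS.fpf g hg.2 v hv ((hH g).1 hg.1)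

/-- The bound for semilinear groups. -/
theorem semi_class_bound (htr : Trans ρ) (hcop : ¬ q ∣ Nat.card G) [Nontrivial V]
    {C : Subgroup G} (hS : Semi ρ C) {v : V} (hv : v ≠ 0) (H : Subgroup G)
    (hH : ∀ g, g ∈ H ↔ ρ g v = v) :
    Nat.card (ConjClasses G) + Nat.card (ConjClasses H) ≤ Nat.card V ∧
      (Nat.card (ConjClasses G) + Nat.card (ConjClasses H) = Nat.card V →
        IsCyclic G ∨ (Nat.card V = 8 ∧ Nat.card G = 21) ∨ (Nat.card V = 9 ∧ Nat.card G = 16)) := by
  classical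
  haveI := hS.normal
  have hqp : q.Prime := Fact.out
  haveI : Module.Finite (ZMod q) V := Module.Finite.of_finite
  set n := Module.finrank (ZMod q) V with hn
  have hn0 : 0 < n := Module.finrank_pos
  have hV : Nat.card V = q ^ n := by
    rw [Module.natCard_eq_pow_finrank (K := ZMod q) (V := V), Nat.card_zmod]
  have hinf := hS.inf_eq_bot hv hH
  rw [card_conjClasses_of_cyclic H (hS.quot_cyclic H hinf)]
  have hG := card_eq_mul_stabilizer htr hv H hH
  rw [hV] at hG ⊢
  set d := C.index with hd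
  set c := Nat.card C with hc
  set h := Nat.card H with hh
  have hcd : c * d = Nat.card G := C.card_mul_index
  have hhd : h ≤ d := by
    refine Nat.card_le_card_of_injective (fun x : H => ((x : G) : G ⧸ C)) fun a b hab => ?_
    have h1 : ((a : G)⁻¹ * b) ∈ H ⊓ C :=
      Subgroup.mem_inf.2 ⟨H.mul_mem (H.inv_mem a.2) b.2, QuotientGroup.eq.1 hab⟩
    rw [hinf, Subgroup.mem_bot, inv_mul_eq_one] at h1
    exact Subtype.ext h1
  have hh0 : 0 < h := Nat.card_pos
  have hq1 : 1 < q ^ n := Nat.one_lt_pow hn0.ne' hqp.one_lt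
  have hc1 : c ≤ q ^ n - 1 := Nat.le_of_dvd (by omega) hS.card_dvd
  have hdn : d ≤ n := Nat.le_of_dvd hn0 hS.index_dvd
  have hd0 : d ≠ 0 := Subgroup.index_ne_zero_of_finite
  have hCc : IsMulCommutative C := by haveI := hS.cyclic; exact ⟨⟨IsCyclic.commGroup.mul_comm⟩⟩
  by_cases hd1 : d = 1
  · have hT : C = ⊤ := index_eq_one.1 hd1
    have hcyc : IsCyclic G := by
      have h' := hS.cyclic
      rw [hT] at h'
      haveI := h'
      exact isCyclic_of_surjective (Subgroup.topEquiv : (⊤ : Subgroup G) ≃* G).toMonoidHom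
        (Subgroup.topEquiv : (⊤ : Subgroup G) ≃* G).surjective
    have hk : Nat.card (ConjClasses G) = Nat.card G := by
      letI : CommGroup G := IsCyclic.commGroup
      exact (Nat.card_congr ConjClasses.mkEquiv).symm
    have h1 : h = 1 := by omega
    rw [hk, hG, h1, mul_one]
    exact ⟨by omega, fun _ => Or.inl hcyc⟩
  have hd2 : 2 ≤ d := by omega
  have hn2 : 2 ≤ n := le_trans hd2 hdn
  -- the basic inequality for `l`
  have key : ∀ l, 1 ≤ l → (∀ m, m ∣ d → 1 < m → l ≤ m) →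
      l * Nat.card (ConjClasses G) ≤
        c + (l - 1) * (q ^ (n / l) - 1) + l * ((d - 1) * (q ^ (n / l) - 1)) := fun l hl hmin =>
    mul_card_conjClasses_le C hCc hl hmin hd2 fun g hg => hS.fixed_le g hg l hmin hl
  by_cases hq2 : q = 2
  · subst hq2
    have hdodd : ¬ 2 ∣ d := fun h2 => hcop (h2.trans (index_dvd_card C))
    have h3 : ∀ m, m ∣ d → 1 < m → 3 ≤ m := fun m hm hm1 => by
      by_contra hlt
      obtain rfl : m = 2 := by omega
      exact hdodd hm
    have hn3 : 3 ≤ n := le_trans (h3 d dvd_rfl (by omega)) hdn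
    have k3 := key 3 (by norm_num) h3
    by_cases hn4 : 4 ≤ n
    · have hb := two_bound hn4
      generalize Nat.card (ConjClasses G) = k at *
      obtain ⟨t, ht⟩ : ∃ t, 2 ^ (n / 3) = t + 1 := ⟨2 ^ (n / 3) - 1, by have := Nat.one_le_two_pow (n := n / 3); omega⟩
      rw [ht] at k3 hb
      have hmul : (3 * d - 1) * (t + 1) ≤ (3 * n - 1) * (t + 1) := Nat.mul_le_mul_right _ (by omega)
      have e1 : (3 * d - 1) * (t + 1) = 3 * ((d - 1) * t) + 2 * t + 3 * d - 1 := by
        obtain ⟨e, he'⟩ : ∃ e, d = e + 1 := ⟨d - 1, by omega⟩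
        rw [he']
        simp only [Nat.add_sub_cancel, show 3 * (e + 1) - 1 = 3 * e + 2 by omega]
        rw [show 3 * (e * t) + 2 * t + 3 * (e + 1) - 1 = 3 * (e * t) + 2 * t + 3 * e + 2 by omega]
        ring
      simp only [Nat.add_sub_cancel, show 3 - 1 = 2 by rfl] at k3
      have hlt : k + h < 2 ^ n := by omega
      exact ⟨hlt.le, fun he => absurd he hlt.ne⟩
    · obtain hn' : n = 3 := by omega
      have hd3 : d = 3 := by
        have h4 := h3 d dvd_rfl (by omega)
        omega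
      rw [hn'] at hG k3 hc1 ⊢
      rw [hd3] at hcd k3
      norm_num at hG k3 hc1 ⊢
      refine ⟨by omega, fun he => Or.inr ?_⟩
      omega
  · have h2 : ∀ m, m ∣ d → 1 < m → 2 ≤ m := fun m _ hm => hm
    have k2 := key 2 one_le_two h2
    by_cases h32 : q = 3 ∧ n = 2
    · obtain ⟨rfl, hn'⟩ := h32
      rw [hn'] at hG k2 hc1 ⊢
      have hd2' : d = 2 := by omega
      rw [hd2'] at hcd k2
      norm_num at hG k2 hc1 ⊢
      refine ⟨by omega, fun he => Or.inr ?_⟩
      omega
    · have hb := odd_bound hqp hq2 hn2 h32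
      generalize Nat.card (ConjClasses G) = k at *
      obtain ⟨t, ht⟩ : ∃ t, q ^ (n / 2) = t + 1 :=
        ⟨q ^ (n / 2) - 1, by have := Nat.one_le_pow (n / 2) q hqp.pos; omega⟩
      rw [ht] at k2 hb
      have hmul : (2 * d - 1) * (t + 1) ≤ (2 * n - 1) * (t + 1) := Nat.mul_le_mul_right _ (by omega)
      have e1 : (2 * d - 1) * (t + 1) = 2 * ((d - 1) * t) + t + 2 * d - 1 := by
        obtain ⟨e, he'⟩ : ∃ e, d = e + 1 := ⟨d - 1, by omega⟩
        rw [he']
        simp only [Nat.add_sub_cancel, show 2 * (e + 1) - 1 = 2 * e + 1 by omega]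
        rw [show 2 * (e * t) + t + 2 * (e + 1) - 1 = 2 * (e * t) + t + 2 * e + 1 by omega]
        ring
      simp only [Nat.add_sub_cancel, show 2 - 1 = 1 by rfl, one_mul] at k2
      have hlt : k + h < q ^ n := by omega
      exact ⟨hlt.le, fun he => absurd he hlt.ne⟩

end CfsgLib.CoprimeTrans
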