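import Cfsg.Agent.Lib.CoprimeTrans.Exc81
import Cfsg.Agent.Lib.CoprimeTrans.SemiBound

/-!
# Class numbers of coprime transitive linear groups
-/

set_option autoImplicit false
set_option linter.style.haveILetI false
set_option linter.unusedSectionVars false
set_option synthInstance.maxHeartbeats 100000

noncomputable section

namespace CfsgLib.CoprimeTrans

open Subgroup CfsgLib.TransLinear CfsgLib.NumberTheory

universe u

variable {q : ℕ} [Fact q.Prime] {V : Type*} [AddCommGroup V] [Module (ZMod q) V] [Finite V]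
  {G : Type u} [Group G] [Finite G] {ρ : G →* (V ≃ₗ[ZMod q] V)}

theorem card_scalars_dvd (hρ : Function.Injective ρ) [Nontrivial V] :
    Nat.card (scalars (act ρ)) ∣ q - 1 := by
  classical
  haveI := Fact.out (p := q.Prime)
  obtain ⟨v, hv⟩ := exists_ne (0 : V)
  choose c hc using fun z : scalars (act ρ) => z.2
  let f : scalars (act ρ) →* ZMod q :=
    { toFun := c
      map_one' := by
        refine smul_left_injective (ZMod q) hv ?_
        have h := LinearMap.congr_fun (hc 1) v
        rw [Subgroup.coe_one, map_one, Module.End.one_apply, LinearMap.smul_apply,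
          Module.End.one_apply] at h
        show c 1 • v = (1 : ZMod q) • v
        rw [one_smul, ← h]
      map_mul' := fun a b => by
        refine smul_left_injective (ZMod q) hv ?_
        have h := LinearMap.congr_fun (hc (a * b)) v
        rw [Subgroup.coe_mul, map_mul, Module.End.mul_apply, hc a, hc b] at h
        simp only [LinearMap.smul_apply, Module.End.one_apply] at h
        show c (a * b) • v = (c a * c b) • v
        rw [← h, mul_smul] }
  have hf : Function.Injective f.toHomUnits := fun a b he => Subtype.ext (act_injective ρ hρ (by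
    rw [hc a, hc b]
    exact congrArg (fun x : ZMod q => x • (1 : Module.End (ZMod q) V)) (congrArg Units.val he)))
  have h := Subgroup.card_dvd_of_injective f.toHomUnits hf
  rwa [Nat.card_units, Nat.card_zmod] at h

/-- The numerical facts of a plane exception. -/
theorem excTwo_facts (hρ : Function.Injective ρ) (htr : Trans ρ) [Nontrivial V]
    (hn : Module.finrank (ZMod q) V = 2) (hcop : ¬ q ∣ Nat.card G) (hexc : ExcTwo ρ) {v : V}
    (hv : v ≠ 0) (H : Subgroup G) (hH : ∀ g, g ∈ H ↔ ρ g v = v) :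
    ∃ g z w h : ℕ, Nat.card (scalars (act ρ)) = z ∧ Nat.card H = h ∧ 0 < h ∧ Nat.card G = g * z ∧
      q - 1 = z * w ∧ g = h * ((q + 1) * w) ∧ 5 ≤ q ∧
      ((g = 12 ∧ 2 * Nat.card (ConjClasses G) = 7 * z) ∨
        (g = 24 ∧ Nat.card (ConjClasses G) = 4 * z) ∨
        (g = 60 ∧ 2 * Nat.card (ConjClasses G) = 9 * z ∧ q ≠ 5)) := by
  have hqp : q.Prime := Fact.out
  obtain ⟨g, m, hgm, hG, hk, -⟩ := hexc
  obtain ⟨w, hw⟩ := card_scalars_dvd hρ
  have hG' := card_eq_mul_stabilizer htr hv H hH
  rw [Module.natCard_eq_pow_finrank (K := ZMod q) (V := V), Nat.card_zmod, hn, hG] at hG'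
  set z := Nat.card (scalars (act ρ))
  have hz : 0 < z := Nat.card_pos
  have hgdvd : g ∣ Nat.card G := Dvd.intro _ hG.symm
  simp only [excTypes, List.mem_cons, Prod.mk.injEq, List.not_mem_nil, or_false] at hgm
  have h12 : 12 ∣ g := by rcases hgm with ⟨rfl, -⟩ | ⟨rfl, -⟩ | ⟨rfl, -⟩ <;> norm_num
  have hq5 : 5 ≤ q := by
    by_contra h
    have : q ∣ g := by
      refine dvd_trans ?_ h12
      have := hqp.two_le
      rcases (show q = 2 ∨ q = 3 ∨ q = 4 by omega) with e | e | e
      · rw [e]; norm_num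
      · rw [e]; norm_num
      · rw [e]; norm_num
    exact hcop (this.trans hgdvd)
  refine ⟨g, z, w, Nat.card H, rfl, rfl, Nat.card_pos, hG, hw, ?_, hq5, ?_⟩
  · refine Nat.eq_of_mul_eq_mul_right hz ?_
    rw [hG', show q ^ 2 - 1 = (q + 1) * (q - 1) by simpa using Nat.sq_sub_sq q 1, hw]
    ring
  · rcases hgm with ⟨rfl, rfl⟩ | ⟨rfl, rfl⟩ | ⟨rfl, rfl⟩
    · exact Or.inl ⟨rfl, hk⟩
    · exact Or.inr (Or.inl ⟨rfl, by omega⟩)
    · exact Or.inr (Or.inr ⟨rfl, hk, fun h5 => hcop (((show q ∣ 60 by rw [h5]; norm_num)).trans hgdvd)⟩)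

/-- **Class numbers**: a coprime transitive group and a point stabiliser together have at most
`|V|` classes, with three kinds of equality. -/
theorem class_bound (hρ : Function.Injective ρ) (htr : Trans ρ) [Nontrivial V]
    (hcop : ¬ q ∣ Nat.card G) {v : V} (hv : v ≠ 0) (H : Subgroup G)
    (hH : ∀ g, g ∈ H ↔ ρ g v = v) :
    Nat.card (ConjClasses G) + Nat.card (ConjClasses H) ≤ Nat.card V ∧
      (Nat.card (ConjClasses G) + Nat.card (ConjClasses H) = Nat.card V →
        IsCyclic G ∨ (Nat.card V = 8 ∧ Nat.card G = 21) ∨ (Nat.card V = 9 ∧ Nat.card G = 16)) := by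
  by_cases hS : ∃ C, Semi ρ C
  · obtain ⟨C, hC⟩ := hS
    exact semi_class_bound htr hcop hC hv H hH
  have hkH : Nat.card (ConjClasses H) ≤ Nat.card H :=
    Nat.card_le_card_of_surjective ConjClasses.mk ConjClasses.mk_surjective
  have hV : Nat.card V = q ^ Module.finrank (ZMod q) V := by
    rw [Module.natCard_eq_pow_finrank (K := ZMod q) (V := V), Nat.card_zmod]
  have hlt : Nat.card (ConjClasses G) + Nat.card (ConjClasses H) < Nat.card V := by
    rcases classify hρ htr hcop with h | ⟨-, hn2, hexc⟩ | ⟨h3, hn4, h13⟩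
    · exact absurd h hS
    · obtain ⟨g, z, w, h, -, hh, h0, -, hw, hg, hq5, hcases⟩ :=
        excTwo_facts hρ htr hn2 hcop hexc hv H hH
      rw [hV, hn2]
      have hw0 : 1 ≤ w := Nat.pos_of_ne_zero fun h => by rw [h, mul_zero] at hw; omega
      have hzq : z ≤ q - 1 := hw ▸ Nat.le_mul_of_pos_right z hw0
      have hhg : h * (q + 1) ≤ g := hg ▸ Nat.mul_le_mul_left h (Nat.le_mul_of_pos_right _ hw0)
      have h6 : h * 6 ≤ h * (q + 1) := Nat.mul_le_mul_left h (by omega)
      rw [pow_two]
      have hqq : 5 * q ≤ q * q := Nat.mul_le_mul_right q hq5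
      rcases hcases with ⟨h12, hk⟩ | ⟨h24, hk⟩ | ⟨h60, hk, h5⟩
      · omega
      · omega
      · have hq7 : 7 ≤ q := by
          have : q ≠ 6 := fun h => by
            have hqp : q.Prime := Fact.out
            rw [h] at hqp; norm_num at hqp
          omega
        have h8 : h * 8 ≤ h * (q + 1) := Nat.mul_le_mul_left h (by omega)
        have hqq7 : 7 * q ≤ q * q := Nat.mul_le_mul_right q hq7
        omega
    · subst h3
      obtain ⟨hG640, hk65⟩ := exc81 hρ htr hn4 hcop h13 fun C hC => hS ⟨C, hC⟩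
      have hG' := card_eq_mul_stabilizer htr hv H hH
      rw [hV, hn4] at hG' ⊢
      norm_num at hG' ⊢
      omega
  exact ⟨hlt.le, fun he => absurd he hlt.ne⟩

end CfsgLib.CoprimeTrans
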