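import Cfsg.Agent.Lib.CoprimeTrans.Plane

/-!
# Class numbers of coprime groups of linear maps of a plane
-/

set_option autoImplicit false
set_option linter.style.haveILetI false

noncomputable section

namespace CfsgLib.CoprimeTrans

open Subgroup Finset

variable {K : Type*} [Field K] {W : Type*} [AddCommGroup W] [Module K W] {C : Type*} [Group C]
  [Finite C] {σ : C →* Module.End K W}

omit [Finite C] in
theorem mem_conj_map (T : Subgroup C) (a x : C) :
    x ∈ T.map (MulAut.conj a).toMonoidHom ↔ a⁻¹ * x * a ∈ T := by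
  rw [Subgroup.mem_map]
  constructor
  · rintro ⟨t, ht, rfl⟩
    rwa [MulEquiv.coe_toMonoidHom, MulAut.conj_apply,
      show a⁻¹ * (a * t * a⁻¹) * a = t by group]
  · intro h
    exact ⟨_, h, by rw [MulEquiv.coe_toMonoidHom, MulAut.conj_apply]; group⟩

omit [Finite C] in
theorem card_range_conj (T : Subgroup C) :
    Nat.card (Set.range fun g : C => T.map (MulAut.conj g).toMonoidHom) =
      (normalizer (T : Set C)).index := by
  have key : ∀ a b : C, T.map (MulAut.conj a).toMonoidHom = T.map (MulAut.conj b).toMonoidHom ↔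
      a⁻¹ * b ∈ normalizer (T : Set C) := by
    intro a b
    rw [SetLike.ext_iff, mem_normalizer_iff]
    simp only [mem_conj_map]
    constructor
    · intro h x
      have h1 := h (b * x * b⁻¹)
      rw [show b⁻¹ * (b * x * b⁻¹) * b = x by group] at h1
      rw [← h1]
      rw [show a⁻¹ * b * x * (a⁻¹ * b)⁻¹ = a⁻¹ * (b * x * b⁻¹) * a by group]
    · intro h y
      have h1 := h (b⁻¹ * y * b)
      rw [show a⁻¹ * b * (b⁻¹ * y * b) * (a⁻¹ * b)⁻¹ = a⁻¹ * y * a by group] at h1
      exact h1.symm
  rw [Subgroup.index]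
  refine (Nat.card_congr (Equiv.ofBijective
    (Quotient.lift (fun g : C => (⟨T.map (MulAut.conj g).toMonoidHom, g, rfl⟩ :
      Set.range fun g : C => T.map (MulAut.conj g).toMonoidHom))
      fun a b hab => Subtype.ext ((key a b).2 (QuotientGroup.leftRel_apply.1 hab))) ⟨?_, ?_⟩)).symm
  · intro a b h
    induction a using QuotientGroup.induction_on with | _ a =>
    induction b using QuotientGroup.induction_on with | _ b =>
    exact QuotientGroup.eq.2 ((key a b).1 (congrArg Subtype.val h))
  · rintro ⟨_, g, rfl⟩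
    exact ⟨(g : C ⧸ normalizer (T : Set C)), rfl⟩

/-- A coprime group of linear maps of a plane either has an abelian normal subgroup of index at
most two, or it has one of three types modulo scalars. -/
theorem plane_dichotomy (hσ : Function.Injective σ) (hW : Module.finrank K W = 2)
    (hC : (Nat.card C : K) ≠ 0) (h2 : (2 : K) ≠ 0) :
    (∃ T : Subgroup C, T.Normal ∧ IsMulCommutative T ∧ T.index ≤ 2) ∨
      ∃ g m : ℕ, (g, m) ∈ excTypes ∧ Nat.card C = g * Nat.card (scalars σ) ∧
        2 * Nat.card (ConjClasses C) = m * Nat.card (scalars σ) ∧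
        ∀ x : C, ∃ j, 1 ≤ j ∧ j ≤ 5 ∧ x ^ j ∈ scalars σ := by
  classical
  haveI := Fintype.ofFinite C
  set Z := scalars σ with hZ
  set z := Nat.card Z with hz
  by_cases htop : Z = ⊤
  · refine Or.inl ⟨⊤, inferInstance, ⟨⟨fun a b => Subtype.ext ?_⟩⟩, by rw [index_top]; omega⟩
    exact scalars_comm hσ (z := (b : C)) (htop.ge (mem_top (b : C))) a
  have hz0 : 0 < z := Nat.card_pos
  -- the maximal abelian subgroups
  let S : Finset C := univ.filter (· ∉ Z)
  let cz : C → Subgroup C := fun g => centralizer ({g} : Set C)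
  let 𝒯 : Finset (Subgroup C) := S.image cz
  have hmemT : ∀ T ∈ 𝒯, ∀ x ∈ T, x ∉ Z → cz x = T := by
    intro T hT x hx hxZ
    obtain ⟨g, hg, rfl⟩ := Finset.mem_image.1 hT
    exact centralizer_eq hσ hW (mem_filter.1 hg).2 hxZ hx
  have hZT : ∀ T ∈ 𝒯, Z ≤ T := by
    intro T hT
    obtain ⟨g, hg, rfl⟩ := Finset.mem_image.1 hT
    exact scalars_le_centralizer hσ g
  have hab : ∀ T ∈ 𝒯, IsMulCommutative T := by
    intro T hT
    obtain ⟨g, hg, rfl⟩ := Finset.mem_image.1 hT
    exact ⟨⟨fun a b => Subtype.ext (comm_of_commute hσ hW (mem_filter.1 hg).2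
      (mem_centralizer_singleton_iff.1 a.2) (mem_centralizer_singleton_iff.1 b.2))⟩⟩
  have hfib : ∀ T ∈ 𝒯, (S.filter fun g => cz g = T).card = Nat.card T - z := by
    intro T hT
    have e : S.filter (fun g => cz g = T) = (univ.filter (· ∈ T)) \ (univ.filter (· ∈ Z)) := by
      ext g
      simp only [S, mem_filter, mem_univ, true_and, mem_sdiff]
      constructor
      · rintro ⟨h1, rfl⟩
        exact ⟨mem_centralizer_singleton_iff.2 rfl, h1⟩
      · rintro ⟨h1, h2⟩
        exact ⟨h2, hmemT T hT g h1 h2⟩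
    have hsub : univ.filter (· ∈ Z) ⊆ univ.filter (· ∈ T) := fun g hg =>
      mem_filter.2 ⟨mem_univ _, hZT T hT (mem_filter.1 hg).2⟩
    rw [e, card_sdiff_of_subset hsub, ← Fintype.card_subtype, ← Fintype.card_subtype,
      ← Nat.card_eq_fintype_card, ← Nat.card_eq_fintype_card]
  -- orbits under conjugation
  let orb : Subgroup C → Finset (Subgroup C) := fun T =>
    univ.image fun g : C => T.map (MulAut.conj g).toMonoidHom
  have hcz : ∀ g a : C, (cz g).map (MulAut.conj a).toMonoidHom = cz (a * g * a⁻¹) := by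
    intro g a
    ext x
    simp only [cz, mem_conj_map, mem_centralizer_singleton_iff]
    constructor
    · intro h
      calc x * (a * g * a⁻¹) = a * (a⁻¹ * x * a * g) * a⁻¹ := by group
        _ = a * (g * (a⁻¹ * x * a)) * a⁻¹ := by rw [h]
        _ = _ := by group
    · intro h
      calc a⁻¹ * x * a * g = a⁻¹ * (x * (a * g * a⁻¹)) * a := by group
        _ = a⁻¹ * (a * g * a⁻¹ * x) * a := by rw [h]
        _ = _ := by group
  have horbT : ∀ T ∈ 𝒯, orb T ⊆ 𝒯 := by
    intro T hT U hU
    obtain ⟨g, hg, rfl⟩ := Finset.mem_image.1 hT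
    obtain ⟨a, -, rfl⟩ := Finset.mem_image.1 hU
    refine Finset.mem_image.2 ⟨a * g * a⁻¹, mem_filter.2 ⟨mem_univ _, fun h => ?_⟩, (hcz g a).symm⟩
    refine (mem_filter.1 hg).2 ?_
    have h' := scalars_comm hσ h a⁻¹
    rw [show a⁻¹ * (a * g * a⁻¹) = g * a⁻¹ by group, mul_left_inj] at h'
    exact h'.symm ▸ h
  have hself : ∀ T : Subgroup C, T ∈ orb T := fun T => Finset.mem_image.2 ⟨1, mem_univ _, by
    ext x; simp⟩
  have hmapmap : ∀ (T : Subgroup C) (a b : C),
      (T.map (MulAut.conj a).toMonoidHom).map (MulAut.conj b).toMonoidHom =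
        T.map (MulAut.conj (b * a)).toMonoidHom := by
    intro T a b
    rw [Subgroup.map_map]
    congr 1
    ext x
    simp [mul_assoc]
  have horb_eq : ∀ T U, U ∈ orb T → orb U = orb T := by
    intro T U hU
    obtain ⟨a, -, rfl⟩ := Finset.mem_image.1 hU
    ext W'
    simp only [orb, Finset.mem_image, mem_univ, true_and, hmapmap]
    constructor
    · rintro ⟨b, rfl⟩; exact ⟨b * a, rfl⟩
    · rintro ⟨b, rfl⟩; exact ⟨b * a⁻¹, by rw [inv_mul_cancel_right]⟩
  have horbcard : ∀ T : Subgroup C, (orb T).card = (normalizer (T : Set C)).index := by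
    intro T
    rw [← card_range_conj T, Nat.card_eq_fintype_card, ← Set.toFinset_card]
    congr 1
    ext U
    simp only [orb, Finset.mem_image, mem_univ, true_and, Set.mem_toFinset, Set.mem_range]
  let 𝒪 : Finset (Finset (Subgroup C)) := 𝒯.image orb
  have hrep : ∀ O ∈ 𝒪, ∃ T ∈ 𝒯, orb T = O := fun O hO => Finset.mem_image.1 hO
  choose! rep hrepT hrepO using hrep
  have hcardT : ∀ T U, U ∈ orb T → Nat.card U = Nat.card T := by
    intro T U hU
    obtain ⟨a, -, rfl⟩ := Finset.mem_image.1 hU
    exact Subgroup.card_map_of_injective (MulAut.conj a).injective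
  -- sums over the elements outside the scalars
  have hsum : ∀ F : ℕ → ℕ, ∑ g ∈ S, F (Nat.card (cz g)) = ∑ O ∈ 𝒪,
      (normalizer (rep O : Set C)).index * ((Nat.card (rep O) - z) * F (Nat.card (rep O))) := by
    intro F
    rw [← Finset.sum_fiberwise_of_maps_to (t := 𝒯) (g := cz) fun g hg => Finset.mem_image_of_mem _ hg]
    rw [Finset.sum_congr rfl fun T hT => by
      rw [Finset.sum_congr rfl fun g hg => by rw [(mem_filter.1 hg).2],
        Finset.sum_const, hfib T hT, smul_eq_mul]]
    rw [← Finset.sum_fiberwise_of_maps_to (t := 𝒪) (g := orb) fun T hT => Finset.mem_image_of_mem _ hT]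
    refine Finset.sum_congr rfl fun O hO => ?_
    have e : (𝒯.filter fun T => orb T = O) = O := by
      ext T
      rw [mem_filter]
      refine ⟨fun h => h.2 ▸ hself T, fun h => ?_⟩
      rw [← hrepO O hO] at h ⊢
      exact ⟨horbT _ (hrepT O hO) h, horb_eq _ _ h⟩
    rw [e]
    have hcongr : ∀ T ∈ O, (Nat.card T - z) * F (Nat.card T) =
        (Nat.card (rep O) - z) * F (Nat.card (rep O)) := by
      intro T hT
      rw [hcardT (rep O) T ((hrepO O hO).symm ▸ hT)]
    rw [Finset.sum_congr rfl hcongr, Finset.sum_const, smul_eq_mul]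
    congr 1
    rw [← horbcard, hrepO O hO]
  -- the data of an orbit
  let a : Finset (Subgroup C) → ℕ := fun O => Z.relIndex (rep O)
  let e : Finset (Subgroup C) → ℕ := fun O => (rep O).relIndex (normalizer (rep O : Set C))
  let c : Finset (Subgroup C) → ℕ := fun O => (normalizer (rep O : Set C)).index
  set g := Z.index with hg
  have hCcard : Nat.card C = g * z := by rw [mul_comm]; exact Z.card_mul_index.symm
  have hTa : ∀ O ∈ 𝒪, Nat.card (rep O) = a O * z := fun O hO => by
    rw [mul_comm, hz, ← Nat.card_congr (subgroupOfEquivOfLe (hZT _ (hrepT O hO))).toEquiv]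
    exact (Z.subgroupOf (rep O)).card_mul_index.symm
  have hca : ∀ O ∈ 𝒪, c O * a O * e O = g := by
    intro O hO
    refine Nat.eq_of_mul_eq_mul_right hz0 ?_
    rw [← hCcard, ← (normalizer (rep O : Set C)).card_mul_index,
      ← ((rep O).subgroupOf (normalizer (rep O : Set C))).card_mul_index,
      Nat.card_congr (subgroupOfEquivOfLe le_normalizer).toEquiv, hTa O hO]
    show _ = a O * z * e O * c O
    ring
  have ha2 : ∀ O ∈ 𝒪, 2 ≤ a O := by
    intro O hO
    have h0 : a O ≠ 0 := fun h => by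
      have := hTa O hO
      rw [h, zero_mul] at this
      exact (Nat.card_pos (α := rep O)).ne' this
    have h1 : a O ≠ 1 := by
      intro h
      obtain ⟨x, hx, hxT⟩ := Finset.mem_image.1 (hrepT O hO)
      refine (mem_filter.1 hx).2 ((relIndex_eq_one.1 h) ?_)
      rw [← hxT]
      exact mem_centralizer_singleton_iff.2 rfl
    omega
  have he : ∀ O ∈ 𝒪, e O = 1 ∨ e O = 2 := by
    intro O hO
    obtain ⟨x, hx, hxT⟩ := Finset.mem_image.1 (hrepT O hO)
    simp only [e, ← hxT]
    exact relIndex_normalizer hσ hW hC h2 (mem_filter.1 hx).2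
  have hScard : S.card = Nat.card C - z := by
    have e1 : S = univ \ univ.filter (· ∈ Z) := by ext; simp [S]
    rw [e1, card_sdiff_of_subset (subset_univ _), ← Fintype.card_subtype,
      Finset.card_univ, ← Nat.card_eq_fintype_card, ← Nat.card_eq_fintype_card]
  have hgsum : g = 1 + ∑ O ∈ 𝒪, c O * (a O - 1) := by
    have h1 := hsum fun _ => 1
    rw [Finset.sum_const, smul_eq_mul, mul_one, hScard, hCcard] at h1
    have h3 : (g - 1) * z = (∑ O ∈ 𝒪, c O * (a O - 1)) * z := by
      rw [Finset.sum_mul, Nat.sub_mul, one_mul, h1]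
      refine Finset.sum_congr rfl fun O hO => ?_
      rw [hTa O hO, mul_one, mul_assoc, Nat.sub_mul, one_mul]
    have := Nat.eq_of_mul_eq_mul_right hz0 h3
    have : g ≠ 0 := Subgroup.index_ne_zero_of_finite
    omega
  have hk : 2 * Nat.card (ConjClasses C) = (2 + ∑ O ∈ 𝒪, (3 - e O) * (a O - 1)) * z := by
    refine Nat.eq_of_mul_eq_mul_right (Nat.card_pos (α := C)) ?_
    rw [mul_assoc, ← card_comm_eq_card_conjClasses_mul_card]
    have h1 : Nat.card { q : C × C // Commute q.1 q.2 } = ∑ x : C, Nat.card (cz x) := by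
      rw [← Nat.card_sigma]
      exact Nat.card_congr
        { toFun := fun q => ⟨q.1.1, q.1.2, mem_centralizer_singleton_iff.2 q.2.symm.eq⟩
          invFun := fun q => ⟨(q.1, q.2.1), (mem_centralizer_singleton_iff.1 q.2.2).symm⟩
          left_inv := fun _ => rfl
          right_inv := fun _ => rfl }
    have h2 : ∑ x ∈ univ.filter (· ∈ Z), Nat.card (cz x) = z * Nat.card C := by
      rw [Finset.sum_congr rfl fun x hx => show Nat.card (cz x) = Nat.card C from ?_,
        Finset.sum_const, smul_eq_mul, ← Fintype.card_subtype, ← Nat.card_eq_fintype_card]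
      rw [show cz x = ⊤ from eq_top_iff.2 fun y _ => mem_centralizer_singleton_iff.2
        (scalars_comm hσ (mem_filter.1 hx).2 y), Subgroup.card_top]
    rw [h1, ← Finset.sum_filter_add_sum_filter_not univ (· ∈ Z), h2,
      show univ.filter (fun x => ¬ x ∈ Z) = S from rfl, hsum fun t => t, mul_add, Finset.mul_sum,
      add_mul 2, add_mul, Finset.sum_mul, Finset.sum_mul]
    congr 1
    · ring
    refine Finset.sum_congr rfl fun O hO => ?_
    change 2 * (c O * ((Nat.card (rep O) - z) * Nat.card (rep O))) = _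
    rw [hTa O hO, show a O * z - z = (a O - 1) * z by rw [Nat.sub_mul, one_mul], hCcard,
      ← hca O hO]
    rcases he O hO with h | h <;> rw [h] <;> ring
  have hg2 : 2 ≤ g := by
    have h1 : g ≠ 1 := fun h => htop (index_eq_one.1 h)
    have h0 : g ≠ 0 := Subgroup.index_ne_zero_of_finite
    omega
  rcases types 𝒪 a e c hg2 ha2 he hca hgsum with ⟨O, hO, hcO⟩ | ⟨hexc, h5⟩
  · left
    have hN := index_eq_one.1 hcO
    refine ⟨rep O, normalizer_eq_top_iff.1 hN, hab _ (hrepT O hO), ?_⟩
    have h := he O hO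
    simp only [e, hN, relIndex_top_right] at h
    omega
  · right
    refine ⟨g, _, hexc, hCcard, hk, fun x => ?_⟩
    by_cases hx : x ∈ Z
    · exact ⟨1, le_rfl, by norm_num, by rwa [pow_one]⟩
    have hT : cz x ∈ 𝒯 := Finset.mem_image_of_mem _ (mem_filter.2 ⟨mem_univ _, hx⟩)
    set O := orb (cz x)
    have hO : O ∈ 𝒪 := Finset.mem_image_of_mem _ hT
    refine ⟨a O, le_trans one_le_two (ha2 O hO), h5 O hO, ?_⟩
    have hrel : Z.relIndex (cz x) = a O := by
      refine Nat.eq_of_mul_eq_mul_right hz0 ?_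
      rw [← hTa O hO, hcardT (cz x) (rep O) (by have := hself (rep O); rwa [hrepO O hO] at this), mul_comm, hz,
        ← Nat.card_congr (subgroupOfEquivOfLe (hZT _ hT)).toEquiv]
      exact (Z.subgroupOf (cz x)).card_mul_index
    haveI : (Z.subgroupOf (cz x)).Normal := ⟨fun y hy w => by
      rw [mem_subgroupOf] at hy ⊢
      rwa [Subgroup.coe_mul, Subgroup.coe_mul, Subgroup.coe_inv, scalars_comm hσ hy,
        mul_inv_cancel_right]⟩
    have h := (Z.subgroupOf (cz x)).pow_index_mem ⟨x, mem_centralizer_singleton_iff.2 rfl⟩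
    rw [mem_subgroupOf, SubgroupClass.coe_pow] at h
    exact hrel ▸ h

end CfsgLib.CoprimeTrans
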