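import Cfsg.Agent.Lib.CoprimeTrans.Large
import Cfsg.Agent.Lib.CoprimeTrans.Arith
import Cfsg.Agent.Lib.CoprimeTrans.PlaneCount
import Cfsg.Agent.Lib.CoprimeTrans.SolvableSemi
import Cfsg.Agent.Lib.LinSmall.Local
import Cfsg.Agent.Lib.PF.OddOrder

/-!
# Coprime transitive linear groups: the classification
-/

set_option autoImplicit false
set_option linter.style.haveILetI false
set_option synthInstance.maxHeartbeats 100000
set_option maxHeartbeats 1000000

noncomputable section

namespace CfsgLib.CoprimeTrans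

open Subgroup CfsgLib.TransLinear CfsgLib.NumberTheory CfsgLib.LinSmall CfsgLib.SmallDegree
open CfsgLib.Characters

universe u

/-- A transport of a representation on a finite dimensional space to coordinates. -/
theorem exists_irr_char {K : Type u} [Group K] [Finite K] {W : Type*} [AddCommGroup W] [Module ℂ W]
    [FiniteDimensional ℂ W] (τ : Representation ℂ K W) (hτ : τ.IsIrreducible)
    (hinj : Function.Injective τ) :
    ∃ χ : Cfsg.IrrCharacter K, Cfsg.charDegree (χ : K → ℂ) = Module.finrank ℂ W ∧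
      ∀ g : K, (χ : K → ℂ) g = (χ : K → ℂ) 1 → g = 1 := by
  haveI := Fintype.ofFinite K
  set d := Module.finrank ℂ W
  let e := (Module.finBasis ℂ W).equivFun
  set τ' := transportRep τ e with hτ'
  have hirr : τ'.IsIrreducible := by
    rw [CfsgLib.Characters.isIrreducible_iff] at hτ ⊢
    obtain ⟨hne, hsub⟩ := hτ
    haveI := hne
    refine ⟨e.injective.nontrivial, fun T hT => ?_⟩
    have h := hsub (T.map e.symm.toLinearMap) fun g w hw => by
      obtain ⟨t, ht, rfl⟩ := hw
      refine ⟨τ' g t, hT g t ht, ?_⟩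
      show e.symm (τ' g t) = τ g (e.symm t)
      rw [hτ', transportRep_apply, LinearEquiv.conj_apply_apply, LinearEquiv.symm_apply_apply]
    rcases h with h | h
    · exact Or.inl (Submodule.map_injective_of_injective e.symm.injective
        (h.trans (Submodule.map_bot _).symm))
    · exact Or.inr (Submodule.map_injective_of_injective e.symm.injective
        (h.trans (by rw [Submodule.map_top, LinearEquiv.range])))
  refine ⟨⟨τ'.character, _, τ', hirr, rfl⟩, ?_, fun g hg => hinj ?_⟩
  · refine LinearTwist.charDegree_eq_of_apply_one (n := d) ?_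
    show τ'.character 1 = _
    rw [Representation.char_one, Module.finrank_fin_fun]
  · change τ'.character g = τ'.character 1 at hg
    rw [Representation.char_one] at hg
    have h := (char_eq_degree_iff τ' g).1 hg
    rw [map_one τ]
    refine e.conj.injective ?_
    rw [← transportRep_apply, ← hτ', h]
    exact (LinearEquiv.conj_id _).symm

/-- Degree six: the Sylow `13`-subgroups of a `3'`-group are normal. -/
theorem ns_thirteen {G : Type u} [Group G] [Finite G] [Fact (Nat.Prime 13)]
    (σ : Representation ℂ G (Fin 6 → ℂ)) (hσ : Function.Injective σ) (h3 : ¬ 3 ∣ Nat.card G) :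
    NS 13 G := by
  refine normal_sylow σ hσ (Or.inr ⟨by norm_num, fun K hK => ?_⟩)
  by_contra hns
  obtain ⟨W, hW, hirr, hnsQ, hdim⟩ :=
    exists_big (σ.comp K.subtype) (hσ.comp K.subtype_injective) hns
  set τ := subRep (σ.comp K.subtype) W hW with hτ
  set N := (τ : K →* _).ker with hN
  have hW6 : Module.finrank ℂ W = 6 := by
    have h := W.finrank_le
    rw [Module.finrank_fin_fun] at h
    omega
  haveI := Fintype.ofFinite (K ⧸ N)
  let τq : Representation ℂ (K ⧸ N) W := QuotientGroup.lift N τ le_rfl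
  have hinj : Function.Injective τq := by
    intro a b hab
    obtain ⟨a, rfl⟩ := QuotientGroup.mk_surjective a
    obtain ⟨b, rfl⟩ := QuotientGroup.mk_surjective b
    rw [QuotientGroup.lift_mk, QuotientGroup.lift_mk] at hab
    refine QuotientGroup.eq.2 (MonoidHom.mem_ker.2 ?_)
    rw [map_mul, ← hab, ← map_mul, inv_mul_cancel, map_one]
  have hirrq : τq.IsIrreducible := by
    rw [CfsgLib.Characters.isIrreducible_iff] at hirr ⊢
    exact ⟨hirr.1, fun T hT => hirr.2 T fun g v hv => hT (g : K ⧸ N) v hv⟩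
  obtain ⟨χ, hdeg, hfaith⟩ := exists_irr_char τq hirrq hinj
  have hcardQ : Nat.card (K ⧸ N) ∣ Nat.card K :=
    Subgroup.card_dvd_of_surjective (QuotientGroup.mk' N) (QuotientGroup.mk'_surjective N)
  obtain ⟨x, hx⟩ : ∃ x : K ⧸ N, orderOf x = 13 := exists_orderOf_eq_of_not_ns' hnsQ
  have hsq : ¬ 13 ^ 2 ∣ Nat.card (K ⧸ N) := fun h => hK (h.trans hcardQ)
  have hnn : ∀ H : Subgroup (K ⧸ N), H.Normal → Nat.card H ≠ 13 := by
    intro H hH hHc
    apply hnsQ
    have hfac : (Nat.card (K ⧸ N)).factorization 13 = 1 := by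
      have h1 := (Nat.Prime.dvd_iff_one_le_factorization (Fact.out : Nat.Prime 13) Nat.card_pos.ne').1
        (hx ▸ orderOf_dvd_natCard x)
      have h2 : ¬ 2 ≤ (Nat.card (K ⧸ N)).factorization 13 := fun h2 =>
        hsq (((Fact.out : Nat.Prime 13).pow_dvd_iff_le_factorization Nat.card_pos.ne').2 h2)
      omega
    let S : Sylow 13 (K ⧸ N) := Sylow.ofCard H (by rw [hHc, hfac, pow_one])
    haveI := Sylow.unique_of_normal S hH
    intro Q
    rw [Subsingleton.elim Q S]
    exact hH
  obtain ⟨D, e, he, he2, -, he12, xm, -, -, hcases⟩ :=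
    local_structure hx hsq hnn χ hfaith (by rw [hdeg, hW6]; norm_num)
  rw [hdeg, hW6] at hcases
  rcases hcases with ⟨h6, -⟩ | ⟨h7, -⟩
  · subst h6
    refine h3 ((show 3 ∣ Nat.card D.muHom.range by rw [he]; norm_num).trans
      ((Subgroup.card_range_dvd _).trans ((Subgroup.card_subgroup_dvd_card _).trans
        (hcardQ.trans (Subgroup.card_subgroup_dvd_card K)))))
  · obtain rfl : e = 7 := by omega
    norm_num at he12
where
  exists_orderOf_eq_of_not_ns' {X : Type u} [Group X] [Finite X] {p : ℕ} [Fact p.Prime]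
      (h : ¬ NS p X) : ∃ y : X, orderOf y = p := by
    refine exists_prime_orderOf_dvd_card' p ?_
    by_contra hd
    refine h fun Q => ?_
    obtain ⟨k, hk⟩ := IsPGroup.iff_card.1 Q.isPGroup'
    rcases Nat.eq_zero_or_pos k with rfl | hk0
    · rw [show (Q : Subgroup X) = ⊥ from Subgroup.card_eq_one.1 (by simpa using hk)]
      infer_instance
    · exact absurd ((dvd_pow_self p hk0.ne').trans (hk ▸ Subgroup.card_subgroup_dvd_card _)) hd

variable {q : ℕ} [Fact q.Prime] {V : Type*} [AddCommGroup V] [Module (ZMod q) V] [Finite V]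
  {G : Type u} [Group G] [Finite G] {ρ : G →* (V ≃ₗ[ZMod q] V)}

/-- A normal abelian subgroup containing an element of order `r`, from a normal Sylow subgroup. -/
theorem exists_normal_abelian_mem {r : ℕ} [Fact r.Prime] (hdvd : r ∣ Nat.card G)
    (hns : ∀ Q : Sylow r G, (Q : Subgroup G).Normal) :
    ∃ A : Subgroup G, A.Normal ∧ IsMulCommutative A ∧ r ∣ Nat.card A := by
  obtain ⟨R⟩ : Nonempty (Sylow r G) := inferInstance
  haveI := hns R
  haveI : Nontrivial (R : Subgroup G) :=
    (Subgroup.nontrivial_iff_ne_bot _).2 (R.ne_bot_of_dvd_card hdvd)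
  haveI := R.isPGroup'.center_nontrivial
  refine ⟨(Subgroup.center (R : Subgroup G)).map (R : Subgroup G).subtype, inferInstance,
    ⟨⟨fun a b => Subtype.ext (by
      obtain ⟨a', -, ha⟩ := a.2
      obtain ⟨b', hb', hb⟩ := b.2
      show (a : G) * b = b * a
      rw [← ha, ← hb]
      exact congrArg Subtype.val (Subgroup.mem_center_iff.1 hb' a'))⟩⟩, ?_⟩
  rw [Subgroup.card_map_of_injective (R : Subgroup G).subtype_injective]
  obtain ⟨c, hc⟩ := IsPGroup.iff_card.1 (R.isPGroup'.to_subgroup (Subgroup.center (R : Subgroup G)))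
  rw [hc]
  refine dvd_pow_self r fun h0 => ?_
  have := Finite.one_lt_card (α := Subgroup.center (R : Subgroup G))
  rw [hc, h0, pow_zero] at this
  exact lt_irrefl 1 this

/-- A normal abelian subgroup whose field has half the degree, and an element of order a primitive
prime divisor: the group is semilinear. -/
theorem exists_semi_plane (hρ : Function.Injective ρ) (htr : Trans ρ) [Nontrivial V]
    (hcop : ¬ q ∣ Nat.card G) (hq2 : q ≠ 2) {A : Subgroup G} (hAn : A.Normal)
    (hAc : IsMulCommutative A) {d : ℕ} (hn : Module.finrank (ZMod q) V = 2 * d) (hd : 0 < d)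
    (had : deg ρ A = d) {r₀ : ℕ} (hr₀ : IsPPD r₀ q (Module.finrank (ZMod q) V)) (h5 : 5 ≤ r₀)
    (hexc : 7 ≤ r₀ ∨ q = 3) : ∃ C, Semi ρ C := by
  classical
  have hqp : q.Prime := Fact.out
  haveI := hAn
  obtain ⟨ha0, hAdvd, hidx⟩ := index_and_card hρ htr hAn hAc
  letI := algField htr hAn hAc
  haveI : Finite (alg ρ A) := Subtype.finite
  haveI : Module.Finite (alg ρ A) V := Module.Finite.of_finite
  have hmul : deg ρ A * Module.finrank (alg ρ A) V = Module.finrank (ZMod q) V :=
    Module.finrank_mul_finrank (ZMod q) (alg ρ A) V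
  have hW : Module.finrank (alg ρ A) V = 2 :=
    Nat.eq_of_mul_eq_mul_left hd (by rw [← had, hmul, hn, had, mul_comm])
  -- the centraliser acts linearly over the field
  set C := centralizer (A : Set G) with hC
  let σ : C →* Module.End (alg ρ A) V :=
    { toFun := fun c =>
        { toFun := act ρ c
          map_add' := map_add _
          map_smul' := fun r v => by
            show act ρ c ((r : Module.End (ZMod q) V) v) = (r : Module.End (ZMod q) V) (act ρ c v)
            rw [← Module.End.mul_apply, (commute_alg c.2 r.2).eq, Module.End.mul_apply] }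
      map_one' := LinearMap.ext fun v => by
        show act ρ (1 : G) v = v
        rw [map_one, Module.End.one_apply]
      map_mul' := fun a b => LinearMap.ext fun v => by
        show act ρ ((a : G) * b) v = act ρ a (act ρ b v)
        rw [map_mul, Module.End.mul_apply] }
  have hσ : Function.Injective σ := fun a b hab => Subtype.ext (act_injective ρ hρ
    (LinearMap.ext fun v => LinearMap.congr_fun hab v))
  haveI : CharP (alg ρ A) q := charP_of_injective_algebraMap' (ZMod q) q
  have hC0 : (Nat.card C : alg ρ A) ≠ 0 := fun h => hcop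
    (((CharP.cast_eq_zero_iff (alg ρ A) q _).1 h).trans (Subgroup.card_subgroup_dvd_card _))
  have h20 : (2 : alg ρ A) ≠ 0 := fun h => hq2 ((Nat.prime_dvd_prime_iff_eq hqp Nat.prime_two).1
    ((CharP.cast_eq_zero_iff (alg ρ A) q 2).1 (by exact_mod_cast h)))
  -- an element of order `r₀` lies there
  haveI : Fact r₀.Prime := ⟨hr₀.prime⟩
  have hn0 : 0 < Module.finrank (ZMod q) V := by omega
  obtain ⟨y, hy⟩ := exists_prime_orderOf_dvd_card' (G := G) r₀ (hr₀.2.1.trans (pow_sub_one_dvd htr))
  have hlt : d < r₀ := by have := hr₀.lt hqp.one_le hn0; omega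
  have hyC : y ∈ C := by
    have h1 := Subgroup.pow_index_mem C y
    have hco : Nat.Coprime C.index r₀ := ((hr₀.prime.coprime_iff_not_dvd).2 fun h => by
      have := Nat.le_of_dvd ha0 (h.trans hidx)
      omega).symm
    obtain ⟨e, he⟩ := exists_pow_eq_self_of_coprime (x := y) (n := C.index) (by rw [hy]; exact hco)
    rw [← he]
    exact pow_mem h1 e
  rcases plane_dichotomy hσ hW hC0 h20 with ⟨T, hTn, hTc, hT2⟩ | ⟨g, m, hexcT, hgC, -, hpow⟩
  · haveI := hTn
    have hmemT : ∀ z : C, (z : G) ^ r₀ = 1 → z ∈ T := by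
      intro z hz
      have h1 := Subgroup.pow_index_mem T z
      have hco : Nat.Coprime T.index (orderOf z) := by
        have hpos : 0 < T.index := Nat.pos_of_ne_zero Subgroup.index_ne_zero_of_finite
        refine Nat.Coprime.coprime_dvd_right (orderOf_dvd_of_pow_eq_one (Subtype.ext hz)) ?_
        refine ((hr₀.prime.coprime_iff_not_dvd).2 fun h => ?_).symm
        have := Nat.le_of_dvd hpos h
        omega
      obtain ⟨e, he⟩ := exists_pow_eq_self_of_coprime hco
      rw [← he]
      exact pow_mem h1 e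
    have hle : Subgroup.normalClosure ({y} : Set G) ≤ T.map C.subtype := by
      refine Subgroup.closure_le _ |>.2 fun w hw => ?_
      obtain ⟨a, ha, haw⟩ := Group.mem_conjugatesOfSet_iff.1 hw
      rw [Set.mem_singleton_iff.1 ha] at haw
      obtain ⟨b, rfl⟩ := isConj_iff.1 haw
      have hbC : b * y * b⁻¹ ∈ C := (inferInstance : C.Normal).conj_mem y hyC b
      refine ⟨⟨_, hbC⟩, hmemT _ ?_, rfl⟩
      show (b * y * b⁻¹) ^ r₀ = 1
      rw [conj_pow, ← hy, pow_orderOf_eq_one, mul_one, mul_inv_cancel]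
    refine exists_semi_of_irreducible_mem hρ htr
      (A := Subgroup.normalClosure ({y} : Set G)) Subgroup.normalClosure_normal ?_
      (Subgroup.subset_normalClosure rfl) (irreducible_of_orderOf hρ hr₀ hn0 hy)
    refine ⟨⟨fun a b => Subtype.ext ?_⟩⟩
    obtain ⟨a', ha', ha⟩ := hle a.2
    obtain ⟨b', hb', hb⟩ := hle b.2
    show (a : G) * b = b * a
    rw [← ha, ← hb]
    exact congrArg Subtype.val (congrArg Subtype.val (hTc.is_comm.comm ⟨a', ha'⟩ ⟨b', hb'⟩))
  · exfalso
    rcases hexc with h7 | h3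
    swap
    · have h3g : 3 ∣ g := by
        simp only [excTypes, List.mem_cons, Prod.mk.injEq, List.not_mem_nil, or_false] at hexcT
        omega
      exact hcop (h3 ▸ (h3g.trans (Dvd.intro _ hgC.symm)).trans (Subgroup.card_subgroup_dvd_card _))
    obtain ⟨j, hj1, hj5, hj⟩ := hpow ⟨y, hyC⟩
    have hyo : orderOf (⟨y, hyC⟩ : C) = r₀ := by rw [← Subgroup.orderOf_coe, hy]
    have hyS : (⟨y, hyC⟩ : C) ∈ scalars σ := by
      obtain ⟨e, he⟩ := exists_pow_eq_self_of_coprime (x := (⟨y, hyC⟩ : C)) (n := j) (by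
        rw [hyo]
        exact ((hr₀.prime.coprime_iff_not_dvd).2 fun h => by
          have := Nat.le_of_dvd hj1 h
          omega).symm)
      rw [← he]
      exact pow_mem hj e
    obtain ⟨c, hc⟩ := hyS
    obtain ⟨v, hv⟩ := exists_ne (0 : V)
    have hcord : c ^ r₀ = 1 := by
      have h1 : (σ ⟨y, hyC⟩) ^ r₀ = 1 := by rw [← map_pow, ← hyo, pow_orderOf_eq_one, map_one]
      rw [hc, smul_pow, one_pow] at h1
      have h2 := LinearMap.congr_fun h1 v
      simp only [LinearMap.smul_apply, Module.End.one_apply] at h2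
      exact smul_left_injective (alg ρ A) hv (h2.trans (one_smul (alg ρ A) v).symm)
    have hc1 : c ≠ 1 := by
      intro h1
      rw [h1, one_smul, ← map_one σ] at hc
      have := hσ hc
      rw [this, orderOf_one] at hyo
      exact hr₀.prime.ne_one hyo.symm
    have hcu : IsUnit c := IsUnit.of_pow_eq_one hcord hr₀.prime.ne_zero
    have hord : orderOf hcu.unit = r₀ :=
      orderOf_eq_prime (Units.ext (by rw [Units.val_pow_eq_pow_val, IsUnit.unit_spec]; exact hcord))
        (fun h => hc1 (by rw [← hcu.unit_spec, h, Units.val_one]))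
    have h3 := orderOf_dvd_natCard hcu.unit
    rw [hord, Nat.card_units, Module.natCard_eq_pow_finrank (K := ZMod q) (V := alg ρ A),
      Nat.card_zmod] at h3
    have := Nat.le_of_dvd hd
      (had ▸ (hr₀.dvd_pow_sub_one_iff hqp.one_le hn0 (deg ρ A)).1 h3)
    omega

/-- An element of order a primitive prime divisor for twice the degree of a field in a coprime
semilinear plane makes the group semilinear. -/
theorem exists_semi_half (hρ : Function.Injective ρ) (htr : Trans ρ) [Nontrivial V]
    (hcop : ¬ q ∣ Nat.card G) (hq2 : q ≠ 2) {d : ℕ}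
    (hn : Module.finrank (ZMod q) V = 2 * d) (hd : 0 < d) {r' r₀ : ℕ} [Fact r'.Prime]
    (hr' : IsPPD r' q d) (hns : ∀ Q : Sylow r' G, (Q : Subgroup G).Normal)
    (hr₀ : IsPPD r₀ q (Module.finrank (ZMod q) V)) (h7 : 7 ≤ r₀) : ∃ C, Semi ρ C := by
  classical
  have hqp : q.Prime := Fact.out
  obtain ⟨A, hAn, hAc, hrA⟩ := exists_normal_abelian_mem (r := r')
    ((hr'.2.1.trans (Nat.pow_sub_one_dvd_pow_sub_one q ⟨2, by rw [hn]; ring⟩)).trans
      (pow_sub_one_dvd htr)) hns
  obtain ⟨ha0, hAdvd, -⟩ := index_and_card hρ htr hAn hAc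
  by_cases hbig : Module.finrank (ZMod q) V ≤ deg ρ A
  · exact ⟨_, semi_centralizer hρ htr hAn hAc hbig⟩
  have hdA : d ∣ deg ρ A := (hr'.dvd_pow_sub_one_iff hqp.one_le hd _).1 (hrA.trans hAdvd)
  refine exists_semi_plane hρ htr hcop hq2 hAn hAc hn hd ?_ hr₀ (by omega) (Or.inl h7)
  obtain ⟨c, hc⟩ := hdA
  rw [hc, hn] at hbig
  have h1 : c < 2 := by
    by_contra h
    have : d * 2 ≤ d * c := Nat.mul_le_mul_left _ (by omega)
    omega
  interval_cases c
  · rw [hc] at ha0; omega
  · rw [hc, mul_one]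

/-- The plane exceptions. -/
def ExcTwo (ρ : G →* (V ≃ₗ[ZMod q] V)) : Prop :=
  ∃ g m : ℕ, (g, m) ∈ excTypes ∧ Nat.card G = g * Nat.card (scalars (act ρ)) ∧
    2 * Nat.card (ConjClasses G) = m * Nat.card (scalars (act ρ)) ∧
    ∀ x : G, ∃ j, 1 ≤ j ∧ j ≤ 5 ∧ x ^ j ∈ scalars (act ρ)

/-- A coprime transitive group is semilinear, an exceptional plane group, or `q ^ n = 81`. -/
theorem classify (hρ : Function.Injective ρ) (htr : Trans ρ) [Nontrivial V]
    (hcop : ¬ q ∣ Nat.card G) :
    (∃ C, Semi ρ C) ∨ (q ≠ 2 ∧ Module.finrank (ZMod q) V = 2 ∧ ExcTwo ρ) ∨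
      (q = 3 ∧ Module.finrank (ZMod q) V = 4 ∧ ¬ 13 ∣ Nat.card G) := by
  classical
  by_cases hsemi : ∃ C, Semi ρ C
  · exact Or.inl hsemi
  right
  have hqp : q.Prime := Fact.out
  haveI : Module.Finite (ZMod q) V := Module.Finite.of_finite
  set n := Module.finrank (ZMod q) V with hn
  have hn0 : 0 < n := Module.finrank_pos
  by_cases hq2 : q = 2
  · exfalso
    subst hq2
    have hodd : Odd (Nat.card G) := Nat.odd_iff.2 (by omega)
    rcases TransLinear.huppert_semi (CfsgLib.PF.oddSolvable G hodd) hρ htr with h | h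
    · exact hsemi h
    · rw [Module.natCard_eq_pow_finrank (K := ZMod 2) (V := V), Nat.card_zmod, ← hn] at h
      have he : 2 ∣ 2 ^ n := dvd_pow_self 2 hn0.ne'
      simp only [Set.mem_insert_iff, Set.mem_singleton_iff] at h
      omega
  have hn1 : n ≠ 1 := fun h => hsemi (exists_semi_of_finrank_one hρ htr h)
  by_cases hn2 : n = 2
  · refine Or.inl ⟨hq2, hn2, ?_⟩
    have hC0 : (Nat.card G : ZMod q) ≠ 0 := fun h => hcop ((ZMod.natCast_eq_zero_iff _ _).1 h)
    have h20 : (2 : ZMod q) ≠ 0 := fun h => hq2 ((Nat.prime_dvd_prime_iff_eq hqp Nat.prime_two).1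
      ((ZMod.natCast_eq_zero_iff 2 q).1 (by exact_mod_cast h)))
    rcases plane_dichotomy (σ := act ρ) (act_injective ρ hρ) hn2 hC0 h20 with ⟨T, hTn, hTc, hT2⟩ | h
    · exfalso
      refine hsemi ⟨_, semi_centralizer hρ htr hTn hTc ?_⟩
      by_contra hlt
      obtain ⟨ha0, hTd, -⟩ := index_and_card hρ htr hTn hTc
      have ha1 : deg ρ T = 1 := by omega
      rw [ha1, pow_one] at hTd
      have h1 := Nat.le_of_dvd (by have := hqp.two_le; omega) hTd
      have h2 := Nat.le_of_dvd Nat.card_pos (pow_sub_one_dvd htr)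
      rw [← hn, hn2, ← T.card_mul_index] at h2
      have h3 : Nat.card T * T.index ≤ (q - 1) * 2 := Nat.mul_le_mul h1 hT2
      obtain ⟨t, ht⟩ := Nat.exists_eq_add_of_le hqp.two_le
      have h4 : 2 * q ≤ q ^ 2 := by rw [pow_two]; exact Nat.mul_le_mul_right _ hqp.two_le
      omega
    · exact h
  have hn3 : 3 ≤ n := by omega
  have hB := mem_five hqp hq2 hn3 fun m hm hlow => dvd_of_not_semi hρ htr hcop
    (fun C hC => hsemi ⟨C, hC⟩) hn0 hm hlow
  have hppd : ∀ {r a k : ℕ}, r.Prime → 1 ≤ a → 0 < k → r ∣ a ^ k - 1 →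
      (∀ i < k, 1 ≤ i → ¬ r ∣ a ^ i - 1) → IsPPD r a k :=
    fun hr _ _ hd hl => ⟨hr, hd, fun i h1 h2 => hl i h2 h1⟩
  have hhalf : ∀ {d r' r₀ : ℕ}, n = 2 * d → 2 * n + 1 < r' → IsPPD r' q d → IsPPD r₀ q n →
      7 ≤ r₀ → False := by
    intro d r' r₀ hd hlt hr' hr₀ h7
    haveI : Fact r'.Prime := ⟨hr'.prime⟩
    obtain ⟨σ, hσ⟩ := exists_complex_rep hcop ρ hρ
    exact hsemi (exists_semi_half hρ htr hcop hq2 hd (by omega) hr'
      (ns_of_lt_half σ hσ (by rw [Module.finrank_fin_fun]; exact hlt)) hr₀ h7)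
  simp only [List.mem_cons, Prod.mk.injEq, List.not_mem_nil, or_false] at hB
  rcases hB with ⟨hq, hn'⟩ | ⟨hq, hn'⟩ | ⟨hq, hn'⟩ | ⟨hq, hn'⟩ | ⟨hq, hn'⟩
  · refine Or.inr ⟨hq, hn', fun h13 => hsemi ?_⟩
    obtain ⟨σ, hσ⟩ := exists_complex_rep hcop ρ hρ
    haveI : Fact (Nat.Prime 13) := ⟨by norm_num⟩
    obtain ⟨A, hAn, hAc, h13A⟩ := exists_normal_abelian_mem (r := 13) h13
      (ns_of_lt_half σ hσ (by rw [Module.finrank_fin_fun, ← hn, hn']; norm_num))
    obtain ⟨ha0, hAdvd, -⟩ := index_and_card hρ htr hAn hAc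
    refine ⟨_, semi_centralizer hρ htr hAn hAc ?_⟩
    have hr : IsPPD 13 q 3 := by
      subst hq
      exact ⟨by norm_num, by norm_num, fun i h1 h2 => by interval_cases i <;> norm_num⟩
    obtain ⟨c, hc⟩ := (hr.dvd_pow_sub_one_iff hqp.one_le (by norm_num) _).1 (h13A.trans hAdvd)
    letI := algField htr hAn hAc
    haveI : Module.Finite (alg ρ A) V := Module.Finite.of_finite
    have hmul : deg ρ A * Module.finrank (alg ρ A) V = n :=
      Module.finrank_mul_finrank (ZMod q) (alg ρ A) V
    exfalso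
    have h3 : 3 ∣ n := ⟨c * Module.finrank (alg ρ A) V, by rw [← hmul, hc, mul_assoc]⟩
    omega
  · exfalso
    subst hq
    haveI : Fact (Nat.Prime 13) := ⟨by norm_num⟩
    obtain ⟨σ', hσ'⟩ : ∃ σ' : Representation ℂ G (Fin 6 → ℂ), Function.Injective σ' := by
      have h := exists_complex_rep hcop ρ hρ
      rw [← hn, hn'] at h
      exact h
    exact hsemi (exists_semi_half (r₀ := 7) hρ htr hcop hq2 (d := 3) (by rw [← hn, hn']) (by norm_num)
      (r' := 13) ⟨by norm_num, by norm_num, fun i h1 h2 => by interval_cases i <;> norm_num⟩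
      (ns_thirteen σ' hσ' hcop)
      ⟨by norm_num, by rw [← hn, hn']; norm_num, fun i h1 h2 => by
        rw [← hn, hn'] at h2; interval_cases i <;> norm_num⟩ le_rfl)
  · exfalso
    subst hq
    exact hhalf (d := 3) (r' := 31) (r₀ := 7) hn' (by omega)
      ⟨by norm_num, by norm_num, fun i h1 h2 => by interval_cases i <;> norm_num⟩
      ⟨by norm_num, by rw [hn']; norm_num, fun i h1 h2 => by
        rw [hn'] at h2; interval_cases i <;> norm_num⟩ le_rfl
  · exfalso
    subst hq
    exact hhalf (d := 3) (r' := 307) (r₀ := 7) hn' (by omega)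
      ⟨by norm_num, by norm_num, fun i h1 h2 => by interval_cases i <;> norm_num⟩
      ⟨by norm_num, by rw [hn']; norm_num, fun i h1 h2 => by
        rw [hn'] at h2; interval_cases i <;> norm_num⟩ le_rfl
  · exfalso
    subst hq
    exact hhalf (d := 9) (r' := 757) (r₀ := 19) hn' (by omega)
      ⟨by norm_num, by norm_num, fun i h1 h2 => by interval_cases i <;> norm_num⟩
      ⟨by norm_num, by rw [hn']; norm_num, fun i h1 h2 => by
        rw [hn'] at h2; interval_cases i <;> norm_num⟩ (by norm_num)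

end CfsgLib.CoprimeTrans
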