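import Cfsg.Agent.Lib.CoprimeTrans.RegClasses
import Cfsg.Agent.Lib.Frobenius.Action
import Mathlib.NumberTheory.Divisors
import Mathlib.GroupTheory.Sylow

/-!
# Two extra classes over the exceptional group of order `11² · 120`
-/

set_option autoImplicit false
set_option linter.style.haveILetI false

namespace CfsgLib.CoprimeTrans

open Subgroup

/-- A group of order `p²` whose nontrivial elements are all conjugate in `Q` acts trivially on an
abelian group on which `Q` is transitive. -/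
theorem le_ker_of_transitive {Q N : Type*} [Group Q] [Finite Q] [CommGroup N] [Finite N]
    [Nontrivial N] {p : ℕ} [hp : Fact p.Prime] (φ : Q →* MulAut N) (P : Subgroup Q) [P.Normal]
    (hPcard : Nat.card P = p ^ 2) (hexp : ∀ v ∈ P, v ^ p = 1)
    (hab : ∀ a ∈ P, ∀ b ∈ P, a * b = b * a)
    (htrP : ∀ v ∈ P, ∀ w ∈ P, v ≠ 1 → w ≠ 1 → ∃ g : Q, g * v * g⁻¹ = w)
    (htrN : ∀ a b : N, a ≠ 1 → b ≠ 1 → ∃ g : Q, φ g a = b) : P ≤ φ.ker := by
  classical
  have hcomp : ∀ (a b : Q) (n : N), φ (a * b) n = φ a (φ b n) := fun a b n => by rw [map_mul]; rfl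
  by_contra hle
  have hne : ∀ s ∈ P, s ≠ 1 → φ s ≠ 1 := by
    intro s hs hs1 h
    refine hle fun u hu => ?_
    by_cases hu1 : u = 1
    · exact hu1 ▸ one_mem _
    obtain ⟨g, rfl⟩ := htrP s hs u hu hs1 hu1
    rw [MonoidHom.mem_ker, map_mul, map_mul, h, mul_one, ← map_mul, mul_inv_cancel, map_one]
  -- some nontrivial element fixes a nontrivial element
  obtain ⟨s₀, hs₀, hs₀1, m, hm, hsm⟩ :
      ∃ s ∈ P, s ≠ 1 ∧ ∃ n : N, n ≠ 1 ∧ φ s n = n := by
    by_contra h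
    push Not at h
    letI : MulDistribMulAction P N := MulDistribMulAction.compHom N (φ.comp P.subtype)
    have hfpf : CfsgLib.Frobenius.IsFPF P N := fun a ha n hn => by
      by_contra hn1
      exact h a a.2 (fun e => ha (Subtype.ext e)) n hn1 hn
    haveI : IsMulCommutative P := ⟨⟨fun a b => Subtype.ext (hab a a.2 b b.2)⟩⟩
    haveI := hfpf.isCyclic_of_commutative
    obtain ⟨g, hg⟩ := IsCyclic.exists_generator (α := P)
    have h1 : orderOf g = p ^ 2 := (orderOf_eq_card_of_forall_mem_zpowers hg).trans hPcard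
    have h2 : orderOf g ∣ p := orderOf_dvd_of_pow_eq_one (Subtype.ext (hexp g g.2))
    have h3 := Nat.le_of_dvd hp.out.pos (h1 ▸ h2)
    nlinarith [hp.out.two_le]
  let L : N → Subgroup Q := fun n => P ⊓ (MulAction.stabilizer (MulAut N) n).comap φ
  have hmemL : ∀ (n : N) (s : Q), s ∈ L n ↔ s ∈ P ∧ φ s n = n := fun n s => Iff.rfl
  have hfull : ∀ n : N, (∀ s ∈ P, φ s n = n) → n = 1 := by
    intro n hn
    by_contra hn1
    refine hne s₀ hs₀ hs₀1 (MulEquiv.ext fun x => ?_)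
    show φ s₀ x = x
    by_cases hx : x = 1
    · rw [hx, map_one]
    obtain ⟨g, rfl⟩ := htrN n x hn1 hx
    have h1 := hn _ ((inferInstance : P.Normal).conj_mem s₀ hs₀ g⁻¹)
    rw [← hcomp, show s₀ * g = g * (g⁻¹ * s₀ * g⁻¹⁻¹) by group, hcomp, h1]
  have hexists : ∀ n : N, n ≠ 1 → ∃ s ∈ L n, s ≠ 1 := by
    intro n hn
    obtain ⟨g, rfl⟩ := htrN m n hm hn
    refine ⟨g * s₀ * g⁻¹, ⟨(inferInstance : P.Normal).conj_mem s₀ hs₀ g, ?_⟩, fun h => hs₀1 ?_⟩
    · show φ (g * s₀ * g⁻¹) (φ g m) = φ g m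
      rw [← hcomp, show g * s₀ * g⁻¹ * g = g * s₀ by group, hcomp, hsm]
    · exact conj_eq_one_iff.1 h
  have hcard : ∀ n : N, n ≠ 1 → Nat.card (L n) = p := by
    intro n hn
    obtain ⟨i, hi, hc⟩ := (Nat.dvd_prime_pow hp.out).1
      (hPcard ▸ Subgroup.card_dvd_of_le (inf_le_left : L n ≤ P))
    obtain ⟨s, hs, hs1⟩ := hexists n hn
    have hi0 : i ≠ 0 := fun h => hs1 (by
      rw [h, pow_zero, Subgroup.card_eq_one] at hc
      exact Subgroup.mem_bot.1 (hc.le hs))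
    have hi2 : i ≠ 2 := fun h => hn (hfull n fun s hs => by
      have he : L n = P := Subgroup.eq_of_le_of_card_ge inf_le_left (le_of_eq (by rw [hc, hPcard, h]))
      exact ((hmemL n s).1 (he ▸ hs)).2)
    rw [hc, show i = 1 by omega, pow_one]
  have hmeet : ∀ a b : N, a ≠ 1 → b ≠ 1 → L a ≠ L b → ∀ s, s ∈ L a → s ∈ L b → s = 1 := by
    intro a b ha hb hab' s hsa hsb
    by_contra hs
    have h1 : orderOf s = p := orderOf_eq_prime (hexp s hsa.1) hs
    refine hab' ((Subgroup.eq_of_le_of_card_ge (zpowers_le.2 hsa) ?_).symm.trans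
      (Subgroup.eq_of_le_of_card_ge (zpowers_le.2 hsb) ?_))
    · rw [hcard a ha, Nat.card_zpowers, h1]
    · rw [hcard b hb, Nat.card_zpowers, h1]
  obtain ⟨n₁, hn₁⟩ := exists_ne (1 : N)
  obtain ⟨n₂, hn₂, hL⟩ : ∃ n₂ : N, n₂ ≠ 1 ∧ L n₁ ≠ L n₂ := by
    by_contra h
    push Not at h
    obtain ⟨s, hs, hs1⟩ := hexists n₁ hn₁
    refine hne s hs.1 hs1 (MulEquiv.ext fun x => ?_)
    by_cases hx : x = 1
    · rw [hx, map_one, map_one]
    · exact ((hmemL x s).1 (h x hx ▸ hs)).2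
  have hgen : ∀ x ∈ P, ∃ u₁ ∈ L n₁, ∃ u₂ ∈ L n₂, u₁ * u₂ = x := by
    let f : L n₁ × L n₂ → P := fun u => ⟨u.1 * u.2, mul_mem u.1.2.1 u.2.2.1⟩
    have hf : Function.Injective f := by
      rintro ⟨a, b⟩ ⟨c, d⟩ h
      have h' : (a : Q) * b = c * d := congrArg Subtype.val h
      have h1 : (c : Q)⁻¹ * a = d * (b : Q)⁻¹ := by
        rw [eq_mul_inv_iff_mul_eq, mul_assoc, h', inv_mul_cancel_left]
      have h2 := hmeet n₁ n₂ hn₁ hn₂ hL _ (mul_mem (inv_mem c.2) a.2)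
        (h1 ▸ mul_mem d.2 (inv_mem b.2))
      refine Prod.ext (Subtype.ext (inv_mul_eq_one.1 h2).symm) (Subtype.ext ?_)
      exact (mul_inv_eq_one.1 (h1 ▸ h2)).symm
    have hb := hf.bijective_of_nat_card_le (by
      rw [Nat.card_prod, hcard _ hn₁, hcard _ hn₂, hPcard, pow_two])
    intro x hx
    obtain ⟨⟨a, b⟩, h⟩ := hb.2 ⟨x, hx⟩
    exact ⟨a, a.2, b, b.2, congrArg Subtype.val h⟩
  have hn12 : n₁ * n₂ ≠ 1 := fun h => hL (by
    ext s
    rw [hmemL, hmemL, ← inv_eq_of_mul_eq_one_right h, map_inv, inv_inj])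
  obtain ⟨u₃, hu₃, hu₃1⟩ := hexists _ hn12
  obtain ⟨u₁, hu₁, u₂, hu₂, hu⟩ := hgen u₃ hu₃.1
  have hcomm := hab u₁ hu₁.1 u₂ hu₂.1
  have hAB : φ u₂ n₁ * φ u₁ n₂ = n₁ * n₂ := by
    have h := hu₃.2
    change φ u₃ (n₁ * n₂) = n₁ * n₂ at h
    rw [← hu, map_mul (φ (u₁ * u₂))] at h
    rwa [hcomm, hcomp u₂ u₁ n₁, show φ u₁ n₁ = n₁ from hu₁.2, ← hcomm, hcomp u₁ u₂ n₂,
      show φ u₂ n₂ = n₂ from hu₂.2] at h
  have hw : φ u₂ n₁ * n₁⁻¹ = n₂ * (φ u₁ n₂)⁻¹ := by
    rw [mul_inv_eq_iff_eq_mul, mul_right_comm, eq_mul_inv_iff_mul_eq, hAB, mul_comm]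
  have hwfix : ∀ s ∈ P, φ s (φ u₂ n₁ * n₁⁻¹) = φ u₂ n₁ * n₁⁻¹ := by
    intro s hs
    obtain ⟨a, ha, b, hb, rfl⟩ := hgen s hs
    have h1 : φ a (φ u₂ n₁ * n₁⁻¹) = φ u₂ n₁ * n₁⁻¹ := by
      rw [map_mul, map_inv, ← hcomp, hab a ha.1 u₂ hu₂.1, hcomp, show φ a n₁ = n₁ from ha.2]
    have h2 : φ b (φ u₂ n₁ * n₁⁻¹) = φ u₂ n₁ * n₁⁻¹ := by
      rw [hw, map_mul, map_inv, ← hcomp, hab b hb.1 u₁ hu₁.1, hcomp, show φ b n₂ = n₂ from hb.2]
    rw [hcomp, h2, h1]
  have hu₂1 : u₂ ∈ L n₁ := ⟨hu₂.1, mul_inv_eq_one.1 (hfull _ hwfix)⟩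
  rw [hmeet n₁ n₂ hn₁ hn₂ hL u₂ hu₂1 hu₂, mul_one] at hu
  subst hu
  have h3 : φ u₁ n₂ = n₂ := by
    have h := hu₃.2
    change φ u₁ (n₁ * n₂) = n₁ * n₂ at h
    rw [map_mul, show φ u₁ n₁ = n₁ from hu₁.2] at h
    exact mul_left_cancel h
  exact hu₃1 (hmeet n₁ n₂ hn₁ hn₂ hL u₁ hu₁ ⟨hu₁.1, h3⟩)

theorem divisor_cases : ∀ d ∈ Nat.divisors 120, ∀ r : ℕ, r.Prime → r ∣ d + 1 → r ≠ 11 →
    (∀ s : ℕ, s.Prime → s ∣ 120 / d → s = r) →
    (∀ s : ℕ, s.Prime → s ∣ d + 1 → s = r) →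
    (d = 24 ∧ r = 5) ∨ (d = 15 ∧ r = 2) := by
  intro d hd r hr hrd h11 hs hs'
  have hr' : r ≤ d + 1 := Nat.le_of_dvd (by omega) hrd
  have h2 := hs 2 Nat.prime_two
  have h3 := hs 3 Nat.prime_three
  have h5 := hs 5 (by norm_num)
  have h2' := hs' 2 Nat.prime_two
  have h3' := hs' 3 Nat.prime_three
  have hdiv : d ∈ ({1, 2, 3, 4, 5, 6, 8, 10, 12, 15, 20, 24, 30, 40, 60, 120} : Finset ℕ) := by
    have : Nat.divisors 120 = {1, 2, 3, 4, 5, 6, 8, 10, 12, 15, 20, 24, 30, 40, 60, 120} := by decide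
    rwa [this] at hd
  simp only [Finset.mem_insert, Finset.mem_singleton] at hdiv
  rcases hdiv with rfl | rfl | rfl | rfl | rfl | rfl | rfl | rfl | rfl | rfl | rfl | rfl | rfl |
    rfl | rfl | rfl <;> norm_num at h2 h3 h5 h2' h3' hrd ⊢ <;>
    first
      | omega
      | (subst_vars; norm_num at hrd; done)
      | (have h := (Nat.prime_dvd_prime_iff_eq hr (by norm_num)).1 hrd; omega)
      | (have h := hr.dvd_of_dvd_pow (show r ∣ 11 ^ 2 by norm_num; exact hrd)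
         exact absurd ((Nat.prime_dvd_prime_iff_eq hr (by norm_num)).1 h) h11)

/-- Two extra classes of `11`-regular elements. -/
theorem eleven_extra {G : Type*} [Group G] [Finite G] [Fact (Nat.Prime 11)] (N : Subgroup G)
    [N.Normal] (hNcop : ¬ 11 ∣ Nat.card N) (hNbot : N ≠ ⊥) (hQ : Nat.card (G ⧸ N) = 14520)
    (P : Subgroup (G ⧸ N)) [P.Normal] (hPcard : Nat.card P = 11 ^ 2)
    (hexp : ∀ v ∈ P, v ^ 11 = 1) (hab : ∀ a ∈ P, ∀ b ∈ P, a * b = b * a)
    (htrP : ∀ v ∈ P, ∀ w ∈ P, v ≠ 1 → w ≠ 1 → ∃ g : G ⧸ N, g * v * g⁻¹ = w)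
    (t : G ⧸ N) (ht : orderOf t = 2) (htc : ∀ u : G ⧸ N, u * t * u⁻¹ * t⁻¹ ∈ P) :
    Nat.card (RegClass 11 (G ⧸ N)) + 2 ≤ Nat.card (RegClass 11 G) := by
  classical
  haveI : Fact (Nat.Prime 2) := ⟨Nat.prime_two⟩
  have hf : Function.Surjective (QuotientGroup.mk' N) := QuotientGroup.mk'_surjective N
  have hkerN : ∀ n ∈ N, QuotientGroup.mk' N n = 1 := fun n hn => (QuotientGroup.eq_one_iff n).2 hn
  have hreg : ∀ y : G, ¬ 11 ∣ orderOf (QuotientGroup.mk' N y) → ¬ 11 ∣ orderOf y := fun y hy =>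
    regular_of_map _ (by rwa [QuotientGroup.ker_mk']) hy
  have hregN : ∀ n ∈ N, ¬ 11 ∣ orderOf n := fun n hn => hreg n (by
    rw [hkerN n hn, orderOf_one]; norm_num)
  have hreg1 : ¬ 11 ∣ orderOf (1 : G) := by rw [orderOf_one]; norm_num
  have hnot1 : ∀ {n : G}, n ≠ 1 → ¬ IsConj 1 n := fun hn h => hn (isConj_one_right.1 h)
  obtain ⟨n₀, hn₀, hn₀1⟩ := (Subgroup.bot_or_exists_ne_one N).resolve_left hNbot
  by_cases htwo : ∃ a ∈ N, ∃ b ∈ N, a ≠ 1 ∧ b ≠ 1 ∧ ¬ IsConj a b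
  · obtain ⟨a, ha, b, hb, ha1, hb1, hnab⟩ := htwo
    exact card_add_two_le_regClass _ hf hreg1 (hregN a ha) (by rw [map_one, hkerN a ha]) hreg1
      (hregN b hb) (by rw [map_one, hkerN b hb]) (hnot1 ha1) (hnot1 hb1) (hnot1 hb1) (hnot1 ha1) hnab
  push Not at htwo
  -- one extra class over a nontrivial image suffices
  suffices hextra : ∃ y : G, QuotientGroup.mk' N y ≠ 1 ∧ ¬ 11 ∣ orderOf (QuotientGroup.mk' N y) ∧
      ∃ n ∈ N, ¬ IsConj y (y * n) by
    obtain ⟨y, hy1, hyp, n, hn, hyn⟩ := hextra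
    have hyn' : QuotientGroup.mk' N (y * n) = QuotientGroup.mk' N y := by
      rw [map_mul, hkerN n hn, mul_one]
    have hsep : ∀ {a b : G}, QuotientGroup.mk' N a = 1 → QuotientGroup.mk' N b ≠ 1 →
        ¬ IsConj a b := fun ha hb h => hb (isConj_one_right.1
      (ha ▸ (QuotientGroup.mk' N).map_isConj h))
    exact card_add_two_le_regClass _ hf hreg1 (hregN n₀ hn₀) (by rw [map_one, hkerN n₀ hn₀])
      (hreg y hyp) (hreg _ (hyn'.symm ▸ hyp)) hyn'.symm (hnot1 hn₀1) hyn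
      (hsep (map_one _) (hyn'.symm ▸ hy1))
      (fun h => hsep (hkerN n₀ hn₀) hy1 h.symm)
      (hsep (hkerN n₀ hn₀) (hyn'.symm ▸ hy1))
  -- the kernel is an elementary abelian group
  haveI : Nontrivial N := ⟨⟨n₀, hn₀⟩, 1, fun h => hn₀1 (congrArg Subtype.val h)⟩
  obtain ⟨r, hr, hrN⟩ := Nat.exists_prime_and_dvd (Finite.one_lt_card (α := N)).ne'
  haveI : Fact r.Prime := ⟨hr⟩
  have hr11 : r ≠ 11 := fun h => hNcop (h ▸ hrN)
  have hord : ∀ n ∈ N, n ≠ 1 → orderOf n = r := by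
    intro n hn hn1
    obtain ⟨z, hz⟩ := exists_prime_orderOf_dvd_card' (G := N) r hrN
    rw [← Subgroup.orderOf_coe] at hz
    obtain ⟨g, hg⟩ := isConj_iff.1 (htwo z z.2 n hn (fun h => hr.ne_one (by
      rw [← hz, h, orderOf_one])) hn1)
    rw [← hz, ← hg, ← MulAut.conj_apply, MulEquiv.orderOf_eq]
  have hNr : IsPGroup r N := fun n => ⟨1, Subtype.ext (by
    rw [pow_one, Subgroup.coe_pow, Subgroup.coe_one]
    by_cases h : (n : G) = 1
    · rw [h, one_pow]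
    · rw [← hord n n.2 h, pow_orderOf_eq_one])⟩
  have hNab : ∀ a ∈ N, ∀ b ∈ N, a * b = b * a := by
    intro a ha b hb
    by_cases ha1 : a = 1
    · rw [ha1, one_mul, mul_one]
    haveI := hNr.center_nontrivial
    obtain ⟨z, hz⟩ := exists_ne (1 : Subgroup.center N)
    let Z : Subgroup G := (Subgroup.center N).map N.subtype
    haveI : Z.Normal := inferInstance
    obtain ⟨g, hg⟩ := isConj_iff.1 (htwo _ (z : N).2 a ha
      (fun h => hz (Subtype.ext (Subtype.ext h))) ha1)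
    obtain ⟨a', ha', rfl⟩ := (hg ▸ (inferInstance : Z.Normal).conj_mem _ ⟨_, z.2, rfl⟩ g : a ∈ Z)
    exact (congrArg Subtype.val (Subgroup.mem_center_iff.1 ha' ⟨b, hb⟩)).symm
  letI : CommGroup N :=
    { (inferInstance : Group N) with mul_comm := fun a b => Subtype.ext (hNab a a.2 b b.2) }
  let φ : G ⧸ N →* MulAut N := QuotientGroup.lift N MulAut.conjNormal fun n hn =>
    MulEquiv.ext fun x => Subtype.ext (by
      rw [MulAut.conjNormal_apply, hNab n hn x x.2, mul_inv_cancel_right]; rfl)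
  have hφ : ∀ (g : G) (x : N), (φ (QuotientGroup.mk' N g) x : G) = g * x * g⁻¹ := fun g x =>
    MulAut.conjNormal_apply g x
  have htrN : ∀ a b : N, a ≠ 1 → b ≠ 1 → ∃ u : G ⧸ N, φ u a = b := by
    intro a b ha hb
    obtain ⟨g, hg⟩ := isConj_iff.1 (htwo a a.2 b b.2 (fun h => ha (Subtype.ext h))
      (fun h => hb (Subtype.ext h)))
    exact ⟨QuotientGroup.mk' N g, Subtype.ext ((hφ g a).trans hg)⟩
  have hPker : P ≤ φ.ker := le_ker_of_transitive φ P hPcard hexp hab htrP htrN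
  -- counting centralisers
  by_contra hno
  push Not at hno
  have hcount : ∀ u : G ⧸ N, u ≠ 1 → ¬ 11 ∣ orderOf u → ∀ F : Subgroup N,
      (∀ x ∈ F, φ u x = x) → Nat.card F * orderOf u ∣ 14520 := by
    intro u hu1 hu11 F hF
    obtain ⟨y, rfl⟩ := hf u
    have hall : ∀ n ∈ N, IsConj y (y * n) := hno y hu1 hu11
    set C := centralizer ({y} : Set G) with hC
    have hcard : Nat.card C ∣ 14520 := by
      rw [hC, card_centralizer_of_coset_conj N y hall, ← hQ]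
      exact Subgroup.card_subgroup_dvd_card _
    refine dvd_trans ?_ hcard
    let g := (QuotientGroup.mk' N).comp C.subtype
    rw [← (g.ker).card_mul_index, Subgroup.index_ker]
    refine Nat.mul_dvd_mul ?_ ?_
    · have hmem : ∀ x : F, ((x : N) : G) ∈ C := fun x => mem_centralizer_singleton_iff.2 (by
        have h := congrArg Subtype.val (hF x x.2)
        rw [hφ] at h
        exact (mul_inv_eq_iff_eq_mul.1 h).symm)
      let e : F →* g.ker :=
        { toFun := fun x => ⟨⟨_, hmem x⟩, hkerN _ (x : N).2⟩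
          map_one' := rfl
          map_mul' := fun _ _ => rfl }
      exact Subgroup.card_dvd_of_injective e fun a b h =>
        Subtype.ext (Subtype.ext (congrArg (fun z : g.ker => ((z : C) : G)) h))
    · exact Subgroup.orderOf_dvd_natCard _ ⟨⟨y, mem_centralizer_singleton_iff.2 rfl⟩, rfl⟩
  -- stabilisers
  let m₀ : N := ⟨n₀, hn₀⟩
  have hm₀ : m₀ ≠ 1 := fun h => hn₀1 (congrArg Subtype.val h)
  let E : Subgroup (G ⧸ N) := (MulAction.stabilizer (MulAut N) m₀).comap φ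
  have hEidx : E.index = Nat.card N - 1 := by
    letI : MulAction (G ⧸ N) N := MulAction.compHom N φ
    have hE : MulAction.stabilizer (G ⧸ N) m₀ = E := rfl
    rw [← hE, MulAction.index_stabilizer]
    have horb : MulAction.orbit (G ⧸ N) m₀ = ({1} : Set N)ᶜ := by
      ext x
      refine ⟨?_, fun hx => htrN m₀ x hm₀ hx⟩
      rintro ⟨u, rfl⟩ h
      exact hm₀ ((φ u).map_eq_one_iff.1 h)
    rw [horb, Set.ncard_compl, Set.ncard_singleton]
  have hPE : P ≤ E := fun s hs => by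
    show φ s m₀ = m₀
    rw [show φ s = 1 from hPker hs]
    rfl
  obtain ⟨e, he⟩ : 121 ∣ Nat.card E := by simpa [hPcard] using Subgroup.card_dvd_of_le hPE
  have hmul := E.card_mul_index
  rw [hEidx, he, hQ] at hmul
  have hde : e * (Nat.card N - 1) = 120 := by
    refine Nat.eq_of_mul_eq_mul_left (show 0 < 121 by norm_num) ?_
    rw [← mul_assoc, hmul]
  have hd : Nat.card N - 1 ∈ Nat.divisors 120 := Nat.mem_divisors.2 ⟨Dvd.intro_left _ hde, by norm_num⟩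
  have hfix0 : ∀ u ∈ E, ∀ x ∈ Subgroup.zpowers m₀, φ u x = x := by
    intro u hu x hx
    obtain ⟨k, rfl⟩ := Subgroup.mem_zpowers_iff.1 hx
    rw [map_zpow, show φ u m₀ = m₀ from hu]
  have hcases := divisor_cases _ hd r hr
    (by rw [Nat.sub_add_cancel Nat.card_pos]; exact hrN) hr11
    (fun s hs hsd => by
      by_contra hsr
      rw [← hde, Nat.mul_div_cancel _ (Nat.pos_of_ne_zero fun h => by simp [h] at hde)] at hsd
      have hs11 : s ≠ 11 := fun h => by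
        have : 11 ∣ 120 := h ▸ hsd.trans (Dvd.intro _ hde)
        norm_num at this
      haveI : Fact s.Prime := ⟨hs⟩
      obtain ⟨u, hu⟩ := exists_prime_orderOf_dvd_card' (G := E) s (he ▸ hsd.mul_left 121)
      rw [← Subgroup.orderOf_coe] at hu
      have hu11 : ¬ 11 ∣ orderOf (u : G ⧸ N) := by
        rw [hu]; exact fun h => hs11 ((Nat.prime_dvd_prime_iff_eq (by norm_num) hs).1 h).symm
      have hu1 : (u : G ⧸ N) ≠ 1 := fun h => hs.ne_one (by rw [← hu, h, orderOf_one])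
      obtain ⟨y, hy, hycop⟩ := exists_lift_coprime _ hf (u : G ⧸ N) (n := r)
        (hu ▸ (Nat.coprime_primes hs hr).2 hsr)
      have hcomm : Commute y n₀ := by
        have h := congrArg Subtype.val (show φ (u : G ⧸ N) m₀ = m₀ from u.2)
        rw [← hy, hφ] at h
        exact mul_inv_eq_iff_eq_mul.1 h
      obtain ⟨g, hg⟩ := isConj_iff.1 (hno y (hy ▸ hu1) (hy ▸ hu11) n₀ hn₀)
      have h1 : orderOf (y * n₀) = orderOf y := by
        rw [← hg, ← MulAut.conj_apply, MulEquiv.orderOf_eq]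
      rw [hcomm.orderOf_mul_eq_mul_orderOf_of_coprime (hord n₀ hn₀ hn₀1 ▸ hycop),
        hord n₀ hn₀ hn₀1] at h1
      have hr2 := hr.two_le
      have hy0 := orderOf_pos y
      nlinarith)
    (fun s hs hsd => by
      rw [Nat.sub_add_cancel Nat.card_pos] at hsd
      obtain ⟨c, hc⟩ := IsPGroup.iff_card.1 hNr
      exact (Nat.prime_dvd_prime_iff_eq hs hr).1 (hs.dvd_of_dvd_pow (hc ▸ hsd)))
  rcases hcases with ⟨h24, rfl⟩ | ⟨h15, rfl⟩
  · obtain ⟨u, hu⟩ := exists_prime_orderOf_dvd_card' (G := E) 5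
      (he ▸ Dvd.dvd.mul_left (by rw [h24] at hde; omega : 5 ∣ e) 121)
    rw [← Subgroup.orderOf_coe] at hu
    have h := hcount (u : G ⧸ N) (fun h => by rw [h, orderOf_one] at hu; norm_num at hu)
      (by rw [hu]; norm_num) _ (hfix0 _ u.2)
    rw [Nat.card_zpowers, ← Subgroup.orderOf_coe, hord n₀ hn₀ hn₀1, hu] at h
    norm_num at h
  · -- an involution central modulo the kernel of the action fixes everything
    have hcomm : ∀ u : G ⧸ N, φ u * φ t = φ t * φ u := fun u => by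
      have h : φ (u * t * u⁻¹ * t⁻¹) = 1 := hPker (htc u)
      rw [map_mul, map_mul, map_mul, map_inv, map_inv, mul_inv_eq_one, mul_inv_eq_iff_eq_mul] at h
      exact h
    have ht2 : φ t * φ t = 1 := by rw [← map_mul, ← pow_two, ← ht, pow_orderOf_eq_one, map_one]
    have hsq : ∀ x : N, x * x = 1 := fun x => Subtype.ext (by
      show (x : G) * x = 1
      by_cases hx : (x : G) = 1
      · rw [hx, one_mul]
      · rw [← pow_two, ← hord x x.2 hx, pow_orderOf_eq_one])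
    obtain ⟨x, hx1, hx⟩ : ∃ x : N, x ≠ 1 ∧ φ t x = x := by
      by_cases h : φ t m₀ = m₀
      · exact ⟨m₀, hm₀, h⟩
      refine ⟨m₀ * φ t m₀, fun he => h ?_, ?_⟩
      · exact mul_left_cancel (he.trans (hsq m₀).symm)
      · rw [map_mul, ← MulAut.mul_apply, ht2, MulAut.one_apply, mul_comm]
    have hall : ∀ z ∈ (⊤ : Subgroup N), φ t z = z := by
      intro z _
      by_cases hz : z = 1
      · rw [hz, map_one]
      obtain ⟨u, rfl⟩ := htrN x z hx1 hz
      rw [← MulAut.mul_apply, ← hcomm, MulAut.mul_apply, hx]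
    have h := hcount t (fun h => by rw [h, orderOf_one] at ht; norm_num at ht)
      (by rw [ht]; norm_num) ⊤ hall
    rw [Subgroup.card_top, ht, show Nat.card N = 16 by omega] at h
    norm_num at h

end CfsgLib.CoprimeTrans
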