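import Cfsg.Agent.Lib.CoprimeTrans.Basic
import Mathlib.GroupTheory.ClassEquation

/-!
# Class numbers of semilinear transitive groups
-/

set_option autoImplicit false
set_option linter.style.haveILetI false
set_option linter.unusedSectionVars false

namespace CfsgLib.CoprimeTrans

open Subgroup Finset

variable {G : Type*} [Group G] [Finite G]

theorem card_carrier_eq_index' (g : G) :
    Nat.card (ConjClasses.mk g).carrier = (centralizer ({g} : Set G)).index := by
  have h := MulAction.index_stabilizer (ConjAct G) g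
  rw [ConjAct.stabilizer_eq_centralizer, ConjAct.orbit_eq_carrier_conjClasses] at h
  rw [Nat.card_coe_set_eq, ← h]
  rfl

/-- Classes of large size are few. -/
theorem mul_card_classes_le (P : ConjClasses G → Prop) {l f : ℕ} (hl : 1 ≤ l)
    (hbig : ∀ g : G, P (ConjClasses.mk g) → g ∉ Subgroup.center G →
      l ≤ (centralizer ({g} : Set G)).index)
    (hsmall : Nat.card {g : G // P (ConjClasses.mk g) ∧ g ∈ Subgroup.center G} ≤ f) :
    l * Nat.card {x : ConjClasses G // P x} ≤
      Nat.card {g : G // P (ConjClasses.mk g)} + (l - 1) * f := by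
  classical
  haveI := Fintype.ofFinite G
  haveI := Fintype.ofFinite (ConjClasses G)
  let s : Finset (ConjClasses G) := univ.filter P
  let t : Finset (ConjClasses G) := s.filter fun x => x.carrier.Subsingleton
  have hs : Nat.card {x : ConjClasses G // P x} = s.card := by
    rw [Nat.card_eq_fintype_card, Fintype.card_subtype]
  have hsum : Nat.card {g : G // P (ConjClasses.mk g)} = ∑ x ∈ s, Nat.card x.carrier := by
    rw [Nat.card_eq_fintype_card, Fintype.card_subtype,
      Finset.card_eq_sum_card_fiberwise (t := s) (f := ConjClasses.mk) fun g hg => by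
        simpa [s] using (mem_filter.1 hg).2]
    refine Finset.sum_congr rfl fun x hx => ?_
    rw [Nat.card_coe_set_eq, Set.ncard_eq_toFinset_card']
    refine congrArg Finset.card (Finset.ext fun g => ?_)
    simp only [mem_filter, mem_univ, true_and, Set.mem_toFinset, ConjClasses.mem_carrier_iff_mk_eq]
    exact ⟨fun h => h.2, fun h => ⟨h ▸ (mem_filter.1 hx).2, h⟩⟩
  have hidx : ∀ g : G, Nat.card (ConjClasses.mk g).carrier = (centralizer ({g} : Set G)).index :=
    fun g => card_carrier_eq_index' g
  have ht : t.card ≤ f := by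
    refine le_trans ?_ hsmall
    rw [← Fintype.card_coe, Nat.card_eq_fintype_card]
    refine Fintype.card_le_of_injective (fun x => ⟨(x.1.exists_rep).choose, ?_, ?_⟩) ?_
    · obtain ⟨hx, -⟩ := mem_filter.1 x.2
      have h := (x.1.exists_rep).choose_spec
      exact (show ConjClasses.mk (x.1.exists_rep).choose = x.1 from h).symm ▸ (mem_filter.1 hx).2
    · have hx := (mem_filter.1 x.2).2
      have h := (x.1.exists_rep).choose_spec
      have hm : ∀ a : G, a * (x.1.exists_rep).choose * a⁻¹ = (x.1.exists_rep).choose := fun a =>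
        hx (ConjClasses.mem_carrier_iff_mk_eq.2 ((ConjClasses.mk_eq_mk_iff_isConj.2
          (isConj_iff.2 ⟨a, rfl⟩).symm).trans h)) (ConjClasses.mem_carrier_iff_mk_eq.2 h)
      exact Subgroup.mem_center_iff.2 fun a => mul_inv_eq_iff_eq_mul.1 (hm a)
    · intro x y hxy
      have h1 := congrArg (fun g => ConjClasses.mk g.1) hxy
      simp only at h1
      have hx := (x.1.exists_rep).choose_spec
      have hy := (y.1.exists_rep).choose_spec
      exact Subtype.ext (hx.symm.trans (h1.trans hy))
  have hpart : ∀ x ∈ s, l ≤ Nat.card x.carrier + if x.carrier.Subsingleton then l - 1 else 0 := by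
    intro x hx
    obtain ⟨g, rfl⟩ := ConjClasses.mk_surjective x
    have hpos : 0 < Nat.card (ConjClasses.mk g).carrier := by
      haveI : Nonempty (ConjClasses.mk g).carrier := ⟨⟨g, ConjClasses.mem_carrier_mk⟩⟩
      exact Nat.card_pos
    by_cases hg : g ∈ Subgroup.center G
    · rw [if_pos]
      · omega
      · intro a ha b hb
        rw [ConjClasses.mem_carrier_iff_mk_eq, ConjClasses.mk_eq_mk_iff_isConj, isConj_iff] at ha hb
        obtain ⟨c, hc⟩ := ha
        obtain ⟨d, hd⟩ := hb
        have key : ∀ a c : G, c * a * c⁻¹ = g → a = g := fun a c h => by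
          have h1 : a = c⁻¹ * g * c := by rw [← h]; group
          rw [h1, mul_assoc, ← Subgroup.mem_center_iff.1 hg c, inv_mul_cancel_left]
        rw [key a c hc, key b d hd]
    · have := hbig g (mem_filter.1 hx).2 hg
      rw [hidx]
      omega
  rw [hs, hsum]
  calc l * s.card = ∑ _x ∈ s, l := by rw [Finset.sum_const, smul_eq_mul, mul_comm]
    _ ≤ ∑ x ∈ s, (Nat.card x.carrier + if x.carrier.Subsingleton then l - 1 else 0) :=
      Finset.sum_le_sum hpart
    _ = (∑ x ∈ s, Nat.card x.carrier) + t.card * (l - 1) := by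
      rw [Finset.sum_add_distrib, ← Finset.sum_filter, Finset.sum_const, smul_eq_mul]
    _ ≤ _ := by rw [mul_comm (l - 1) f]; exact Nat.add_le_add_left (Nat.mul_le_mul_right _ ht) _

/-- The classes meeting a coset of an abelian normal subgroup: at most the number of fixed points
in it. -/
theorem card_classes_coset_le (C : Subgroup G) [C.Normal] (hC : IsMulCommutative C) (g : G) :
    (Set.range fun c : C => ConjClasses.mk (g * (c : G))).ncard ≤
      Nat.card {c : C // g * (c : G) = c * g} := by
  classical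
  let θ : C →* C :=
    { toFun := fun c => ⟨g⁻¹ * (c : G) * g * (c : G)⁻¹,
        mul_mem (by simpa using (inferInstance : C.Normal).conj_mem (c : G) c.2 g⁻¹) (inv_mem c.2)⟩
      map_one' := Subtype.ext (by simp)
      map_mul' := fun a b => Subtype.ext (by
        have hcm : ∀ u v : C, (u : G) * v = v * u := fun u v =>
          congrArg Subtype.val (hC.is_comm.comm u v)
        have hb' : g⁻¹ * (b : G) * g ∈ C := by
          simpa using (inferInstance : C.Normal).conj_mem (b : G) b.2 g⁻¹
        have h1 := hcm ⟨_, hb'⟩ a⁻¹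
        simp only [InvMemClass.coe_inv] at h1
        show g⁻¹ * ((a : G) * b) * g * ((a : G) * b)⁻¹ = (g⁻¹ * (a : G) * g * (a : G)⁻¹) * (g⁻¹ * (b : G) * g * (b : G)⁻¹)
        calc g⁻¹ * ((a : G) * b) * g * ((a : G) * b)⁻¹
            = g⁻¹ * (a : G) * g * ((g⁻¹ * (b : G) * g) * (b : G)⁻¹ * (a : G)⁻¹) := by group
          _ = g⁻¹ * (a : G) * g * ((g⁻¹ * (b : G) * g) * ((a : G)⁻¹ * (b : G)⁻¹)) := by
              have h2 := hcm b⁻¹ a⁻¹
              simp only [InvMemClass.coe_inv] at h2
              rw [mul_assoc (g⁻¹ * (b : G) * g), h2]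
          _ = _ := by rw [← mul_assoc (g⁻¹ * (b : G) * g), h1]; group) }
  let F : C ⧸ θ.range → ConjClasses G := Quotient.lift (fun c : C => ConjClasses.mk (g * (c : G)))
    (fun a b hab => by
      have h := QuotientGroup.leftRel_apply.1 hab
      obtain ⟨c, hc⟩ := h
      refine ConjClasses.mk_eq_mk_iff_isConj.2 (isConj_iff.2 ⟨(c : G), ?_⟩)
      have hcm : ∀ u v : C, (u : G) * v = v * u := fun u v =>
        congrArg Subtype.val (hC.is_comm.comm u v)
      have hb : b = a * θ c := by rw [hc, mul_inv_cancel_left]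
      rw [hb, hC.is_comm.comm a (θ c), Subgroup.coe_mul]
      show (c : G) * (g * a) * (c : G)⁻¹ = g * (g⁻¹ * (c : G) * g * (c : G)⁻¹ * a)
      have h2 := hcm a c⁻¹
      simp only [InvMemClass.coe_inv] at h2
      calc (c : G) * (g * a) * (c : G)⁻¹ = (c : G) * g * ((a : G) * (c : G)⁻¹) := by group
        _ = _ := by rw [h2]; group)
  have hsub : (Set.range fun c : C => ConjClasses.mk (g * (c : G))) = Set.range F := by
    ext x
    exact ⟨fun ⟨c, hc⟩ => ⟨(c : C ⧸ θ.range), hc⟩, fun ⟨q, hq⟩ => by
      induction q using QuotientGroup.induction_on with | _ c => exact ⟨c, hq⟩⟩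
  rw [hsub, ← Nat.card_coe_set_eq]
  refine (Finite.card_range_le F).trans (le_of_eq ?_)
  rw [← Subgroup.index_eq_card]
  refine Nat.eq_of_mul_eq_mul_left (Nat.card_pos (α := θ.range)) ?_
  rw [θ.range.card_mul_index, ← θ.ker.card_mul_index, Subgroup.index_ker, mul_comm]
  congr 1
  refine Nat.card_congr (Equiv.subtypeEquivRight fun c => ?_)
  rw [MonoidHom.mem_ker]
  show (⟨g⁻¹ * (c : G) * g * (c : G)⁻¹, _⟩ : C) = 1 ↔ _
  rw [Subtype.ext_iff, Subgroup.coe_one]
  show g⁻¹ * (c : G) * g * (c : G)⁻¹ = 1 ↔ _
  rw [mul_inv_eq_one, mul_assoc, inv_mul_eq_iff_eq_mul]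
  exact eq_comm

/-- The class number of a group with an abelian normal subgroup with few fixed points. -/
theorem mul_card_conjClasses_le (C : Subgroup G) [C.Normal] (hC : IsMulCommutative C) {l f : ℕ}
    (hl : 1 ≤ l) (hmin : ∀ m, m ∣ C.index → 1 < m → l ≤ m) (hidx : 2 ≤ C.index)
    (hf : ∀ g : G, g ∉ C → Nat.card {c : C // g * (c : G) = c * g} ≤ f) :
    l * Nat.card (ConjClasses G) ≤
      Nat.card C + (l - 1) * f + l * ((C.index - 1) * f) := by
  classical
  haveI := Fintype.ofFinite G
  let P : ConjClasses G → Prop := fun x => ∃ g ∈ C, ConjClasses.mk g = x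
  have hPC : ∀ g : G, P (ConjClasses.mk g) ↔ g ∈ C := by
    refine fun g => ⟨fun ⟨h, hh, he⟩ => ?_, fun hg => ⟨g, hg, rfl⟩⟩
    obtain ⟨a, rfl⟩ := isConj_iff.1 (ConjClasses.mk_eq_mk_iff_isConj.1 he)
    exact (inferInstance : C.Normal).conj_mem h hh a
  obtain ⟨g₀, hg₀⟩ : ∃ g, g ∉ C := by
    by_contra h
    push Not at h
    rw [(eq_top_iff.2 fun g _ => h g : C = ⊤), index_top] at hidx
    omega
  have hinC := mul_card_classes_le P (l := l) (f := f) hl (fun g hg hgz => by
      rw [hPC] at hg
      refine hmin _ ?_ ?_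
      · refine Subgroup.index_dvd_of_le fun c hc => mem_centralizer_singleton_iff.2 ?_
        exact congrArg Subtype.val (hC.is_comm.comm (⟨c, hc⟩ : C) ⟨g, hg⟩)
      · refine lt_of_le_of_ne (Nat.one_le_iff_ne_zero.2 Subgroup.index_ne_zero_of_finite)
          fun h => hgz ?_
        rw [eq_comm, index_eq_one] at h
        exact Subgroup.mem_center_iff.2 fun a =>
          mem_centralizer_singleton_iff.1 (h.ge (mem_top a)))
    (le_trans (Nat.card_le_card_of_injective (fun g => (⟨⟨g.1, (hPC _).1 g.2.1⟩,
        Subgroup.mem_center_iff.1 g.2.2 g₀⟩ : {c : C // g₀ * (c : G) = c * g₀}))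
      fun a b h => Subtype.ext (congrArg (fun z => ((z.1 : C) : G)) h)) (hf g₀ hg₀))
  rw [Nat.card_congr (Equiv.subtypeEquivRight hPC)] at hinC
  -- the classes outside
  haveI : Fintype (ConjClasses G) := Fintype.ofFinite _
  haveI : Fintype (G ⧸ C) := Fintype.ofFinite _
  have hout : (univ.filter fun x => ¬ P x).card ≤ (C.index - 1) * f := by
    have hsub : (univ.filter fun x => ¬ P x) ⊆ (univ.erase ((1 : G) : G ⧸ C)).biUnion
        fun q => (Set.range fun c : C => ConjClasses.mk (q.out * (c : G))).toFinset := by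
      intro x hx
      obtain ⟨g, rfl⟩ := ConjClasses.mk_surjective x
      have hg : g ∉ C := fun h => (mem_filter.1 hx).2 ((hPC g).2 h)
      rw [mem_biUnion]
      refine ⟨(g : G ⧸ C), mem_erase.2 ⟨fun h => hg ?_, mem_univ _⟩, ?_⟩
      · have h1 := QuotientGroup.eq.1 h.symm
        rwa [inv_one, one_mul] at h1
      · rw [Set.mem_toFinset]
        obtain ⟨c, hc⟩ := QuotientGroup.mk_out_eq_mul C g
        exact ⟨c⁻¹, by rw [hc]; simp⟩
    refine le_trans (card_le_card hsub) (le_trans (card_biUnion_le_card_mul _ _ f fun q hq => ?_) ?_)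
    · rw [← Set.ncard_eq_toFinset_card']
      refine le_trans (card_classes_coset_le C hC _) (hf _ fun h => (mem_erase.1 hq).1 ?_)
      rw [← QuotientGroup.out_eq' q]
      exact QuotientGroup.eq.2 (by simpa using inv_mem h)
    · rw [card_erase_of_mem (mem_univ _), Finset.card_univ, ← Nat.card_eq_fintype_card,
        ← Subgroup.index_eq_card]
  have hsplit : Nat.card (ConjClasses G) =
      Nat.card {x : ConjClasses G // P x} + (univ.filter fun x => ¬ P x).card := by
    rw [Nat.card_eq_fintype_card, ← Finset.card_univ, Nat.card_eq_fintype_card,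
      Fintype.card_subtype, card_filter_add_card_filter_not]
  rw [hsplit, mul_add]
  exact Nat.add_le_add hinC (Nat.mul_le_mul_left l hout)

theorem card_conjClasses_of_cyclic (H : Subgroup G) (hH : IsCyclic H) :
    Nat.card (ConjClasses H) = Nat.card H := by
  haveI := hH
  letI : CommGroup H := IsCyclic.commGroup
  exact (Nat.card_congr ConjClasses.mkEquiv).symm

end CfsgLib.CoprimeTrans
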