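import Cfsg.Agent.Lib.CoprimeTrans.Classify
import Cfsg.Agent.Lib.CoprimeTrans.SemiCount
import Cfsg.Agent.S4782

/-!
# The exceptional coprime transitive groups on `3 ^ 4`
-/

set_option autoImplicit false
set_option linter.style.haveILetI false
set_option linter.unusedSectionVars false
set_option synthInstance.maxHeartbeats 100000
set_option maxHeartbeats 2000000

noncomputable section

namespace CfsgLib.CoprimeTrans

open Subgroup CfsgLib.TransLinear CfsgLib.NumberTheory
open scoped commutatorElement

universe u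

/-- A group of order `2 ^ e * 5` without nontrivial normal `2`-subgroups has order at most `20`. -/
theorem card_le_twenty {Γ : Type u} [Group Γ] [Finite Γ] (hsol : Group.IsSolvable Γ)
    (hprimes : ∀ r : ℕ, r.Prime → r ∣ Nat.card Γ → r = 2 ∨ r = 5) (h25 : ¬ 25 ∣ Nat.card Γ)
    (hO : ∀ M : Subgroup Γ, M.Normal → IsPGroup 2 M → M = ⊥) :
    Nat.card Γ ≤ 20 ∧ ∀ y : Γ, orderOf y = 5 → ∀ z : Γ, z * y = y * z → z ∈ zpowers y := by
  classical
  haveI : Fact (Nat.Prime 5) := ⟨by norm_num⟩
  haveI : Fact (Nat.Prime 2) := ⟨by norm_num⟩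
  -- a normal abelian subgroup
  by_cases h1 : Nat.card Γ = 1
  · refine ⟨by omega, fun y hy => ?_⟩
    have := orderOf_dvd_natCard y
    rw [hy, h1] at this
    norm_num at this
  haveI : Nontrivial Γ := Finite.one_lt_card_iff_nontrivial.1 (by
    have := Nat.card_pos (α := Γ); omega)
  obtain ⟨B, hBn, hBc, hB1⟩ : ∃ B : Subgroup Γ, B.Normal ∧ IsMulCommutative B ∧ B ≠ ⊥ := by
    obtain ⟨k, hk⟩ := (Group.isSolvable_def Γ).1 hsol
    have hex : ∃ k, derivedSeries Γ k = ⊥ := ⟨k, hk⟩
    have hf := Nat.find_spec hex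
    have h0 : Nat.find hex ≠ 0 := fun h => by
      rw [h, derivedSeries_zero] at hf
      exact top_ne_bot hf
    obtain ⟨j, hj⟩ := Nat.exists_eq_succ_of_ne_zero h0
    refine ⟨derivedSeries Γ j, derivedSeries_normal Γ j, ⟨⟨fun a b => Subtype.ext ?_⟩⟩,
      Nat.find_min hex (by omega)⟩
    rw [hj, derivedSeries_succ] at hf
    have h := commutator_mem_commutator a.2 b.2
    rw [hf, Subgroup.mem_bot, commutatorElement_eq_one_iff_mul_comm] at h
    exact h
  haveI := hBn
  have hB2 : ¬ 2 ∣ Nat.card B := by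
    intro h2
    obtain ⟨S⟩ : Nonempty (Sylow 2 B) := inferInstance
    letI : CommGroup B := { (inferInstance : Group B) with mul_comm := hBc.is_comm.comm }
    haveI : (S : Subgroup B).Normal := inferInstance
    haveI := Sylow.characteristic_of_normal S this
    have := hO ((S : Subgroup B).map B.subtype) inferInstance (S.isPGroup'.map _)
    rw [Subgroup.map_eq_bot_iff_of_injective _ B.subtype_injective] at this
    exact S.ne_bot_of_dvd_card h2 this
  have hBcard : Nat.card B = 5 := by
    have hd := Subgroup.card_subgroup_dvd_card B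
    have hne : Nat.card B ≠ 1 := fun h => hB1 (Subgroup.card_eq_one.1 h)
    have hpow : ∀ r : ℕ, r.Prime → r ∣ Nat.card B → r = 5 := fun r hr hrd =>
      (hprimes r hr (hrd.trans hd)).resolve_left fun h => hB2 (h ▸ hrd)
    obtain ⟨r, hr, hrd⟩ := Nat.exists_prime_and_dvd hne
    obtain rfl := hpow r hr hrd
    obtain ⟨c, hc⟩ := hrd
    by_contra hne5
    obtain ⟨r, hr', hrd'⟩ := Nat.exists_prime_and_dvd (n := c) (fun h => hne5 (by rw [hc, h, mul_one]))
    obtain rfl := hpow r hr' (hc ▸ hrd'.mul_left 5)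
    exact h25 ((show 25 ∣ Nat.card B by rw [hc, show 25 = 5 * 5 by rfl]; exact mul_dvd_mul_left 5 hrd').trans hd)
  set C := centralizer (B : Set Γ) with hC
  have hBC : B ≤ C := fun a ha => mem_centralizer_iff.2 fun b hb =>
    congrArg Subtype.val (hBc.is_comm.comm (⟨b, hb⟩ : B) ⟨a, ha⟩)
  have hC2 : ¬ 2 ∣ Nat.card C := by
    intro h2
    obtain ⟨S⟩ : Nonempty (Sylow 2 C) := inferInstance
    have hN : normalizer ((S : Subgroup C) : Set C) = ⊤ := by
      refine Subgroup.eq_top_of_le_card _ (Nat.le_of_dvd Nat.card_pos ?_)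
      have h5 : 5 ∣ Nat.card (normalizer ((S : Subgroup C) : Set C)) := by
        rw [← hBcard, ← Nat.card_congr (subgroupOfEquivOfLe hBC).toEquiv]
        refine Subgroup.card_dvd_of_le fun b hb => ?_
        rw [mem_normalizer_iff]
        intro w
        have e : b * w * b⁻¹ = w := Subtype.ext (by
          show (b : Γ) * w * (b : Γ)⁻¹ = w
          rw [mem_centralizer_iff.1 w.2 b hb, mul_inv_cancel_right])
        rw [e]
      have h2' : 2 ^ (Nat.card C).factorization 2 ∣ Nat.card (normalizer ((S : Subgroup C) : Set C)) :=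
        S.card_eq_multiplicity ▸ Subgroup.card_dvd_of_le le_normalizer
      refine dvd_trans ?_ (Nat.Coprime.mul_dvd_of_dvd_of_dvd (Nat.Coprime.pow_left _ (by norm_num)) h2' h5)
      refine (Nat.dvd_iff_prime_pow_dvd_dvd _ _).2 fun r k hr hrk => ?_
      rcases Nat.eq_zero_or_pos k with rfl | hk
      · simp
      rcases hprimes r hr (((dvd_pow_self r hk.ne').trans hrk).trans
        (Subgroup.card_subgroup_dvd_card C)) with rfl | rfl
      · exact (pow_dvd_pow 2 ((Nat.prime_two.pow_dvd_iff_le_factorization Nat.card_pos.ne').1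
          hrk)).trans (dvd_mul_right _ _)
      · have hk1 : k = 1 := by
          by_contra hne
          exact h25 (((pow_dvd_pow 5 (show 2 ≤ k by omega)).trans hrk).trans
            (Subgroup.card_subgroup_dvd_card C))
        rw [hk1, pow_one]
        exact dvd_mul_left _ _
    haveI : (S : Subgroup C).Normal := normalizer_eq_top_iff.1 hN
    haveI := Sylow.characteristic_of_normal S this
    have := hO ((S : Subgroup C).map C.subtype) inferInstance (S.isPGroup'.map _)
    rw [Subgroup.map_eq_bot_iff_of_injective _ C.subtype_injective] at this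
    exact S.ne_bot_of_dvd_card h2 this
  have hCB : C = B := by
    refine (Subgroup.eq_of_le_of_card_ge hBC ?_).symm
    rw [hBcard]
    refine Nat.le_of_dvd (by norm_num) ((Nat.dvd_iff_prime_pow_dvd_dvd _ _).2 fun r k hr hrk => ?_)
    rcases Nat.eq_zero_or_pos k with rfl | hk
    · simp
    have hrd : r ∣ Nat.card C := (dvd_pow_self r hk.ne').trans hrk
    rcases hprimes r hr (hrd.trans (Subgroup.card_subgroup_dvd_card C)) with rfl | rfl
    · exact absurd hrd hC2
    · have hk1 : k = 1 := by
        by_contra hne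
        exact h25 (((pow_dvd_pow 5 (show 2 ≤ k by omega)).trans hrk).trans
          (Subgroup.card_subgroup_dvd_card C))
      rw [hk1, pow_one]
  haveI : IsCyclic B := isCyclic_of_prime_card hBcard
  have hidx : C.index ≤ 4 := by
    let f : Γ →* MulAut B := MulAut.conjNormal
    have hker : f.ker ≤ C := by
      intro g hg
      refine mem_centralizer_iff.2 fun b hb => ?_
      have h := congrArg (fun e : MulAut B => ((e ⟨b, hb⟩ : B) : Γ)) (MonoidHom.mem_ker.1 hg)
      simp only [f, MulAut.conjNormal_apply, MulAut.one_apply] at h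
      exact (mul_inv_eq_iff_eq_mul.1 h).symm
    refine le_trans (Nat.le_of_dvd (Nat.pos_of_ne_zero Subgroup.index_ne_zero_of_finite)
      (Subgroup.index_dvd_of_le hker)) ?_
    rw [index_ker]
    refine le_trans (Nat.le_of_dvd Nat.card_pos (Subgroup.card_subgroup_dvd_card f.range)) ?_
    rw [IsCyclic.card_mulAut, hBcard]
    decide
  refine ⟨?_, fun y hy z hz => ?_⟩
  · rw [← C.card_mul_index, hCB, hBcard]
    rw [hCB] at hidx
    omega
  · have hyB : y ∈ B := by
      have hn : ¬ 5 ^ 2 ∣ Nat.card Γ := by norm_num; exact h25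
      rw [← QuotientGroup.eq_one_iff, ← orderOf_eq_one_iff]
      have h5 : orderOf (y : Γ ⧸ B) ∣ 5 := orderOf_dvd_of_pow_eq_one (by
        rw [← QuotientGroup.mk_pow, ← hy, pow_orderOf_eq_one, QuotientGroup.mk_one])
      rcases (Nat.dvd_prime (Fact.out : Nat.Prime 5)).1 h5 with h | h
      · exact h
      · exfalso
        refine hn ?_
        rw [← B.card_mul_index, hBcard, pow_two]
        exact mul_dvd_mul_left 5 (h ▸ orderOf_dvd_natCard (y : Γ ⧸ B))
    have hzy : zpowers y = B := Subgroup.eq_of_le_of_card_ge (zpowers_le.2 hyB)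
      (by rw [Nat.card_zpowers, hy, hBcard])
    rw [hzy, ← hCB]
    refine mem_centralizer_iff.2 fun b hb => ?_
    obtain ⟨k, rfl⟩ := mem_zpowers_iff.1 (hzy.ge hb)
    exact ((show Commute z y from hz).zpow_right k).eq.symm

variable {V : Type*} [AddCommGroup V] [Module (ZMod 3) V] [Finite V]
  {G : Type u} [Group G] [Finite G] {ρ : G →* (V ≃ₗ[ZMod 3] V)}

theorem card_dvd_2560 (hρ : Function.Injective ρ) (hn : Module.finrank (ZMod 3) V = 4)
    (hcop : ¬ 3 ∣ Nat.card G) (h13 : ¬ 13 ∣ Nat.card G) : Nat.card G ∣ 2560 := by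
  haveI : Module.Finite (ZMod 3) V := Module.Finite.of_finite
  let b := (Module.finBasis (ZMod 3) V).reindex (finCongr hn)
  let f : G →* GL (Fin 4) (ZMod 3) :=
    ((LinearMap.toMatrixAlgEquiv b).toRingEquiv.toMulEquiv.toMonoidHom.comp (act ρ)).toHomUnits
  have hf : Function.Injective f := fun a c h => act_injective ρ hρ
    ((LinearMap.toMatrixAlgEquiv b).injective (congrArg Units.val h))
  have h := Subgroup.card_dvd_of_injective f hf
  rw [Matrix.card_GL_field] at h
  simp only [Fin.prod_univ_four, ZMod.card] at h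
  norm_num at h
  have c1 : Nat.Coprime (Nat.card G) (3 ^ 6 * 13) :=
    ((Nat.Coprime.pow_left 6 (Nat.prime_three.coprime_iff_not_dvd.2 hcop)).mul_left
      ((show Nat.Prime 13 by norm_num).coprime_iff_not_dvd.2 h13)).symm
  exact c1.dvd_of_dvd_mul_left (by norm_num; exact h)

theorem exc81 (hρ : Function.Injective ρ) (htr : Trans ρ) [Nontrivial V]
    (hn : Module.finrank (ZMod 3) V = 4) (hcop : ¬ 3 ∣ Nat.card G) (h13 : ¬ 13 ∣ Nat.card G)
    (hsemi : ∀ C, ¬ Semi ρ C) : Nat.card G ≤ 640 ∧ Nat.card (ConjClasses G) ≤ 65 := by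
  classical
  haveI : Fact (Nat.Prime 5) := ⟨by norm_num⟩
  haveI : Fact (Nat.Prime 2) := ⟨by norm_num⟩
  haveI : Module.Finite (ZMod 3) V := Module.Finite.of_finite
  have hdvd := card_dvd_2560 hρ hn hcop h13
  have hprimes : ∀ r : ℕ, r.Prime → r ∣ Nat.card G → r = 2 ∨ r = 5 := by
    intro r hr hrd
    have h := hrd.trans hdvd
    rw [show 2560 = 2 ^ 9 * 5 by norm_num, hr.dvd_mul] at h
    rcases h with h | h
    · exact Or.inl ((Nat.prime_dvd_prime_iff_eq hr Nat.prime_two).1 (hr.dvd_of_dvd_pow h))
    · exact Or.inr ((Nat.prime_dvd_prime_iff_eq hr (by norm_num)).1 h)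
  have hsol : Group.IsSolvable G := Cfsg.Agent.S4782.isSolvable_of_two_primes Nat.prime_two
    (q := 5) (by norm_num) (Nat.card G) rfl fun χ r hr hrd => hprimes r hr (hrd.trans (by
      obtain ⟨e, he, -, hdvd⟩ := CfsgLib.Characters.irr_degree_dvd_card χ
      rwa [LinearTwist.charDegree_eq_of_apply_one he]))
  have h80 : 80 ∣ Nat.card G := by
    have := pow_sub_one_dvd htr
    rw [hn] at this
    exact (by norm_num : (80 : ℕ) ∣ 3 ^ 4 - 1).trans this
  have h5 : IsPPD 5 3 (Module.finrank (ZMod 3) V) := by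
    rw [hn]
    exact ⟨by norm_num, by norm_num, fun i h1 h2 => by interval_cases i <;> norm_num⟩
  obtain ⟨A, hAn, hAc, hmax⟩ := exists_maxAb (G := G)
  haveI := hAn
  obtain ⟨ha0, hAdvd, hidx⟩ := index_and_card hρ htr hAn hAc
  have ha1 : deg ρ A = 1 := by
    letI := algField htr hAn hAc
    haveI : Module.Finite (alg ρ A) V := Module.Finite.of_finite
    have hmul : deg ρ A * Module.finrank (alg ρ A) V = 4 :=
      hn ▸ Module.finrank_mul_finrank (ZMod 3) (alg ρ A) V
    have hlt : deg ρ A < 4 := by
      by_contra h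
      exact hsemi _ (semi_centralizer hρ htr hAn hAc (by omega))
    rcases (show deg ρ A = 1 ∨ deg ρ A = 2 ∨ deg ρ A = 3 by omega) with h | h | h
    · exact h
    · obtain ⟨C, hC⟩ := exists_semi_plane hρ htr hcop (by norm_num) hAn hAc (d := 2) hn two_pos h h5
        le_rfl (Or.inr rfl)
      exact absurd hC (hsemi C)
    · rw [h] at hmul; omega
  have hA2 : Nat.card A ∣ 2 := by rw [ha1] at hAdvd; exact hAdvd
  rw [ha1, Nat.dvd_one, index_eq_one] at hidx
  have hne : centralizer (A : Set G) ≠ A := by
    intro h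
    rw [hidx] at h
    have := Nat.le_of_dvd Nat.card_pos h80
    rw [← Subgroup.card_top (G := G), h] at this
    have := Nat.le_of_dvd two_pos hA2
    omega
  obtain ⟨N, s, hL⟩ := exists_layer hsol hAn hAc hmax hne
  obtain ⟨j, k, hj, hk, hj1, hsj, hsq, hjn, hsat⟩ := layer_twist hρ htr hAn hAc hmax hL
  have hs2 : s = 2 := (Nat.prime_dvd_prime_iff_eq hL.prime Nat.prime_two).1 (by
    rw [ha1] at hsq; exact hsq)
  subst hs2
  haveI := hL.normal
  rw [ha1, mul_one, hn] at hjn
  rw [ha1, mul_one, hn] at hsat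
  have hC : ∀ g : G, g ∈ centralizer (A : Set G) := fun g => hidx ▸ mem_top g
  obtain ⟨y, hy⟩ := exists_prime_orderOf_dvd_card' (G := G) 5
    ((show 5 ∣ 80 by norm_num).trans h80)
  have hycomm : ∀ y : G, orderOf y = 5 → ∀ {u w : G}, u * y = y * u → w * y = y * w →
      u * w = w * u := fun y hy _ _ hu hw =>
    comm_centralizer_of_orderOf hρ h5 (by omega) hy hu hw
  have hyne : ∀ y : G, orderOf y = 5 → ∃ u ∈ N, y * u ≠ u * y := by
    intro y hy
    by_contra hno
    push Not at hno
    refine hL.not_le fun u hu => hL.cent u hu fun w hw => ?_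
    exact hycomm y hy (hno w hw).symm (hno u hu).symm
  have hA5 : ¬ 5 ∣ Nat.card A := fun h => by
    have := Nat.le_of_dvd two_pos (h.trans hA2)
    omega
  have hj4 : j = 4 := by
    have h4 : 5 ≤ j + 1 := prime_bound hρ htr hAn hAc hL (hC y) (by norm_num)
      (by rw [← hy, pow_orderOf_eq_one]) hA5 (by
        rw [hk]
        exact fun h => by
          have := (Fact.out : Nat.Prime 5).dvd_of_dvd_pow h
          norm_num at this) hj (hyne y hy)
    omega
  subst hj4
  have hk4 : k = 4 := Nat.pow_right_injective (le_refl 2) (by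
    show 2 ^ k = 2 ^ 4
    rw [← hk, hj])
  subst hk4
  have hsat' := hsat rfl
  have hAne : Nat.card A = 2 := by
    refine ((Nat.dvd_prime Nat.prime_two).1 hA2).resolve_left fun h1 => ?_
    obtain ⟨u, hu, huy⟩ := hyne y hy
    have hb := Subgroup.card_eq_one.1 h1
    refine hL.not_le fun v hv => hL.cent v hv fun w hw => ?_
    have hc := hL.comm w hw v hv
    rw [hb, Subgroup.mem_bot, commutatorElement_eq_one_iff_mul_comm] at hc
    exact hc
  -- the action on the layer
  letI := quoCommGroup hL
  set φ : G →* MulAut (N ⧸ A.subgroupOf N) := quoAut (A := A) with hφ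
  have hker : φ.ker = N := by
    ext g
    rw [MonoidHom.mem_ker, hφ, quoAut_eq_one_iff]
    exact ⟨(hsat' g (hC g)).1, fun hg u hu => hL.comm _ hg _ hu⟩
  have hQ : Nat.card (N ⧸ A.subgroupOf N) = 16 := hj
  have hNcard : Nat.card N = 32 := by rw [card_layer hL, hQ, hAne]
  -- elements of order five have no fixed points on the layer
  have hfix : ∀ y : G, orderOf y = 5 → ∀ w : N ⧸ A.subgroupOf N, φ y w = w → w = 1 := by
    intro y hy w hw
    let F : Subgroup (N ⧸ A.subgroupOf N) :=
      { carrier := {w | φ y w = w}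
        one_mem' := map_one _
        mul_mem' := fun {a b} ha hb => by
          show φ y (a * b) = a * b
          rw [map_mul, (show φ y a = a from ha), (show φ y b = b from hb)]
        inv_mem' := fun {a} ha => by
          show φ y a⁻¹ = a⁻¹
          rw [map_inv, (show φ y a = a from ha)] }
    have hp : IsPGroup 5 (zpowers (φ y)) := by
      have h5' : (φ y) ^ 5 = 1 := by rw [← map_pow, ← hy, pow_orderOf_eq_one, map_one]
      rintro ⟨_, e, rfl⟩
      refine ⟨1, Subtype.ext ?_⟩
      show ((φ y) ^ e) ^ (5 ^ 1) = 1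
      rw [pow_one, ← zpow_natCast ((φ y) ^ e) 5, ← zpow_mul, mul_comm, zpow_mul, zpow_natCast, h5',
        one_zpow]
    have hmod := hp.card_modEq_card_fixedPoints (N ⧸ A.subgroupOf N)
    have he : Nat.card (MulAction.fixedPoints (zpowers (φ y)) (N ⧸ A.subgroupOf N)) = Nat.card F := by
      refine Nat.card_congr (Equiv.subtypeEquivRight fun x => ?_)
      constructor
      · intro h; exact h ⟨φ y, mem_zpowers _⟩
      · rintro h ⟨_, e, rfl⟩
        have : φ y ∈ MulAction.stabilizer (MulAut (N ⧸ A.subgroupOf N)) x := h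
        exact zpow_mem this e
    rw [he, hQ] at hmod
    have hFd : Nat.card F ∣ 2 ^ 4 := by
      rw [show 2 ^ 4 = Nat.card (N ⧸ A.subgroupOf N) by rw [hQ]; norm_num]
      exact F.card_subgroup_dvd_card
    obtain ⟨i, hi, hFi⟩ := (Nat.dvd_prime_pow Nat.prime_two).1 hFd
    have hF1 : Nat.card F = 1 := by
      by_contra hne
      have hi0 : i ≠ 0 := fun h => hne (by rw [hFi, h, pow_zero])
      have hi4 : i = 4 := by
        unfold Nat.ModEq at hmod
        rw [hFi] at hmod
        interval_cases i <;> first | rfl | (exfalso; exact hi0 rfl) | (exfalso; norm_num at hmod)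
      obtain ⟨u, hu, huy⟩ := hyne y hy
      have htop : F = ⊤ := Subgroup.eq_top_of_card_eq F (by rw [hFi, hi4, hQ]; norm_num)
      refine huy (hL.commute_of_trivial (hC y) (p := 5) (by norm_num)
        (by rw [← hy, pow_orderOf_eq_one]) hA5 hu ((quoAut_eq_one_iff y).1 ?_ u hu))
      exact MulEquiv.ext fun x => (show x ∈ F from htop ▸ mem_top x)
    have hw' : w ∈ F := hw
    rwa [Subgroup.card_eq_one.1 hF1, Subgroup.mem_bot] at hw'
  -- no larger normal `2`-subgroup
  have hO : ∀ M : Subgroup φ.range, M.Normal → IsPGroup 2 M → M = ⊥ := by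
    intro M hMn hM
    let F : Subgroup (N ⧸ A.subgroupOf N) :=
      { carrier := {w | ∀ m ∈ M, (m : MulAut (N ⧸ A.subgroupOf N)) w = w}
        one_mem' := fun m _ => map_one _
        mul_mem' := fun {a b} ha hb m hm => by rw [map_mul, ha m hm, hb m hm]
        inv_mem' := fun {a} ha m hm => by rw [map_inv, ha m hm] }
    have hmod := hM.card_modEq_card_fixedPoints (N ⧸ A.subgroupOf N)
    have he : Nat.card (MulAction.fixedPoints M (N ⧸ A.subgroupOf N)) = Nat.card F := by
      refine Nat.card_congr (Equiv.subtypeEquivRight fun x => ?_)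
      exact ⟨fun h m hm => h ⟨m, hm⟩, fun h m => h m.1 m.2⟩
    rw [he, hQ] at hmod
    have hinv : ∀ w ∈ F, φ y w ∈ F := by
      intro w hw m hm
      have hm' : (φ.rangeRestrict y)⁻¹ * m * (φ.rangeRestrict y)⁻¹⁻¹ ∈ M := hMn.conj_mem m hm _
      rw [inv_inv] at hm'
      have h := hw _ hm'
      rw [Subgroup.coe_mul, Subgroup.coe_mul, Subgroup.coe_inv, MonoidHom.coe_rangeRestrict,
        MulAut.mul_apply, MulAut.mul_apply, MulAut.inv_apply, MulEquiv.symm_apply_eq] at h
      exact h
    -- `F` is a nontrivial subgroup invariant under the element of order five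
    have hFd : Nat.card F ∣ 2 ^ 4 := by
      rw [show 2 ^ 4 = Nat.card (N ⧸ A.subgroupOf N) by rw [hQ]; norm_num]
      exact F.card_subgroup_dvd_card
    obtain ⟨i, hi, hFi⟩ := (Nat.dvd_prime_pow Nat.prime_two).1 hFd
    have hi4 : i = 4 := by
      have hp : IsPGroup 5 (zpowers (φ y)) := by
        have h5' : (φ y) ^ 5 = 1 := by rw [← map_pow, ← hy, pow_orderOf_eq_one, map_one]
        rintro ⟨_, e, rfl⟩
        refine ⟨1, Subtype.ext ?_⟩
        show ((φ y) ^ e) ^ (5 ^ 1) = 1
        rw [pow_one, ← zpow_natCast ((φ y) ^ e) 5, ← zpow_mul, mul_comm, zpow_mul, zpow_natCast, h5',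
          one_zpow]
      have hst : ∀ t : zpowers (φ y), ∀ w ∈ F, (t : MulAut (N ⧸ A.subgroupOf N)) w ∈ F := by
        rintro ⟨t, ht⟩ w hw
        obtain ⟨e, rfl⟩ := mem_powers_iff_mem_zpowers.2 ht
        show ((φ y) ^ e) w ∈ F
        clear ht
        induction e with
        | zero => simpa using hw
        | succ e ih => show ((φ y) ^ (e + 1)) w ∈ F; rw [pow_succ']; exact hinv _ ih
      let _ : SMul (zpowers (φ y)) F :=
        ⟨fun t w => ⟨(t : MulAut (N ⧸ A.subgroupOf N)) w.1, hst t _ w.2⟩⟩
      let _ : MulAction (zpowers (φ y)) F :=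
        { one_smul := fun w => Subtype.ext rfl
          mul_smul := fun t u w => Subtype.ext rfl }
      have hmod5 := hp.card_modEq_card_fixedPoints F
      have hone : Nat.card (MulAction.fixedPoints (zpowers (φ y)) F) = 1 := by
        rw [Nat.card_eq_one_iff_unique]
        refine ⟨⟨fun a b => ?_⟩, ⟨⟨⟨1, F.one_mem⟩, fun t => Subtype.ext (map_one _)⟩⟩⟩
        have key : ∀ a : MulAction.fixedPoints (zpowers (φ y)) F, (a.1 : N ⧸ A.subgroupOf N) = 1 :=
          fun a => hfix y hy _ (congrArg Subtype.val (a.2 ⟨φ y, mem_zpowers _⟩))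
        exact Subtype.ext (Subtype.ext ((key a).trans (key b).symm))
      rw [hone, hFi] at hmod5
      rw [hFi] at hmod
      unfold Nat.ModEq at hmod hmod5
      interval_cases i <;> first | rfl | (exfalso; norm_num at hmod; done) | (exfalso; norm_num at hmod5; done)
    have htop : F = ⊤ := Subgroup.eq_top_of_card_eq F (by rw [hFi, hi4, hQ]; norm_num)
    refine (Subgroup.eq_bot_iff_forall M).2 fun m hm => Subtype.ext (MulEquiv.ext fun w => ?_)
    exact (show w ∈ F from htop ▸ mem_top w) m hm
  have hsol' : Group.IsSolvable φ.range :=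
    Group.isSolvable_of_surjective φ.rangeRestrict_surjective
  have hrd : Nat.card φ.range ∣ Nat.card G := Subgroup.card_range_dvd φ
  obtain ⟨hle, hcyc⟩ := card_le_twenty hsol' (fun r hr hr' => hprimes r hr (hr'.trans hrd))
    (fun h => by
      have := (h.trans hrd).trans hdvd
      norm_num at this) hO
  have hcardG : Nat.card G = 32 * Nat.card φ.range := by
    rw [← index_ker φ, hker, ← hNcard, N.card_mul_index]
  have hG640 : Nat.card G ≤ 640 := by omega
  refine ⟨hG640, ?_⟩
  -- class sizes
  have hcy : ∀ y : G, orderOf y = 5 → Nat.card (centralizer ({y} : Set G)) ∣ 10 := by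
    intro y hy
    set T := centralizer ({y} : Set G) with hT
    let ψ : T →* φ.range := φ.rangeRestrict.comp T.subtype
    have h1 : Nat.card ψ.ker ∣ Nat.card A := by
      rw [← Subgroup.card_map_of_injective T.subtype_injective]
      refine Subgroup.card_dvd_of_le ?_
      rintro _ ⟨⟨t, ht⟩, hk, rfl⟩
      show t ∈ A
      have htN : t ∈ N := hker ▸ MonoidHom.mem_ker.2 (congrArg Subtype.val (MonoidHom.mem_ker.1 hk))
      by_contra htA
      refine htA ((quo_eq_one (A := A) ⟨t, htN⟩).1 (hfix y hy _ ?_))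
      rw [hφ, quoAut_mk]
      congr 1
      refine Subtype.ext ?_
      rw [MulAut.conjNormal_apply]
      show y * t * y⁻¹ = t
      rw [← mem_centralizer_singleton_iff.1 ht, mul_inv_cancel_right]
    have hyo : orderOf (φ.rangeRestrict y) = 5 := by
      refine orderOf_eq_prime (by rw [← map_pow, ← hy, pow_orderOf_eq_one, map_one]) fun h => ?_
      have hyN : y ∈ N := hker ▸ MonoidHom.mem_ker.2 (congrArg Subtype.val h)
      have := Subgroup.orderOf_dvd_natCard N hyN
      rw [hy, hNcard] at this
      norm_num at this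
    have h2 : Nat.card ψ.range ∣ 5 := by
      rw [← hyo, ← Nat.card_zpowers]
      refine Subgroup.card_dvd_of_le ?_
      rintro _ ⟨t, rfl⟩
      refine hcyc _ hyo _ ?_
      show φ.rangeRestrict t * φ.rangeRestrict y = φ.rangeRestrict y * φ.rangeRestrict t
      rw [← map_mul, ← map_mul, mem_centralizer_singleton_iff.1 t.2]
    rw [← ψ.ker.card_mul_index, index_ker, show (10 : ℕ) = 2 * 5 by rfl]
    exact mul_dvd_mul (h1.trans hA2) h2
  have hbig : ∀ g : G, g ∉ Subgroup.center G → 10 ≤ (centralizer ({g} : Set G)).index := by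
    intro g hg
    set T := centralizer ({g} : Set G) with hT
    have hmul := T.card_mul_index
    have hpos : 0 < T.index := Nat.pos_of_ne_zero Subgroup.index_ne_zero_of_finite
    have hGd : 32 ∣ Nat.card G := ⟨_, hcardG⟩
    have h160 : 160 ∣ Nat.card G :=
      Nat.Coprime.mul_dvd_of_dvd_of_dvd (by norm_num : Nat.Coprime 32 5) hGd
        ((show 5 ∣ 80 by norm_num).trans h80)
    have hle160 := Nat.le_of_dvd Nat.card_pos h160
    by_cases h5T : 5 ∣ Nat.card T
    · obtain ⟨⟨y', hy'T⟩, hy'⟩ := exists_prime_orderOf_dvd_card' (G := T) 5 h5T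
      rw [← Subgroup.orderOf_coe] at hy'
      simp only at hy'
      have hgy : g ∈ centralizer ({y'} : Set G) :=
        mem_centralizer_singleton_iff.2 (mem_centralizer_singleton_iff.1 hy'T).symm
      have hord : orderOf g ∣ 10 := (Subgroup.orderOf_dvd_natCard _ hgy).trans (hcy y' hy')
      have hg2 : g ^ 2 ≠ 1 := by
        intro h2
        have hgN : g ∈ N := by
          rw [← hker, MonoidHom.mem_ker]
          have hy'o : orderOf (φ.rangeRestrict y') = 5 := by
            refine orderOf_eq_prime (by rw [← map_pow, ← hy', pow_orderOf_eq_one, map_one]) fun h => ?_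
            have hyN : y' ∈ N := hker ▸ MonoidHom.mem_ker.2 (congrArg Subtype.val h)
            have := Subgroup.orderOf_dvd_natCard N hyN
            rw [hy', hNcard] at this
            norm_num at this
          have hmem := hcyc _ hy'o (φ.rangeRestrict g) (by
            rw [← map_mul, ← map_mul, mem_centralizer_singleton_iff.1 hgy])
          have h5' := orderOf_dvd_natCard (⟨_, hmem⟩ : zpowers (φ.rangeRestrict y'))
          rw [Nat.card_zpowers, hy'o, Subgroup.orderOf_mk] at h5'
          have h2' : orderOf (φ.rangeRestrict g) ∣ 2 :=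
            orderOf_dvd_of_pow_eq_one (by rw [← map_pow, h2, map_one])
          have h1 := Nat.dvd_gcd h5' h2'
          norm_num [orderOf_eq_one_iff] at h1
          exact congrArg Subtype.val h1
        have hgA : g ∈ A := (quo_eq_one (A := A) ⟨g, hgN⟩).1 (hfix y' hy' _ (by
          rw [hφ, quoAut_mk]
          congr 1
          refine Subtype.ext ?_
          rw [MulAut.conjNormal_apply]
          show y' * g * y'⁻¹ = g
          rw [← mem_centralizer_singleton_iff.1 hgy, mul_inv_cancel_right]))
        exact hg (Subgroup.mem_center_iff.2 fun a => (mem_centralizer_iff.1 (hC a) g hgA).symm)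
      have hg5 : orderOf (g ^ 2) = 5 := orderOf_eq_prime (by
        rw [← pow_mul]; exact orderOf_dvd_iff_pow_eq_one.1 hord) hg2
      have hTle : T ≤ centralizer ({g ^ 2} : Set G) := fun t ht =>
        mem_centralizer_singleton_iff.2
          ((show Commute t g from mem_centralizer_singleton_iff.1 ht).pow_right 2).eq
      have h10 : Nat.card T ≤ 10 :=
        Nat.le_of_dvd (by norm_num) ((Subgroup.card_dvd_of_le hTle).trans (hcy _ hg5))
      have := Nat.mul_le_mul_right T.index h10
      omega
    · have h5i : 5 ∣ T.index :=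
        ((Fact.out : Nat.Prime 5).dvd_mul.1 (hmul.symm ▸ (show 5 ∣ 80 by norm_num).trans h80)).resolve_left h5T
      by_contra hlt
      have hi5 : T.index = 5 := by
        obtain ⟨t, ht⟩ := h5i
        omega
      have hTN : N ≤ T := by
        have hsup : Nat.card (N ⊔ T : Subgroup G) ∣ Nat.card T * 32 := by
          have h := CfsgLib.PCore.card_sup_dvd_mul N T
          rw [hNcard, mul_comm 32] at h
          exact h
        have hrel := (T.subgroupOf (N ⊔ T)).card_mul_index
        rw [Nat.card_congr (subgroupOfEquivOfLe le_sup_right).toEquiv] at hrel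
        have hr32 : T.relIndex (N ⊔ T) ∣ 32 :=
          Nat.dvd_of_mul_dvd_mul_left Nat.card_pos (hrel.symm ▸ hsup :
            Nat.card T * T.relIndex (N ⊔ T) ∣ Nat.card T * 32)
        have hr5 : T.relIndex (N ⊔ T) ∣ 5 := hi5 ▸ relIndex_dvd_index_of_le le_sup_right
        have h1 : T.relIndex (N ⊔ T) = 1 := Nat.dvd_one.1 (Nat.dvd_gcd hr5 hr32)
        exact le_sup_left.trans (relIndex_eq_one.1 h1)
      refine hg (Subgroup.mem_center_iff.2 fun a => ?_)
      have hgA : g ∈ A := (hsat' g (hC g)).2 fun u hu =>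
        (mem_centralizer_singleton_iff.1 (hTN hu)).symm
      exact (mem_centralizer_iff.1 (hC a) g hgA).symm
  have hcl := mul_card_classes_le (G := G) (fun _ => True) (l := 10) (f := 2) (by norm_num)
    (fun g _ => hbig g) (by
      rw [← hAne]
      refine Nat.card_le_card_of_injective (fun g => (⟨g.1, (hsat' g.1 (hC _)).2 fun u _ =>
        (Subgroup.mem_center_iff.1 g.2.2 u).symm⟩ : A)) fun a b h =>
          Subtype.ext (congrArg (fun z : A => (z : G)) h))
  rw [Nat.card_congr (Equiv.subtypeUnivEquiv fun _ => trivial),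
    Nat.card_congr (Equiv.subtypeUnivEquiv fun _ => trivial)] at hcl
  omega

end CfsgLib.CoprimeTrans
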