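import Cfsg.Agent.Lib.CoprimeTrans.Lift
import Cfsg.Agent.Lib.CoprimeTrans.Basic
import Cfsg.Agent.Lib.LinSmall.Normal

/-!
# Large Sylow subgroups for primitive prime divisors are normal
-/

set_option autoImplicit false
set_option linter.style.haveILetI false

noncomputable section

namespace CfsgLib.CoprimeTrans

open Subgroup CfsgLib.Characters CfsgLib.LinSmall CfsgLib.SmallDegree
open scoped commutatorElement

universe u

/-- A large Sylow subgroup, with all centralisers of its elements of prime order abelian, is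
normal in a linear group of small degree. -/
theorem sylow_normal_of_large {r n : ℕ} [hr : Fact r.Prime] :
    ∀ (k : ℕ) (G : Type u) [Group G] [Finite G], Nat.card G ≤ k →
      ∀ (σ : Representation ℂ G (Fin n → ℂ)), Function.Injective σ →
      (∀ x : G, orderOf x = r → ∀ y z : G, y * x = x * y → z * x = x * z → y * z = z * y) →
      ∀ R : Sylow r G, (n + 1) ^ 2 ≤ Nat.card R → (R : Subgroup G).Normal := by
  intro k
  induction k with
  | zero => intro G _ _ hk; exact absurd hk (by have := Nat.card_pos (α := G); omega)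
  | succ k ih =>
    intro G _ _ hk σ hσ hab R hR
    classical
    haveI := Fintype.ofFinite G
    by_contra hnn
    -- full Sylow subgroups of proper subgroups are normal there
    have hsub : ∀ M : Subgroup G, M ≠ ⊤ → ∀ Q : Sylow r G, (hQM : (Q : Subgroup G) ≤ M) →
        ((Q.subtype hQM : Sylow r M) : Subgroup M).Normal := by
      intro M hM Q hQM
      have hlt : Nat.card M < Nat.card G :=
        lt_of_le_of_ne (Subgroup.card_le_card_group M) fun h => hM (Subgroup.eq_top_of_card_eq M h)
      refine ih M (by omega) (σ.comp M.subtype) (hσ.comp M.subtype_injective)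
        (fun x hx y z hy hz => Subtype.ext (hab (x : G) (by rw [Subgroup.orderOf_coe, hx]) y z
          (congrArg Subtype.val hy) (congrArg Subtype.val hz))) _ (hR.trans (le_of_eq ?_))
      rw [Sylow.coe_subtype, Nat.card_congr (subgroupOfEquivOfLe hQM).toEquiv]
      exact R.card_eq_multiplicity.trans Q.card_eq_multiplicity.symm
    have hn1 : 1 < Nat.card R := lt_of_lt_of_le (by
      rcases Nat.eq_zero_or_pos n with h | h
      · exfalso
        subst h
        haveI : Subsingleton G := ⟨fun a b => hσ (Subsingleton.elim _ _)⟩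
        exact hnn (by rw [Subgroup.eq_bot_of_subsingleton (R : Subgroup G)]; infer_instance)
      · nlinarith) hR
    -- every nontrivial element of `R` has a power of order `r`
    have hpow : ∀ (Q : Sylow r G), ∀ y ∈ (Q : Subgroup G), y ≠ 1 →
        ∃ j : ℕ, orderOf (y ^ j) = r := by
      intro Q y hy hy1
      have hp := orderOf_pos y
      have hd : r ∣ orderOf y := by
        obtain ⟨c, hc⟩ := Q.isPGroup' ⟨y, hy⟩
        obtain ⟨i, -, hi⟩ := (Nat.dvd_prime_pow hr.out).1
          (orderOf_dvd_of_pow_eq_one (congrArg Subtype.val hc : y ^ r ^ c = 1))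
        rw [hi]
        refine dvd_pow_self r fun h => hy1 ?_
        rw [h, pow_zero, orderOf_eq_one_iff] at hi
        exact hi
      exact ⟨orderOf y / r, orderOf_pow_orderOf_div hp.ne' hd⟩
    -- hence its centraliser is abelian
    have hcab : ∀ (Q : Sylow r G), ∀ y ∈ (Q : Subgroup G), y ≠ 1 → ∀ a b : G,
        a * y = y * a → b * y = y * b → a * b = b * a := by
      intro Q y hy hy1 a b ha hb
      obtain ⟨j, hj⟩ := hpow Q y hy hy1
      exact hab _ hj a b ((show Commute a y from ha).pow_right j).eq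
        ((show Commute b y from hb).pow_right j).eq
    have hQab : ∀ (Q : Sylow r G), ∀ a ∈ (Q : Subgroup G), ∀ b ∈ (Q : Subgroup G),
        a * b = b * a := by
      intro Q a ha b hb
      by_cases hQ : ∀ z ∈ (Q : Subgroup G), z = 1
      · rw [hQ a ha, hQ b hb]
      push Not at hQ
      obtain ⟨z₀, hz₀, hz₀1⟩ := hQ
      haveI : Nontrivial (Q : Subgroup G) := ⟨⟨z₀, hz₀⟩, 1, fun h => hz₀1 (congrArg Subtype.val h)⟩
      haveI := Q.isPGroup'.center_nontrivial
      obtain ⟨z, hz1⟩ := exists_ne (1 : Subgroup.center (Q : Subgroup G))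
      refine hcab Q ((z : (Q : Subgroup G)) : G) (z : (Q : Subgroup G)).2
        (fun h => hz1 (Subtype.ext (Subtype.ext h))) a b ?_ ?_
      · exact congrArg Subtype.val (Subgroup.mem_center_iff.1 z.2 ⟨a, ha⟩)
      · exact congrArg Subtype.val (Subgroup.mem_center_iff.1 z.2 ⟨b, hb⟩)
    set H : Subgroup G := (R : Subgroup G) with hH
    have hZ : H ⊓ Subgroup.center G = ⊥ := by
      rw [Subgroup.eq_bot_iff_forall]
      rintro z ⟨hzR, hzZ⟩
      by_contra hz
      have hc : ∀ a : G, a * z = z * a := fun a => Subgroup.mem_center_iff.1 hzZ a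
      refine hnn ⟨fun y hy g => ?_⟩
      rwa [hcab R z hzR hz g y (hc g) (hc y), mul_inv_cancel_right]
    have hone : ∀ g : G, g ∉ Subgroup.center G → ∀ a b : G,
        Subgroup.centralizer ({g} : Set G) ⊓ H.map (MulAut.conj a).toMonoidHom ≠ ⊥ →
        Subgroup.centralizer ({g} : Set G) ⊓ H.map (MulAut.conj b).toMonoidHom ≠ ⊥ →
        H.map (MulAut.conj a).toMonoidHom = H.map (MulAut.conj b).toMonoidHom := by
      intro g hg a b ha hb
      set M := Subgroup.centralizer ({g} : Set G) with hM
      have hMtop : M ≠ ⊤ := fun h => hg (Subgroup.mem_center_iff.2 fun w =>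
        Subgroup.mem_centralizer_singleton_iff.1 (h ▸ Subgroup.mem_top w : w ∈ M))
      have hle : ∀ a : G, M ⊓ H.map (MulAut.conj a).toMonoidHom ≠ ⊥ →
          ((MulAut.conj a • R : Sylow r G) : Subgroup G) ≤ M := by
        intro a ha w hw
        obtain ⟨⟨y, hy⟩, hy1'⟩ := Subgroup.ne_bot_iff_exists_ne_one.1 ha
        have hy1 : y ≠ 1 := fun h => hy1' (Subtype.ext h)
        rw [Subgroup.mem_inf] at hy
        have hyQ : y ∈ ((MulAut.conj a • R : Sylow r G) : Subgroup G) := hy.2
        exact Subgroup.mem_centralizer_singleton_iff.2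
          (hcab _ y hyQ hy1 w g (hQab _ w hw y hyQ)
            (Subgroup.mem_centralizer_singleton_iff.1 hy.1).symm)
      have h1 := hle a ha
      have h2 := hle b hb
      haveI := Sylow.unique_of_normal _ (hsub M hMtop _ h1)
      have h3 : (MulAut.conj a • R : Sylow r G).subtype h1 = (MulAut.conj b • R : Sylow r G).subtype h2 :=
        Subsingleton.elim _ _
      exact congrArg (fun Q : Sylow r G => (Q : Subgroup G)) (Sylow.subtype_injective h3)
    have hgen : ∀ M : Subgroup G, M.Normal → H ≤ M → M = ⊤ := by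
      intro M hM hle
      by_contra hne
      haveI := hM
      have h1 : ((R.subtype hle : Sylow r M) : Subgroup M).Normal := hsub M hne R hle
      haveI := Sylow.characteristic_of_normal _ h1
      have h2 : (((R.subtype hle : Sylow r M) : Subgroup M).map M.subtype).Normal := inferInstance
      rw [Sylow.coe_subtype, map_subgroupOf_eq_of_le hle] at h2
      exact hnn h2
    -- a commutator with an element of `R` seen by a constituent
    obtain ⟨x, hxR, g, hxg⟩ : ∃ x ∈ H, ∃ g : G, ⁅x, g⁆ ≠ 1 := by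
      by_contra hc
      push Not at hc
      refine hnn ⟨fun y hy g => ?_⟩
      have h := commutatorElement_eq_one_iff_mul_comm.1 (hc y hy g)
      rwa [← h, mul_inv_cancel_right]
    obtain ⟨γ, d, hγ, hd, hd0, hdn, hγc⟩ := exists_constituent σ hσ hxg
    have hd2 : 2 ≤ d := by
      by_contra h
      obtain rfl : d = 1 := by omega
      exact hγc (linear_commutator hγ (by simpa using hd) x g)
    have hker : ∃ h ∈ H, γ h ≠ γ 1 := by
      refine ⟨x, hxR, fun h => hγc ?_⟩
      obtain ⟨m, τ, -, rfl⟩ := hγ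
      rw [Representation.char_one] at h ⊢
      have h1 : τ x = 1 := (char_eq_degree_iff τ x).1 h
      refine (char_eq_degree_iff τ _).2 (show τ ⁅x, g⁆ = 1 from ?_)
      rw [commutatorElement_def, map_mul, map_mul, map_mul, h1, one_mul]
      have h2 : τ x⁻¹ = 1 := by
        have := map_mul τ x⁻¹ x
        rw [inv_mul_cancel, map_one, h1, mul_one] at this
        exact this.symm
      rw [h2, mul_one, ← map_mul, mul_inv_cancel, map_one]
    have hlt := CfsgLib.DegreeBound.one_add_degree_sq_gt H (hQab R) hZ hone hgen hγ hker hd hd2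
    have : (1 + d) ^ 2 ≤ (n + 1) ^ 2 := Nat.pow_le_pow_left (by omega) 2
    exact absurd (hR.trans_lt (hlt.trans_le this)) (lt_irrefl _)

section Trans

open CfsgLib.TransLinear CfsgLib.NumberTheory

variable {q : ℕ} [Fact q.Prime] {V : Type*} [AddCommGroup V] [Module (ZMod q) V] [Finite V]
  {G : Type u} [Group G] [Finite G] {ρ : G →* (V ≃ₗ[ZMod q] V)}

theorem exists_semi_of_half_lt (hρ : Function.Injective ρ) (htr : Trans ρ) [Nontrivial V]
    (hcop : ¬ q ∣ Nat.card G) {r : ℕ} (hr : IsPPD r q (Module.finrank (ZMod q) V))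
    (hn : 0 < Module.finrank (ZMod q) V) (h : 2 * Module.finrank (ZMod q) V + 1 < r) :
    ∃ C, Semi ρ C := by
  obtain ⟨σ, hσ⟩ := exists_complex_rep hcop ρ hρ
  haveI : Fact r.Prime := ⟨hr.prime⟩
  exact exists_semi_of_sylow_normal hρ htr hr hn
    (ns_of_lt_half σ hσ (by rw [Module.finrank_fin_fun]; exact h))

theorem exists_semi_of_sq_dvd (hρ : Function.Injective ρ) (htr : Trans ρ) [Nontrivial V]
    (hcop : ¬ q ∣ Nat.card G) {r : ℕ} (hr : IsPPD r q (Module.finrank (ZMod q) V))
    (hn : 0 < Module.finrank (ZMod q) V) (h : r ^ 2 ∣ q ^ Module.finrank (ZMod q) V - 1) :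
    ∃ C, Semi ρ C := by
  obtain ⟨σ, hσ⟩ := exists_complex_rep hcop ρ hρ
  haveI : Fact r.Prime := ⟨hr.prime⟩
  refine exists_semi_of_sylow_normal hρ htr hr hn fun Q => sylow_normal_of_large _ G le_rfl σ hσ
    (fun x hx _ _ hy hz => comm_centralizer_of_orderOf hρ hr hn hx hy hz) Q ?_
  refine le_trans (Nat.pow_le_pow_left (hr.lt (Fact.out : q.Prime).one_le hn) 2) ?_
  obtain ⟨c, hc⟩ := IsPGroup.iff_card.1 Q.isPGroup'
  rw [hc]
  refine Nat.pow_le_pow_right hr.prime.pos ?_
  have h1 : r ^ 2 ∣ Nat.card Q := by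
    rw [Sylow.card_eq_multiplicity]
    exact pow_dvd_pow r ((hr.prime.pow_dvd_iff_le_factorization Nat.card_pos.ne').1
      (h.trans (pow_sub_one_dvd htr)))
  rw [hc] at h1
  exact (Nat.pow_dvd_pow_iff_le_right hr.prime.one_lt).1 h1

/-- Outside the semilinear case a primitive part of `q ^ n - 1` divides `(n + 1) (2 n + 1)`. -/
theorem dvd_of_not_semi (hρ : Function.Injective ρ) (htr : Trans ρ) [Nontrivial V]
    (hcop : ¬ q ∣ Nat.card G) (hsemi : ∀ C, ¬ Semi ρ C) (hn : 0 < Module.finrank (ZMod q) V)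
    {m : ℕ} (hm : m ∣ q ^ Module.finrank (ZMod q) V - 1)
    (hlow : ∀ i : ℕ, 1 ≤ i → i < Module.finrank (ZMod q) V → Nat.Coprime m (q ^ i - 1)) :
    m ∣ (Module.finrank (ZMod q) V + 1) * (2 * Module.finrank (ZMod q) V + 1) := by
  set n := Module.finrank (ZMod q) V
  have hm0 : m ≠ 0 := fun h => by
    rw [h, zero_dvd_iff] at hm
    have := Nat.one_lt_pow hn.ne' (Fact.out : q.Prime).one_lt
    omega
  have hppd : ∀ r, r.Prime → r ∣ m → IsPPD r q n := fun r hr hrm =>
    ⟨hr, hrm.trans hm, fun i h1 h2 hd => Nat.not_coprime_of_dvd_of_dvd hr.one_lt hrm hd (hlow i h1 h2)⟩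
  have hsf : Squarefree m := by
    rw [Nat.squarefree_iff_prime_squarefree]
    intro r hr hd
    obtain ⟨C, hC⟩ := exists_semi_of_sq_dvd hρ htr hcop (hppd r hr ((dvd_mul_right r r).trans hd)) hn
      (by rw [pow_two]; exact hd.trans hm)
    exact hsemi C hC
  rw [← Nat.prod_primeFactors_of_squarefree hsf]
  refine dvd_trans (Finset.prod_dvd_prod_of_subset _
    ((n + 1) * (2 * n + 1)).primeFactors _ fun r hr => ?_) (Nat.prod_primeFactors_dvd _)
  rw [Nat.mem_primeFactors] at hr ⊢
  refine ⟨hr.1, ?_, by positivity⟩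
  have hppdr := hppd r hr.1 hr.2.1
  have hle : r ≤ 2 * n + 1 := by
    by_contra h
    obtain ⟨C, hC⟩ := exists_semi_of_half_lt hρ htr hcop hppdr hn (by omega)
    exact hsemi C hC
  have hlt := hppdr.lt (Fact.out : q.Prime).one_le hn
  obtain ⟨c, hc⟩ := hppdr.dvd_sub_one (Fact.out : q.Prime).one_le hn
  have hc3 : c < 3 := by
    by_contra h
    have : n * 3 ≤ n * c := Nat.mul_le_mul_left _ (by omega)
    omega
  interval_cases c
  · omega
  · exact Dvd.intro _ (by rw [show r = n + 1 by omega])
  · exact Dvd.intro_left _ (by rw [show r = 2 * n + 1 by omega])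

end Trans

end CfsgLib.CoprimeTrans
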