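import Cfsg.Agent.Lib.Structure.ComplementProduct
import Cfsg.Agent.Lib.CyclicDefect.Witt
import Mathlib.RingTheory.WittVector.Compare
import Mathlib.NumberTheory.Padics.ProperSpace

/-!
# Lifting a coprime linear group over the prime field to a complex linear group
-/

set_option autoImplicit false
set_option linter.style.haveILetI false

noncomputable section

namespace CfsgLib.CoprimeTrans

open Filter Topology

variable {p : ℕ} [hp : Fact p.Prime]

/-- An embedding of the `p`-adic integers into the complex numbers. -/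
def padicToC (p : ℕ) [Fact p.Prime] : ℤ_[p] →+* ℂ :=
  (CfsgLib.CyclicDefect.toC p).comp
    ((WittVector.map (algebraMap (ZMod p) (CfsgLib.CyclicDefect.ResField p))).comp
      (WittVector.equiv p).symm.toRingHom)

theorem padicToC_injective : Function.Injective (padicToC p) :=
  (CfsgLib.CyclicDefect.toC_injective p).comp
    ((WittVector.map_injective _ (algebraMap (ZMod p) (CfsgLib.CyclicDefect.ResField p)).injective).comp
      (WittVector.equiv p).symm.injective)

/-- A coprime group of matrices over `ZMod p` lifts to the `p`-adic integers. -/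
theorem exists_padic_lift {G : Type*} [Group G] [Finite G] (hG : ¬ p ∣ Nat.card G) {d : ℕ}
    (ρ : G →* GL (Fin d) (ZMod p)) :
    ∃ σ : G →* Matrix (Fin d) (Fin d) ℤ_[p],
      ∀ g, (σ g).map (PadicInt.toZMod (p := p)) = (ρ g : Matrix (Fin d) (Fin d) (ZMod p)) := by
  classical
  haveI : ∀ k : ℕ, NeZero (p ^ (k + 1)) := fun k => ⟨pow_ne_zero _ hp.out.ne_zero⟩
  choose τ hτ using fun k => CfsgLib.ComplementProduct.exists_lift hG ρ k
  let f : ℕ → G → Fin d → Fin d → ℤ_[p] := fun k g i j =>
    ((((τ k g : Matrix (Fin d) (Fin d) (ZMod (p ^ (k + 1)))) i j).val : ℕ) : ℤ_[p])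
  have hf : ∀ k g i j, PadicInt.toZModPow (k + 1) (f k g i j) =
      (τ k g : Matrix (Fin d) (Fin d) (ZMod (p ^ (k + 1)))) i j := fun k g i j => by
    rw [map_natCast, ZMod.natCast_zmod_val]
  have hf0 : ∀ k g i j, PadicInt.toZMod (f k g i j) =
      (ρ g : Matrix (Fin d) (Fin d) (ZMod p)) i j := fun k g i j => by
    rw [← hτ k g, map_natCast]
    show _ = ZMod.castHom (dvd_pow_self p k.succ_ne_zero) (ZMod p) _
    rw [← map_natCast (ZMod.castHom (dvd_pow_self p k.succ_ne_zero) (ZMod p)),
      ZMod.natCast_zmod_val]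
  obtain ⟨F, -, φ, hφ, hF⟩ := isCompact_univ.tendsto_subseq (x := f) fun _ => Set.mem_univ _
  have hFlim : ∀ g i j, Tendsto (fun k => f (φ k) g i j) atTop (𝓝 (F g i j)) := fun g i j =>
    tendsto_pi_nhds.1 (tendsto_pi_nhds.1 (tendsto_pi_nhds.1 hF g) i) j
  have hmul : ∀ g h i j, F (g * h) i j = ∑ l, F g i l * F h l j := by
    intro g h i j
    have h1 : Tendsto (fun k => f (φ k) (g * h) i j - ∑ l, f (φ k) g i l * f (φ k) h l j) atTop
        (𝓝 (F (g * h) i j - ∑ l, F g i l * F h l j)) :=
      (hFlim _ i j).sub (tendsto_finsetSum _ fun l _ => (hFlim g i l).mul (hFlim h l j))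
    have h2 : Tendsto (fun k => f (φ k) (g * h) i j - ∑ l, f (φ k) g i l * f (φ k) h l j) atTop
        (𝓝 0) := by
      rw [tendsto_zero_iff_norm_tendsto_zero]
      have hp1 : (1 : ℝ) < p := by exact_mod_cast hp.out.one_lt
      refine squeeze_zero (fun _ => norm_nonneg _) (fun k => ?_)
        ((tendsto_pow_atTop_nhds_zero_of_lt_one (inv_nonneg.2 (by positivity))
          (inv_lt_one_of_one_lt₀ hp1)).comp ((tendsto_add_atTop_nat 1).comp hφ.tendsto_atTop))
      have hker : f (φ k) (g * h) i j - ∑ l, f (φ k) g i l * f (φ k) h l j ∈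
          RingHom.ker (PadicInt.toZModPow (φ k + 1) : ℤ_[p] →+* _) := by
        rw [RingHom.mem_ker, map_sub, map_sum, hf, map_mul, Units.val_mul, Matrix.mul_apply,
          sub_eq_zero]
        exact Finset.sum_congr rfl fun l _ => by rw [map_mul, hf, hf]
      rw [PadicInt.ker_toZModPow, ← PadicInt.norm_le_pow_iff_mem_span_pow] at hker
      refine hker.trans (le_of_eq ?_)
      simp only [Function.comp_apply]
      rw [inv_pow, zpow_neg, zpow_natCast]
    exact sub_eq_zero.1 (tendsto_nhds_unique h1 h2)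
  have hred : ∀ g i j, PadicInt.toZMod (F g i j) = (ρ g : Matrix (Fin d) (Fin d) (ZMod p)) i j := by
    intro g i j
    obtain ⟨k, hk⟩ := ((hFlim g i j).eventually
      (Metric.ball_mem_nhds (F g i j) one_pos)).exists
    rw [← hf0 (φ k) g i j]
    refine (sub_eq_zero.1 ?_).symm
    rw [← map_sub, ← RingHom.mem_ker, PadicInt.ker_toZMod, IsLocalRing.mem_maximalIdeal]
    exact PadicInt.mem_nonunits.2 (by rw [← dist_eq_norm]; exact hk)
  let M : G → Matrix (Fin d) (Fin d) ℤ_[p] := fun g => Matrix.of (F g)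
  have hMmul : ∀ g h, M (g * h) = M g * M h := fun g h => by
    ext i j
    simp [M, Matrix.mul_apply, hmul]
  have hMred : ∀ g, (M g).map (PadicInt.toZMod (p := p)) =
      (ρ g : Matrix (Fin d) (Fin d) (ZMod p)) := fun g => by ext i j; simp [M, hred]
  have hdet : IsUnit (M 1).det := by
    rw [PadicInt.isUnit_iff]
    by_contra hne
    have h1 : (M 1).det ∈ RingHom.ker (PadicInt.toZMod (p := p)) := by
      rw [PadicInt.ker_toZMod, IsLocalRing.mem_maximalIdeal]
      exact PadicInt.mem_nonunits.2 (lt_of_le_of_ne (PadicInt.norm_le_one _) hne)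
    rw [RingHom.mem_ker, RingHom.map_det, RingHom.mapMatrix_apply, hMred, map_one,
      Units.val_one, Matrix.det_one] at h1
    exact one_ne_zero h1
  have hone : M 1 = 1 := by
    refine ((Matrix.isUnit_iff_isUnit_det _).2 hdet).mul_left_cancel ?_
    rw [← hMmul, one_mul, mul_one]
  exact ⟨⟨⟨M, hone⟩, hMmul⟩, hMred⟩

/-- A faithful coprime linear group over `ZMod p` has a faithful complex representation of the same
degree. -/
theorem exists_complex_rep {G : Type*} [Group G] [Finite G] (hG : ¬ p ∣ Nat.card G) {V : Type*}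
    [AddCommGroup V] [Module (ZMod p) V] [Finite V] (ρ : G →* (V ≃ₗ[ZMod p] V))
    (hρ : Function.Injective ρ) :
    ∃ σ : Representation ℂ G (Fin (Module.finrank (ZMod p) V) → ℂ), Function.Injective σ := by
  classical
  haveI : Module.Finite (ZMod p) V := Module.Finite.of_finite
  let b := Module.finBasis (ZMod p) V
  let e : Module.End (ZMod p) V →* Matrix _ _ (ZMod p) :=
    (LinearMap.toMatrixAlgEquiv b).toRingEquiv.toMulEquiv.toMonoidHom
  let τ : G →* Module.End (ZMod p) V :=
    { toFun := fun g => (ρ g : V →ₗ[ZMod p] V)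
      map_one' := by rw [map_one]; rfl
      map_mul' := fun g h => by rw [map_mul]; rfl }
  obtain ⟨σ, hσ⟩ := exists_padic_lift hG (e.comp τ).toHomUnits
  refine ⟨(Matrix.toLinAlgEquiv' (R := ℂ)).toRingEquiv.toMulEquiv.toMonoidHom.comp
    ((padicToC p).mapMatrix.toMonoidHom.comp σ), fun g h hgh => hρ ?_⟩
  have h1 : (σ g).map (padicToC p) = (σ h).map (padicToC p) :=
    (Matrix.toLinAlgEquiv' (R := ℂ)).injective hgh
  have h2 : σ g = σ h := Matrix.map_injective padicToC_injective h1
  have h3 : e (τ g) = e (τ h) := by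
    have := congrArg (fun A => A.map (PadicInt.toZMod (p := p))) h2
    simpa only [hσ, MonoidHom.coe_toHomUnits, MonoidHom.comp_apply] using this
  exact LinearEquiv.toLinearMap_injective ((LinearMap.toMatrixAlgEquiv b).injective h3)

end CfsgLib.CoprimeTrans
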