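import Cfsg.Agent.Lib.CoprimeTrans.Bound

/-!
# Lower bounds for class numbers of coprime transitive linear groups
-/

set_option autoImplicit false
set_option linter.style.haveILetI false
set_option linter.unusedSectionVars false
set_option synthInstance.maxHeartbeats 100000

noncomputable section

namespace CfsgLib.CoprimeTrans

open Subgroup CfsgLib.TransLinear CfsgLib.NumberTheory

universe u

/-- A group with at most two classes has order at most two. -/
theorem card_le_two_of_classes {G : Type u} [Group G] [Finite G]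
    (h : Nat.card (ConjClasses G) ≤ 2) : Nat.card G ≤ 2 := by
  classical
  by_contra h3
  haveI : Nontrivial G := Finite.one_lt_card_iff_nontrivial.1 (by omega)
  obtain ⟨g, hg⟩ := exists_ne (1 : G)
  haveI := Fintype.ofFinite (ConjClasses G)
  have hall : ∀ x : G, x ≠ 1 → ConjClasses.mk x = ConjClasses.mk g := by
    intro x hx
    by_contra hne
    have h1 : ({ConjClasses.mk 1, ConjClasses.mk g, ConjClasses.mk x} : Finset (ConjClasses G)).card
        ≤ 2 := (Finset.card_le_univ _).trans (by rwa [← Nat.card_eq_fintype_card])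
    have e1 : ConjClasses.mk (1 : G) ≠ ConjClasses.mk g := fun e =>
      hg (isConj_one_left.1 (ConjClasses.mk_eq_mk_iff_isConj.1 e).symm)
    have e2 : ConjClasses.mk (1 : G) ≠ ConjClasses.mk x := fun e =>
      hx (isConj_one_left.1 (ConjClasses.mk_eq_mk_iff_isConj.1 e).symm)
    rw [Finset.card_eq_three.2 ⟨_, _, _, e1, e2, Ne.symm hne, rfl⟩] at h1
    omega
  have hcar : (ConjClasses.mk g).carrier = ({1} : Set G)ᶜ := by
    ext x
    rw [ConjClasses.mem_carrier_iff_mk_eq, Set.mem_compl_singleton_iff]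
    refine ⟨fun e hx => ?_, hall x⟩
    rw [hx] at e
    exact hg (isConj_one_left.1 (ConjClasses.mk_eq_mk_iff_isConj.1 e).symm)
  have hidx := card_carrier_eq_index' g
  rw [hcar, Nat.card_coe_set_eq, Set.ncard_compl, Set.ncard_singleton] at hidx
  have hd : Nat.card G - 1 ∣ Nat.card G := hidx ▸ (centralizer ({g} : Set G)).index_dvd_card
  have h1 := Nat.dvd_sub hd (dvd_refl (Nat.card G - 1))
  rw [show Nat.card G - (Nat.card G - 1) = 1 by omega, Nat.dvd_one] at h1
  omega

theorem pow_bound {p : ℕ} (hp : 5 ≤ p) : ∀ {n : ℕ}, 2 ≤ n → n + n * n * (p - 3) + 1 < p ^ n := by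
  intro n hn
  obtain ⟨a, rfl⟩ := Nat.exists_eq_add_of_le hp
  rw [show 5 + a - 3 = 2 + a by omega]
  induction n, hn using Nat.le_induction with
  | base => nlinarith
  | succ n hn ih =>
    rw [pow_succ (5 + a)]
    have h0 : 0 ≤ n * n * (2 + a) := Nat.zero_le _
    have h1 : (n + 1) * (n + 1) ≤ n * n * 4 := by nlinarith
    have h2 : (n + 1) * (n + 1) * (2 + a) ≤ n * n * 4 * (2 + a) := Nat.mul_le_mul_right _ h1
    have h3 : (5 + a) ^ n * 5 ≤ (5 + a) ^ n * (5 + a) := Nat.mul_le_mul_left _ (by omega)
    nlinarith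

variable {q : ℕ} [Fact q.Prime] {V : Type*} [AddCommGroup V] [Module (ZMod q) V] [Finite V]
  {G : Type u} [Group G] [Finite G] {ρ : G →* (V ≃ₗ[ZMod q] V)}

/-- A semilinear group of dimension at least two has at least `q` classes. -/
theorem semi_le_classes (htr : Trans ρ) [Nontrivial V] {C : Subgroup G} (hS : Semi ρ C)
    (hq5 : 5 ≤ q) (hn : 2 ≤ Module.finrank (ZMod q) V) : q ≤ Nat.card (ConjClasses G) := by
  classical
  haveI := hS.normal
  haveI := hS.cyclic
  set n := Module.finrank (ZMod q) V with hn'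
  have hdn : C.index ≤ n := Nat.le_of_dvd (by omega) hS.index_dvd
  have hd0 : C.index ≠ 0 := Subgroup.index_ne_zero_of_finite
  have hG : q ^ n - 1 ≤ Nat.card C * C.index := by
    rw [C.card_mul_index]; exact Nat.le_of_dvd Nat.card_pos (pow_sub_one_dvd htr)
  by_contra hlt
  push Not at hlt
  haveI := Fintype.ofFinite G
  haveI := Fintype.ofFinite (ConjClasses G)
  let s : Finset (ConjClasses G) :=
    Finset.univ.filter fun x => ∃ g ∈ C, ConjClasses.mk g = x
  have hmem : ∀ g : G, ConjClasses.mk g ∈ s → g ∈ C := fun g hg => by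
    obtain ⟨h, hh, he⟩ := (Finset.mem_filter.1 hg).2
    obtain ⟨a, rfl⟩ := isConj_iff.1 (ConjClasses.mk_eq_mk_iff_isConj.1 he)
    exact hS.normal.conj_mem h hh a
  have hsum : Nat.card C ≤ 1 + (s.erase (ConjClasses.mk 1)).card * C.index := by
    have h1 : Nat.card C = (Finset.univ.filter (· ∈ C)).card := by
      rw [Nat.card_eq_fintype_card, Fintype.card_subtype]
    have hmaps : ∀ g ∈ Finset.univ.filter (· ∈ C), ConjClasses.mk g ∈ s := fun g hg =>
      Finset.mem_filter.2 ⟨Finset.mem_univ _, g, (Finset.mem_filter.1 hg).2, rfl⟩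
    rw [h1, Finset.card_eq_sum_card_fiberwise hmaps,
      ← Finset.add_sum_erase s _ (hmaps 1 (Finset.mem_filter.2 ⟨Finset.mem_univ _, one_mem C⟩))]
    refine Nat.add_le_add ?_ ?_
    · rw [Finset.card_le_one]
      intro a ha b hb
      simp only [Finset.mem_filter] at ha hb
      rw [isConj_one_left.1 (ConjClasses.mk_eq_mk_iff_isConj.1 ha.2),
        isConj_one_left.1 (ConjClasses.mk_eq_mk_iff_isConj.1 hb.2)]
    · refine (Finset.sum_le_card_nsmul _ _ _ fun x hx => ?_).trans (le_of_eq (smul_eq_mul _ _))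
      obtain ⟨g, rfl⟩ := ConjClasses.mk_surjective x
      have hgC : g ∈ C := hmem g (Finset.mem_erase.1 hx).2
      calc _ ≤ (ConjClasses.mk g).carrier.toFinset.card := Finset.card_le_card fun y hy => by
            rw [Finset.mem_filter] at hy
            rw [Set.mem_toFinset, ConjClasses.mem_carrier_iff_mk_eq]; exact hy.2
        _ = (centralizer ({g} : Set G)).index := by
            rw [← card_carrier_eq_index', Nat.card_coe_set_eq, Set.ncard_eq_toFinset_card']
        _ ≤ C.index := Nat.le_of_dvd (Nat.pos_of_ne_zero hd0) (Subgroup.index_dvd_of_le fun c hc =>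
            mem_centralizer_singleton_iff.2
              (congrArg Subtype.val (IsCyclic.commGroup.mul_comm (⟨c, hc⟩ : C) ⟨g, hgC⟩)))
  have hs1 : ConjClasses.mk (1 : G) ∈ s := Finset.mem_filter.2 ⟨Finset.mem_univ _, 1, one_mem C, rfl⟩
  rw [Nat.card_eq_fintype_card (α := ConjClasses G), ← Finset.card_univ] at hlt
  rw [Finset.card_erase_of_mem hs1] at hsum
  have hspos : 0 < s.card := Finset.card_pos.2 ⟨_, hs1⟩
  by_cases hd1 : C.index = 1
  · have hall : s = Finset.univ := Finset.eq_univ_iff_forall.2 fun x => by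
      obtain ⟨g, rfl⟩ := ConjClasses.mk_surjective x
      exact Finset.mem_filter.2 ⟨Finset.mem_univ _, g, (index_eq_one.1 hd1).ge (mem_top g), rfl⟩
    rw [hd1, mul_one] at hG hsum
    rw [hall] at hsum
    have h1 : q * q ≤ q ^ n := by rw [← pow_two]; exact Nat.pow_le_pow_right (by omega) hn
    have h2 : 5 * q ≤ q * q := Nat.mul_le_mul_right q hq5
    omega
  · obtain ⟨g, hg⟩ : ∃ g, g ∉ C := by
      by_contra h
      push Not at h
      exact hd1 (index_eq_one.2 (eq_top_iff.2 fun g _ => h g))
    have hproper : s.card < Finset.univ.card := Finset.card_lt_card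
      (Finset.ssubset_iff_of_subset (Finset.subset_univ s) |>.2
        ⟨ConjClasses.mk g, Finset.mem_univ _, fun h => hg (hmem g h)⟩)
    have hb := pow_bound hq5 hn
    have h1 : Nat.card C ≤ 1 + n * (q - 3) := by
      refine hsum.trans (Nat.add_le_add_left ?_ 1)
      rw [mul_comm n]
      exact Nat.mul_le_mul (by omega) hdn
    have h2 : Nat.card C * C.index ≤ (1 + n * (q - 3)) * n := Nat.mul_le_mul h1 hdn
    have h3 : (1 + n * (q - 3)) * n = n + n * n * (q - 3) := by ring
    omega

/-- The class number is at least `q`, with two kinds of exception. -/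
theorem le_classes (hρ : Function.Injective ρ) (htr : Trans ρ) [Nontrivial V]
    (hcop : ¬ q ∣ Nat.card G) {v : V} (hv : v ≠ 0) (H : Subgroup G)
    (hH : ∀ g, g ∈ H ↔ ρ g v = v) :
    q ≤ Nat.card (ConjClasses G) ∨
      (Module.finrank (ZMod q) V = 1 ∧ IsCyclic G ∧ Nat.card G = q - 1 ∧
        Nat.card (ConjClasses G) = q - 1) ∨
      (q = 11 ∧ Module.finrank (ZMod q) V = 2 ∧ Nat.card G = 120 ∧ Nat.card H = 1 ∧
        Nat.card (ConjClasses G) = 9 ∧ Nat.card (scalars (act ρ)) = 2) := by
  classical
  have hqp : q.Prime := Fact.out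
  haveI : Module.Finite (ZMod q) V := Module.Finite.of_finite
  set n := Module.finrank (ZMod q) V with hn
  have hn0 : 0 < n := Module.finrank_pos
  have hdvd := pow_sub_one_dvd htr
  rw [← hn] at hdvd
  by_cases hn1 : n = 1
  · right; left
    obtain ⟨C, hS⟩ := exists_semi_of_finrank_one hρ htr hn1
    have hd : C.index = 1 := Nat.dvd_one.1 (hn1 ▸ hS.index_dvd)
    haveI := hS.cyclic
    have hC := index_eq_one.1 hd
    have hcyc : IsCyclic G := by
      have h' := hS.cyclic
      rw [hC] at h'
      haveI := h'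
      exact isCyclic_of_surjective (Subgroup.topEquiv : (⊤ : Subgroup G) ≃* G).toMonoidHom
        (Subgroup.topEquiv : (⊤ : Subgroup G) ≃* G).surjective
    have hcard : Nat.card G = q - 1 := by
      refine Nat.dvd_antisymm ?_ ?_
      · have h := hS.card_dvd
        rw [← hn, hn1, pow_one, hC, Subgroup.card_top] at h
        exact h
      · rwa [hn1, pow_one] at hdvd
    refine ⟨hn1, hcyc, hcard, ?_⟩
    rw [← hcard]
    letI : CommGroup G := IsCyclic.commGroup
    exact (Nat.card_congr ConjClasses.mkEquiv).symm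
  have hn2 : 2 ≤ n := by omega
  by_cases hq3 : q ≤ 3
  · left
    by_contra hlt
    have h2 := card_le_two_of_classes (G := G) (by omega)
    have h3 := Nat.le_of_dvd Nat.card_pos hdvd
    have h4 : 2 ^ 2 ≤ q ^ n := le_trans (Nat.pow_le_pow_left hqp.two_le 2)
      (Nat.pow_le_pow_right hqp.pos hn2)
    omega
  have hq5 : 5 ≤ q := by
    have : q ≠ 4 := fun h => by rw [h] at hqp; norm_num at hqp
    omega
  rcases classify hρ htr hcop with ⟨C, hS⟩ | ⟨-, hn2', hexc⟩ | ⟨h3, -⟩
  · exact Or.inl (semi_le_classes htr hS hq5 hn2)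
  · obtain ⟨g, z, w, h, hz, hh, h0, hG, hw, hg, -, hcases⟩ :=
      excTwo_facts hρ htr hn2' hcop hexc hv H hH
    by_cases hz1 : q = 5 ∧ z = 1
    · obtain ⟨h5, rfl⟩ := hz1
      exfalso
      -- a regular group of even order has a central involution
      have hw4 : w = 4 := by omega
      rw [hw4, h5] at hg
      have h1 : h = 1 := by rcases hcases with ⟨h', -⟩ | ⟨h', -⟩ | ⟨-, -, h'⟩ <;> omega
      haveI : Fact (Nat.Prime 2) := ⟨Nat.prime_two⟩
      obtain ⟨u, hu⟩ := exists_prime_orderOf_dvd_card' (G := G) 2 (by rw [hG]; omega)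
      have hfpf : ∀ x : V, x ≠ 0 → ρ u x = x → u = 1 := by
        intro x hx hux
        obtain ⟨a, ha⟩ := htr v x hv hx
        have hmem : a⁻¹ * u * a ∈ H := by
          rw [hH, map_mul, map_mul]
          show ρ a⁻¹ (ρ u (ρ a v)) = v
          rw [ha, hux, ← ha]
          show (ρ a⁻¹ * ρ a) v = v
          rw [← map_mul, inv_mul_cancel, map_one]; rfl
        rw [Subgroup.card_eq_one.1 (hh.trans h1), Subgroup.mem_bot] at hmem
        calc u = a * (a⁻¹ * u * a) * a⁻¹ := by group
          _ = 1 := by rw [hmem, mul_one, mul_inv_cancel]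
      have hu1 : u ≠ 1 := fun h => by rw [h, orderOf_one] at hu; norm_num at hu
      have hneg : ∀ x, ρ u x = -x := by
        intro x
        have hfix : ρ u (x + ρ u x) = x + ρ u x := by
          rw [map_add]
          show ρ u x + (ρ u * ρ u) x = x + ρ u x
          rw [← map_mul, ← pow_two, ← hu, pow_orderOf_eq_one, map_one, add_comm]; rfl
        by_contra hne
        exact hu1 (hfpf _ (fun h0 => hne (eq_neg_of_add_eq_zero_right h0)) hfix)
      have humem : u ∈ scalars (act ρ) := ⟨-1, LinearMap.ext fun x => by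
        rw [act_apply, hneg, LinearMap.smul_apply, Module.End.one_apply, neg_smul, one_smul]⟩
      have h2 := Subgroup.orderOf_dvd_natCard _ humem
      rw [hu, hz] at h2
      norm_num at h2
    have hz0 : 1 ≤ z := by rw [← hz]; exact Nat.card_pos
    have hw0 : 1 ≤ w := Nat.pos_of_ne_zero fun h => by rw [h, mul_zero] at hw; omega
    have hgq : q + 1 ≤ g := hg ▸ le_trans (Nat.le_mul_of_pos_right _ hw0) (Nat.le_mul_of_pos_left _ h0)
    have hgd : (q + 1) * w ∣ g := ⟨h, by rw [hg]; ring⟩
    rcases hcases with ⟨rfl, hk⟩ | ⟨rfl, hk⟩ | ⟨rfl, hk, hq5'⟩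
    · left
      rcases (show q = 5 ∨ q = 7 ∨ q = 11 by
        rcases (show q = 5 ∨ q = 6 ∨ q = 7 ∨ q = 8 ∨ q = 9 ∨ q = 10 ∨ q = 11 by omega) with
          e | e | e | e | e | e | e <;> first | omega | (rw [e] at hqp; norm_num at hqp)) with
        rfl | rfl | rfl
      all_goals
        have hw' : w ≤ 2 := by
          have h2 := Nat.le_of_dvd (by norm_num) hgd
          omega
        interval_cases w <;> omega
    · left
      rcases (show q = 5 ∨ q = 7 ∨ q = 11 ∨ q = 13 ∨ q = 17 ∨ q = 19 ∨ q = 23 by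
        have : q ≤ 23 := by omega
        rcases (show q = 5 ∨ q = 6 ∨ q = 7 ∨ q = 8 ∨ q = 9 ∨ q = 10 ∨ q = 11 ∨ q = 12 ∨ q = 13 ∨
            q = 14 ∨ q = 15 ∨ q = 16 ∨ q = 17 ∨ q = 18 ∨ q = 19 ∨ q = 20 ∨ q = 21 ∨ q = 22 ∨
            q = 23 by omega) with
          e | e | e | e | e | e | e | e | e | e | e | e | e | e | e | e | e | e | e <;>
          first | omega | (rw [e] at hqp; norm_num at hqp)) with
        rfl | rfl | rfl | rfl | rfl | rfl | rfl
      all_goals
        have hw' : w ≤ 4 := by
          have h2 := Nat.le_of_dvd (by norm_num) hgd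
          omega
        interval_cases w <;> first | omega | (norm_num at hgd; done)
    · have h12 : q + 1 ∣ 60 := (dvd_mul_right _ _).trans hgd
      have hq59 : q ≤ 59 := by have := Nat.le_of_dvd (by norm_num) h12; omega
      have hcase : q = 11 ∨ q = 19 ∨ q = 29 ∨ q = 59 := by
        have hsmall : ∀ t ≤ 59, 5 < t → Nat.Prime t → t + 1 ∣ 60 → t = 11 ∨ t = 19 ∨ t = 29 ∨ t = 59 := by
          intro t h1 h2 h3 h4
          interval_cases t <;> simp_all (config := { decide := true })
        exact hsmall q hq59 (by omega) hqp h12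
      have hw' : w ≤ 5 := by
        have h2 := Nat.le_of_dvd (by norm_num) hgd
        rcases hcase with rfl | rfl | rfl | rfl <;> omega
      rcases hcase with rfl | rfl | rfl | rfl
      · interval_cases w
        all_goals first
          | (left; omega)
          | (norm_num at hgd; done)
          | omega
      all_goals
        left
        interval_cases w <;> omega
  · omega

end CfsgLib.CoprimeTrans
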