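import Cfsg.Agent.Lib.CoprimeTrans.PlaneArith

/-!
# Coprime groups of linear maps of a plane
-/

set_option autoImplicit false
set_option linter.style.haveILetI false

noncomputable section

namespace CfsgLib.CoprimeTrans

open Subgroup Finset

variable {K : Type*} [Field K] {W : Type*} [AddCommGroup W] [Module K W] {C : Type*} [Group C]
  (σ : C →* Module.End K W)

/-- The elements acting as scalars. -/
def scalars : Subgroup C where
  carrier := {g | ∃ c : K, σ g = c • 1}
  one_mem' := ⟨1, by rw [map_one, one_smul]⟩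
  mul_mem' := fun {a b} ⟨c, hc⟩ ⟨d, hd⟩ => ⟨c * d, by
    rw [map_mul, hc, hd, smul_mul_smul_comm, one_mul]⟩
  inv_mem' := fun {a} ⟨c, hc⟩ => by
    by_cases h0 : c = 0
    · refine ⟨0, ?_⟩
      rw [zero_smul]
      have h := map_mul σ a a⁻¹
      rw [mul_inv_cancel, map_one, hc, h0, zero_smul, zero_mul] at h
      rw [← mul_one (σ a⁻¹), h, mul_zero]
    · refine ⟨c⁻¹, ?_⟩
      have h : σ a * σ a⁻¹ = 1 := by rw [← map_mul, mul_inv_cancel, map_one]
      rw [hc, smul_mul_assoc, one_mul] at h
      rw [← h, smul_smul, inv_mul_cancel₀ h0, one_smul]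

variable {σ}

theorem scalars_comm (hσ : Function.Injective σ) {z : C} (hz : z ∈ scalars σ) (g : C) :
    g * z = z * g := by
  obtain ⟨c, hc⟩ := hz
  refine hσ ?_
  rw [map_mul, map_mul, hc, mul_smul_comm, smul_mul_assoc, mul_one, one_mul]

theorem exists_indep (hW : Module.finrank K W = 2) {g : C} (hg : g ∉ scalars σ) :
    ∃ v : W, LinearIndependent K ![v, σ g v] := by
  haveI : FiniteDimensional K W := Module.finite_of_finrank_eq_succ hW
  by_contra h
  push Not at h
  exact hg ((σ g).exists_eq_smul_id_of_forall_notLinearIndependent h)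

theorem exists_mem_plane (hW : Module.finrank K W = 2) {g : C} {v : W}
    (hli : LinearIndependent K ![v, σ g v]) (w : W) : ∃ a b : K, w = a • v + b • σ g v := by
  haveI : FiniteDimensional K W := Module.finite_of_finrank_eq_succ hW
  have h := hli.span_eq_top_of_card_eq_finrank (by rw [Fintype.card_fin, hW])
  have hw : w ∈ Submodule.span K (Set.range ![v, σ g v]) := h ▸ Submodule.mem_top
  rw [Matrix.range_cons, Matrix.range_cons, Matrix.range_empty, Set.union_empty,
    Set.singleton_union, Submodule.mem_span_pair] at hw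
  obtain ⟨a, b, hab⟩ := hw
  exact ⟨a, b, hab.symm⟩

theorem eq_of_commute (hW : Module.finrank K W = 2) {g : C} {v : W}
    (hli : LinearIndependent K ![v, σ g v]) {f₁ f₂ : Module.End K W} (h₁ : Commute f₁ (σ g))
    (h₂ : Commute f₂ (σ g)) (hv : f₁ v = f₂ v) : f₁ = f₂ := by
  refine LinearMap.ext fun w => ?_
  obtain ⟨a, b, rfl⟩ := exists_mem_plane hW hli w
  rw [map_add, map_add, map_smul, map_smul, map_smul, map_smul, hv, ← Module.End.mul_apply,
    h₁.eq, Module.End.mul_apply, hv, ← Module.End.mul_apply, ← h₂.eq, Module.End.mul_apply]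

theorem exists_comb (hW : Module.finrank K W = 2) {g : C} {v : W}
    (hli : LinearIndependent K ![v, σ g v]) {f : Module.End K W} (hf : Commute f (σ g)) :
    ∃ a b : K, f = a • 1 + b • σ g := by
  obtain ⟨a, b, hab⟩ := exists_mem_plane hW hli (f v)
  refine ⟨a, b, eq_of_commute hW hli hf ?_ ?_⟩
  · exact ((Commute.one_left _).smul_left a).add_left ((Commute.refl _).smul_left b)
  · rw [hab]
    rfl

theorem comm_of_commute (hσ : Function.Injective σ) (hW : Module.finrank K W = 2) {g u w : C}
    (hg : g ∉ scalars σ) (hu : u * g = g * u) (hw : w * g = g * w) : u * w = w * u := by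
  obtain ⟨v, hv⟩ := exists_indep hW hg
  obtain ⟨a, b, hab⟩ := exists_comb hW hv (f := σ u)
    (show σ u * σ g = σ g * σ u by rw [← map_mul, ← map_mul, hu])
  refine hσ ?_
  rw [map_mul, map_mul, hab]
  have hc : Commute (σ w) (σ g) := show _ * _ = _ * _ by rw [← map_mul, ← map_mul, hw]
  exact ((((Commute.one_right (σ w)).smul_right a).add_right (hc.smul_right b)).eq).symm

theorem centralizer_eq (hσ : Function.Injective σ) (hW : Module.finrank K W = 2) {g h : C}
    (hg : g ∉ scalars σ) (hh : h ∉ scalars σ) (hgh : h ∈ centralizer ({g} : Set C)) :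
    centralizer ({h} : Set C) = centralizer ({g} : Set C) := by
  rw [mem_centralizer_singleton_iff] at hgh
  refine le_antisymm (fun x hx => ?_) (fun x hx => ?_) <;>
    rw [mem_centralizer_singleton_iff] at hx ⊢
  · exact comm_of_commute hσ hW hh hx hgh.symm
  · exact comm_of_commute hσ hW hg hx hgh

theorem scalars_le_centralizer (hσ : Function.Injective σ) (g : C) :
    scalars σ ≤ centralizer ({g} : Set C) :=
  fun _ hz => mem_centralizer_singleton_iff.2 (scalars_comm hσ hz g).symm

variable [Finite C]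

/-- A normalizing element either centralizes or sends `g` to `t - g`. -/
theorem exists_conj_alt (hσ : Function.Injective σ) (hW : Module.finrank K W = 2)
    (hC : (Nat.card C : K) ≠ 0) (h2 : (2 : K) ≠ 0) {g : C} (hg : g ∉ scalars σ) :
    ∃ t : K, ∀ n ∈ normalizer (centralizer ({g} : Set C) : Set C),
      n ∈ centralizer ({g} : Set C) ∨ σ (n * g * n⁻¹) = t • 1 - σ g := by
  obtain ⟨v, hli⟩ := exists_indep hW hg
  obtain ⟨d, t, hq⟩ := exists_comb hW hli (f := σ g * σ g) ((Commute.refl (σ g)).mul_left (Commute.refl _))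
  refine ⟨t, fun n hn => ?_⟩
  have hdisc : t * t + 4 * d ≠ 0 := by
    intro h0
    set l : K := t / 2 with hl
    set N := σ g - l • (1 : Module.End K W) with hN
    have hl2 : t = l + l := by
      rw [hl, ← two_mul, mul_div_assoc', mul_div_cancel_left₀ t h2]
    have hd : d = -(l * l) := by
      have h4 : (2 : K) * 2 * (d + l * l) = 0 := by rw [← h0, hl2]; ring
      rcases mul_eq_zero.1 h4 with h | h
      · exact absurd h (mul_ne_zero h2 h2)
      · exact eq_neg_of_add_eq_zero_left h
    have hN2 : N * N = 0 := by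
      rw [hN, sub_mul, mul_sub, mul_sub, hq, smul_mul_assoc, one_mul, mul_smul_comm, mul_one,
        smul_mul_smul_comm, one_mul, hd, hl2, neg_smul, add_smul]
      abel
    have hg' : σ g = l • 1 + N := by rw [hN, add_sub_cancel]
    have hpow : ∀ m : ℕ, σ g ^ (m + 1) = l ^ (m + 1) • 1 + ((m + 1 : ℕ) * l ^ m) • N := by
      intro m
      induction m with
      | zero => simp [hg']
      | succ m ih =>
        rw [pow_succ (σ g) (m + 1), ih]
        conv_lhs => rw [hg']
        simp only [add_mul, mul_add, smul_mul_assoc, mul_smul_comm, one_mul, mul_one, hN2,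
          smul_zero, add_zero]
        rw [pow_succ l (m + 1)]
        push_cast
        module
    have hpos := orderOf_pos g
    obtain ⟨m, hm⟩ := Nat.exists_eq_succ_of_ne_zero hpos.ne'
    have h1 := hpow m
    rw [← Nat.succ_eq_add_one, ← hm, ← map_pow, pow_orderOf_eq_one, map_one] at h1
    have h3 : ((orderOf g : ℕ) * l ^ m : K) • N = (1 - l ^ orderOf g) • (1 : Module.End K W) := by
      rw [sub_smul, one_smul, eq_sub_iff_add_eq', ← h1]
    by_cases hc : ((orderOf g : ℕ) * l ^ m : K) = 0
    · rcases mul_eq_zero.1 hc with h | h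
      · refine hC ?_
        obtain ⟨k, hk⟩ := orderOf_dvd_natCard g
        rw [hk, Nat.cast_mul, h, zero_mul]
      · obtain ⟨hl0, -⟩ := pow_eq_zero_iff'.1 h
        have h4 : σ g * σ g = 0 := by rw [hq, hd, hl2, hl0]; simp
        have h5 : σ g = 0 := by
          have h6 : σ g⁻¹ * σ g = 1 := by rw [← map_mul, inv_mul_cancel, map_one]
          rw [← one_mul (σ g), ← h6, mul_assoc, h4, mul_zero]
        exact hg ⟨0, by rw [h5, zero_smul]⟩
    · refine hg ⟨l + ((orderOf g : ℕ) * l ^ m : K)⁻¹ * (1 - l ^ orderOf g), ?_⟩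
      rw [add_smul, ← smul_smul, ← h3, smul_smul, inv_mul_cancel₀ hc, one_smul]
      exact hg'
  set h := n * g * n⁻¹ with hh
  have hmem : h ∈ centralizer ({g} : Set C) :=
    (mem_normalizer_iff.1 hn g).1 (mem_centralizer_singleton_iff.2 rfl)
  obtain ⟨a, b, hab⟩ := exists_comb hW hli (f := σ h)
    (show σ h * σ g = σ g * σ h by rw [← map_mul, ← map_mul, mem_centralizer_singleton_iff.1 hmem])
  have hh2 : σ h * σ h = d • 1 + t • σ h := by
    rw [hh, map_mul, map_mul]
    have h1 : σ n⁻¹ * σ n = 1 := by rw [← map_mul, inv_mul_cancel, map_one]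
    have h1' : σ n * σ n⁻¹ = 1 := by rw [← map_mul, mul_inv_cancel, map_one]
    calc σ n * σ g * σ n⁻¹ * (σ n * σ g * σ n⁻¹) = σ n * (σ g * (σ n⁻¹ * σ n) * σ g) * σ n⁻¹ := by
          simp only [mul_assoc]
      _ = σ n * (d • 1 + t • σ g) * σ n⁻¹ := by rw [h1, mul_one, hq]
      _ = _ := by
          rw [mul_add, mul_smul_comm, mul_one, mul_smul_comm, add_mul, smul_mul_assoc, h1',
            smul_mul_assoc]
  have e1 : (a * a + b * b * d - d - t * a) • v +
      (2 * a * b + b * b * t - t * b) • σ g v = 0 := by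
    have h3 := LinearMap.congr_fun hh2 v
    have h4 := LinearMap.congr_fun hq v
    simp only [hab, Module.End.mul_apply, LinearMap.add_apply, LinearMap.smul_apply,
      Module.End.one_apply, map_add, map_smul] at h3 h4
    rw [h4] at h3
    rw [← sub_eq_zero] at h3
    refine Eq.trans ?_ h3
    simp only [smul_add, smul_smul, add_smul, sub_smul]
    module
  obtain ⟨e2, e3⟩ := LinearIndependent.pair_iff.1 hli _ _ e1
  have hb0 : b ≠ 0 := by
    intro hb
    have hhZ : h ∈ scalars σ := ⟨a, by rw [hab, hb, zero_smul, add_zero]⟩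
    refine hg ?_
    have he : n * g = g * n := by
      calc n * g = h * n := by rw [hh, inv_mul_cancel_right]
        _ = n * h := (scalars_comm hσ hhZ n).symm
        _ = n * (n * g * n⁻¹) := rfl
        _ = g * n := by
          have hgh : g = n * g * n⁻¹ := by
            have := scalars_comm hσ hhZ n⁻¹
            rw [hh] at this
            calc g = n⁻¹ * (n * g * n⁻¹) * n := by group
              _ = n * g * n⁻¹ * n⁻¹ * n := by rw [this]
              _ = n * g * n⁻¹ := by group
          rw [← hgh]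
          calc n * g = (n * g * n⁻¹) * n := by group
            _ = g * n := by rw [← hgh]
    rwa [hh, he, mul_inv_cancel_right] at hhZ
  have e4 : 2 * a + b * t - t = 0 := by
    refine (mul_eq_zero.1 (show b * (2 * a + b * t - t) = 0 from ?_)).resolve_left hb0
    rw [← e3]; ring
  have e5 : (b * b - 1) * (t * t + 4 * d) = 0 := by
    linear_combination 4 * e2 - (2 * a - t - b * t) * e4
  have e6 : b * b - 1 = 0 := (mul_eq_zero.1 e5).resolve_right hdisc
  rcases mul_self_eq_one_iff.1 (sub_eq_zero.1 e6) with hb | hb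
  · left
    have ha : a = 0 := by
      rw [hb, one_mul, add_sub_cancel_right] at e4
      exact (mul_eq_zero.1 e4).resolve_left h2
    have he : h = g := hσ (by rw [hab, ha, hb, zero_smul, zero_add, one_smul])
    rw [mem_centralizer_singleton_iff]
    calc n * g = h * n := by rw [hh, inv_mul_cancel_right]
      _ = g * n := by rw [he]
  · right
    have ha : a = t := by
      rw [hb] at e4
      refine sub_eq_zero.1 ((mul_eq_zero.1 (show (2 : K) * (a - t) = 0 from ?_)).resolve_left h2)
      rw [← e4]; ring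
    rw [hab, ha, hb, neg_smul, one_smul, ← sub_eq_add_neg]

theorem relIndex_normalizer (hσ : Function.Injective σ) (hW : Module.finrank K W = 2)
    (hC : (Nat.card C : K) ≠ 0) (h2 : (2 : K) ≠ 0) {g : C} (hg : g ∉ scalars σ) :
    (centralizer ({g} : Set C)).relIndex (normalizer (centralizer ({g} : Set C) : Set C)) = 1 ∨
      (centralizer ({g} : Set C)).relIndex (normalizer (centralizer ({g} : Set C) : Set C)) = 2 := by
  set T := centralizer ({g} : Set C)
  set N := normalizer (T : Set C)
  obtain ⟨t, ht⟩ := exists_conj_alt hσ hW hC h2 hg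
  by_cases hall : ∀ n ∈ N, n ∈ T
  · exact Or.inl (relIndex_eq_one.2 hall)
  push Not at hall
  obtain ⟨n₀, hn₀, hn₀T⟩ := hall
  right
  show (T.subgroupOf N).index = 2
  have hkey : ∀ n ∈ N, n ∉ T → n₀⁻¹ * n ∈ T := by
    intro n hn hnT
    have h1 := (ht n hn).resolve_left hnT
    have h2 := (ht n₀ hn₀).resolve_left hn₀T
    have h3 : n * g * n⁻¹ = n₀ * g * n₀⁻¹ := hσ (h1.trans h2.symm)
    rw [mem_centralizer_singleton_iff]
    calc n₀⁻¹ * n * g = n₀⁻¹ * (n * g * n⁻¹) * n := by group
      _ = n₀⁻¹ * (n₀ * g * n₀⁻¹) * n := by rw [h3]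
      _ = g * (n₀⁻¹ * n) := by group
  rw [index_eq_two_iff_exists_notMem_and']
  refine ⟨⟨n₀, hn₀⟩⁻¹, fun h => hn₀T (by simpa [mem_subgroupOf] using h), ?_⟩
  intro b
  simp only [mem_subgroupOf, Subgroup.coe_mul, Subgroup.coe_inv]
  by_cases hb : (b : C) ∈ T
  · exact Or.inr hb
  · exact Or.inl (hkey b b.2 hb)

end CfsgLib.CoprimeTrans
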