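import Mathlib

/-!
# The arithmetic of partitions of a coprime plane linear group modulo scalars
-/

set_option autoImplicit false

namespace CfsgLib.CoprimeTrans

/-- The exceptional pairs of the order modulo scalars and twice the class number over it. -/
def excTypes : List (ℕ × ℕ) := [(12, 7), (24, 8), (60, 9)]

theorem three_sorted {g a b c x y w : ℕ} (ha : 2 ≤ a) (hb : 2 ≤ b) (hc : 2 ≤ c)
    (hx : x * a * 2 = g) (hy : y * b * 2 = g) (hw : w * c * 2 = g) (hxy : y ≤ x) (hyw : w ≤ y)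
    (hsum : g = 1 + (x * (a - 1) + y * (b - 1) + w * (c - 1))) (hw1 : w ≠ 1) :
    a ≤ 5 ∧ b ≤ 5 ∧ c ≤ 5 ∧ ((g = 12 ∧ a + b + c = 8) ∨ (g = 24 ∧ a + b + c = 9) ∨
      (g = 60 ∧ a + b + c = 10)) := by
  obtain ⟨a', rfl⟩ := Nat.exists_eq_add_of_le ha
  obtain ⟨b', rfl⟩ := Nat.exists_eq_add_of_le hb
  obtain ⟨c', rfl⟩ := Nat.exists_eq_add_of_le hc
  simp only [show ∀ t, 2 + t - 1 = 1 + t from fun t => by omega] at hsum
  have ha0 : a' = 0 := by
    by_contra h
    have : x * 1 ≤ x * a' := Nat.mul_le_mul_left _ (by omega)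
    nlinarith
  subst ha0
  have hb1 : b' ≤ 1 := by
    by_contra h
    have : y * 2 ≤ y * b' := Nat.mul_le_mul_left _ (by omega)
    nlinarith
  have hw0 : 2 ≤ w := by
    rcases Nat.eq_zero_or_pos w with h | h
    · subst h; simp at hw; omega
    · omega
  interval_cases b'
  · exfalso; nlinarith
  · have h2 : 2 * w = y + 2 := by nlinarith
    have hle : c' ≤ 3 := by
      by_contra h
      have : w * 4 ≤ w * c' := Nat.mul_le_mul_left _ (by omega)
      nlinarith
    interval_cases c' <;> omega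

theorem three_perm {g a b c x y w : ℕ} (ha : 2 ≤ a) (hb : 2 ≤ b) (hc : 2 ≤ c)
    (hx : x * a * 2 = g) (hy : y * b * 2 = g) (hw : w * c * 2 = g)
    (hsum : g = 1 + (x * (a - 1) + y * (b - 1) + w * (c - 1)))
    (hx1 : x ≠ 1) (hy1 : y ≠ 1) (hw1 : w ≠ 1) :
    a ≤ 5 ∧ b ≤ 5 ∧ c ≤ 5 ∧ ((g = 12 ∧ a + b + c = 8) ∨ (g = 24 ∧ a + b + c = 9) ∨
      (g = 60 ∧ a + b + c = 10)) := by
  rcases le_total y x with h1 | h1 <;> rcases le_total w y with h2 | h2 <;>
    rcases le_total w x with h3 | h3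
  all_goals first
    | (have := three_sorted ha hb hc hx hy hw (by omega) (by omega) (by omega) hw1; omega)
    | (have := three_sorted ha hc hb hx hw hy (by omega) (by omega) (by omega) hy1; omega)
    | (have := three_sorted hb ha hc hy hx hw (by omega) (by omega) (by omega) hw1; omega)
    | (have := three_sorted hb hc ha hy hw hx (by omega) (by omega) (by omega) hx1; omega)
    | (have := three_sorted hc ha hb hw hx hy (by omega) (by omega) (by omega) hy1; omega)
    | (have := three_sorted hc hb ha hw hy hx (by omega) (by omega) (by omega) hx1; omega)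

theorem two_mixed {g a b x y : ℕ} (ha : 2 ≤ a) (hb : 2 ≤ b) (hx : x * a = g) (hy : y * b * 2 = g)
    (hsum : g = 1 + (x * (a - 1) + y * (b - 1))) (hy1 : y ≠ 1) : g = 12 ∧ a = 3 ∧ b = 2 := by
  obtain ⟨a', rfl⟩ := Nat.exists_eq_add_of_le ha
  obtain ⟨b', rfl⟩ := Nat.exists_eq_add_of_le hb
  simp only [show ∀ t, 2 + t - 1 = 1 + t from fun t => by omega] at hsum
  have hxy : g + 2 = 2 * x + 2 * y := by nlinarith
  have ha2 : a' ≤ 1 := by
    by_contra h
    have h4 : x * 2 ≤ x * a' := Nat.mul_le_mul_left _ (by omega)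
    have h5 : 4 * y ≤ g := by nlinarith
    nlinarith
  interval_cases a'
  · omega
  · have hb0 : b' = 0 := by
      by_contra h
      have : y * 1 ≤ y * b' := Nat.mul_le_mul_left _ (by omega)
      nlinarith
    subst hb0
    omega

/-- The possible types. -/
theorem types {ι : Type*} (s : Finset ι) (a e c : ι → ℕ) {g : ℕ} (hg : 2 ≤ g)
    (ha : ∀ i ∈ s, 2 ≤ a i) (he : ∀ i ∈ s, e i = 1 ∨ e i = 2)
    (hc : ∀ i ∈ s, c i * a i * e i = g) (hsum : g = 1 + ∑ i ∈ s, c i * (a i - 1)) :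
    (∃ i ∈ s, c i = 1) ∨
      ((g, 2 + ∑ i ∈ s, (3 - e i) * (a i - 1)) ∈ excTypes ∧ ∀ i ∈ s, a i ≤ 5) := by
  classical
  by_cases h1 : ∃ i ∈ s, c i = 1
  · exact Or.inl h1
  right
  push Not at h1
  have hlow : ∀ i ∈ s, g ≤ 4 * (c i * (a i - 1)) ∧ (e i = 1 → g ≤ 2 * (c i * (a i - 1))) := by
    intro i hi
    have hA := hc i hi
    obtain ⟨t, ht⟩ := Nat.exists_eq_add_of_le (ha i hi)
    rw [ht] at hA ⊢
    rw [show 2 + t - 1 = 1 + t by omega]
    rcases he i hi with h | h <;> rw [h] at hA ⊢ <;> constructor <;> intros <;> nlinarith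
  have hcard : s.card ≤ 3 := by
    by_contra h
    have h2 : ∑ _i ∈ s, g ≤ ∑ i ∈ s, 4 * (c i * (a i - 1)) :=
      Finset.sum_le_sum fun i hi => (hlow i hi).1
    rw [Finset.sum_const, smul_eq_mul, ← Finset.mul_sum] at h2
    have : 4 * g ≤ s.card * g := Nat.mul_le_mul_right _ (by omega)
    omega
  obtain h0 | h0 | h0 | h0 : s.card = 0 ∨ s.card = 1 ∨ s.card = 2 ∨ s.card = 3 := by omega
  · rw [Finset.card_eq_zero] at h0
    subst h0
    simp at hsum
    omega
  · obtain ⟨i, rfl⟩ := Finset.card_eq_one.1 h0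
    simp only [Finset.mem_singleton, forall_eq, Finset.sum_singleton] at *
    exfalso
    have hpos : 1 ≤ c i := Nat.pos_of_ne_zero fun h => by rw [h] at hc; simp at hc; omega
    obtain ⟨t, ht⟩ := Nat.exists_eq_add_of_le ha
    rw [ht] at hc hsum
    rw [show 2 + t - 1 = 1 + t by omega] at hsum
    rcases he with h | h <;> rw [h] at hc
    · exact h1 (by nlinarith)
    · nlinarith
  · obtain ⟨i, j, hij, rfl⟩ := Finset.card_eq_two.1 h0
    simp only [Finset.mem_insert, Finset.mem_singleton, forall_eq_or_imp, forall_eq,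
      Finset.sum_pair hij] at *
    obtain ⟨hai, haj⟩ := ha
    obtain ⟨hei, hej⟩ := he
    obtain ⟨hci, hcj⟩ := hc
    obtain ⟨hi1, hj1⟩ := h1
    obtain ⟨⟨hi4, hi2⟩, hj4, hj2⟩ := hlow
    rcases hei with hei | hei <;> rcases hej with hej | hej <;> rw [hei] at hci ⊢ <;>
      rw [hej] at hcj ⊢
    · exfalso
      have := hi2 hei
      have := hj2 hej
      omega
    · obtain ⟨rfl, e1, e2⟩ := two_mixed hai haj (by rw [← hci, mul_one]) hcj hsum hj1
      rw [e1, e2]
      exact ⟨by decide, by omega, by omega⟩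
    · obtain ⟨rfl, e1, e2⟩ := two_mixed haj hai (by rw [← hcj, mul_one]) hci
        (by omega) hi1
      rw [e1, e2]
      exact ⟨by decide, by omega, by omega⟩
    · exfalso
      have h2 : 2 * (c i * (a i - 1)) + 2 * c i = g := by
        obtain ⟨t, ht⟩ := Nat.exists_eq_add_of_le hai
        rw [ht] at hci ⊢
        rw [show 2 + t - 1 = 1 + t by omega]
        nlinarith
      have h3 : 2 * (c j * (a j - 1)) + 2 * c j = g := by
        obtain ⟨t, ht⟩ := Nat.exists_eq_add_of_le haj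
        rw [ht] at hcj ⊢
        rw [show 2 + t - 1 = 1 + t by omega]
        nlinarith
      omega
  · obtain ⟨i, j, l, hij, hil, hjl, rfl⟩ := Finset.card_eq_three.1 h0
    simp only [Finset.mem_insert, Finset.mem_singleton, forall_eq_or_imp, forall_eq] at *
    rw [Finset.sum_insert (by simp [hij, hil]), Finset.sum_pair hjl] at hsum ⊢
    obtain ⟨hai, haj, hal⟩ := ha
    obtain ⟨hei, hej, hel⟩ := he
    obtain ⟨hci, hcj, hcl⟩ := hc
    obtain ⟨hi1, hj1, hl1⟩ := h1
    obtain ⟨⟨hi4, hi2⟩, ⟨hj4, hj2⟩, hl4, hl2⟩ := hlow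
    have he2 : e i = 2 ∧ e j = 2 ∧ e l = 2 := by
      refine ⟨hei.resolve_left fun h => ?_, hej.resolve_left fun h => ?_,
        hel.resolve_left fun h => ?_⟩
      · have := hi2 h; omega
      · have := hj2 h; omega
      · have := hl2 h; omega
    obtain ⟨e1, e2, e3⟩ := he2
    rw [e1] at hci
    rw [e2] at hcj
    rw [e3] at hcl
    rw [e1, e2, e3]
    obtain ⟨b1, b2, b3, hT⟩ :=
      three_perm hai haj hal hci hcj hcl (by omega) hi1 hj1 hl1
    refine ⟨?_, b1, b2, b3⟩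
    rcases hT with ⟨rfl, hs⟩ | ⟨rfl, hs⟩ | ⟨rfl, hs⟩
    · rw [show 2 + ((3 - 2) * (a i - 1) + ((3 - 2) * (a j - 1) + (3 - 2) * (a l - 1))) = 7 by omega]
      decide
    · rw [show 2 + ((3 - 2) * (a i - 1) + ((3 - 2) * (a j - 1) + (3 - 2) * (a l - 1))) = 8 by omega]
      decide
    · rw [show 2 + ((3 - 2) * (a i - 1) + ((3 - 2) * (a j - 1) + (3 - 2) * (a l - 1))) = 9 by omega]
      decide

end CfsgLib.CoprimeTrans
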