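import Cfsg.Agent.Lib.Coprime.SchurZassenhaus
import Cfsg.Agent.Lib.CoprimeTrans.SemiCount
import Mathlib.GroupTheory.Perm.Cycle.Type
import Mathlib.GroupTheory.QuotientGroup.Basic

/-!
# Classes of `p`-regular elements: lifting and counting
-/

set_option autoImplicit false
set_option linter.style.haveILetI false

namespace CfsgLib.CoprimeTrans

open Subgroup

variable {G X : Type*} [Group G] [Group X] [Finite G]

/-- The classes of `p`-regular elements. -/
abbrev RegClass (p : ℕ) (G : Type*) [Group G] : Type _ :=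
  {c : ConjClasses G // ∃ g : G, ConjClasses.mk g = c ∧ ¬ p ∣ orderOf g}

/-- An element of order prime to `n` is the image of such an element. -/
theorem exists_lift_coprime (f : G →* X) (hf : Function.Surjective f) (x : X) {n : ℕ}
    (hx : (orderOf x).Coprime n) : ∃ g, f g = x ∧ (orderOf g).Coprime n := by
  suffices h : ∀ m, ∀ g, orderOf g = m → f g = x → ∃ g, f g = x ∧ (orderOf g).Coprime n by
    obtain ⟨g, hg⟩ := hf x
    exact h _ g rfl hg
  intro m
  induction m using Nat.strong_induction_on with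
  | _ m ih =>
    intro g hm hg
    by_cases hcop : (orderOf g).Coprime n
    · exact ⟨g, hg, hcop⟩
    obtain ⟨s, hs, hsm, hsn⟩ := Nat.Prime.not_coprime_iff_dvd.1 hcop
    have hsx : s.Coprime (orderOf x) := (hs.coprime_iff_not_dvd).2 fun h =>
      hs.not_dvd_one (hx ▸ Nat.dvd_gcd h hsn)
    obtain ⟨i, hi⟩ := exists_pow_eq_self_of_coprime hsx
    refine ih _ ?_ ((g ^ s) ^ i) rfl (by rw [map_pow, map_pow, hg, hi])
    have h1 : orderOf ((g ^ s) ^ i) ≤ orderOf (g ^ s) :=
      Nat.le_of_dvd (orderOf_pos _) (orderOf_pow_dvd _)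
    rw [orderOf_pow_of_dvd hs.ne_zero hsm, hm] at h1
    have hpos : 0 < m := hm ▸ orderOf_pos g
    exact lt_of_le_of_lt h1 (Nat.div_lt_self hpos hs.one_lt)

/-- A `p`-element is the image of a `p`-element. -/
theorem exists_lift_pPower (p : ℕ) [hp : Fact p.Prime] (f : G →* X) (hf : Function.Surjective f)
    (x : X) (hx : ∃ k : ℕ, orderOf x = p ^ k) : ∃ g, f g = x ∧ ∃ k : ℕ, orderOf g = p ^ k := by
  obtain ⟨k, hk⟩ := hx
  obtain ⟨a, b, hb, hab⟩ := Nat.exists_eq_pow_mul_and_not_dvd
    (Nat.card_pos (α := G)).ne' p hp.out.ne_one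
  obtain ⟨g, hg, hcop⟩ := exists_lift_coprime f hf x (n := b)
    (hk ▸ Nat.Coprime.pow_left k ((hp.out.coprime_iff_not_dvd).2 hb))
  refine ⟨g, hg, ?_⟩
  obtain ⟨j, -, hj⟩ := (Nat.dvd_prime_pow hp.out).1
    (hcop.dvd_of_dvd_mul_right (hab ▸ orderOf_dvd_natCard g))
  exact ⟨j, hj⟩

variable {p : ℕ} [hp : Fact p.Prime]

/-- Over a kernel of order prime to `p`, everything above a `p`-regular element is `p`-regular. -/
theorem regular_of_map (f : G →* X) (hker : ¬ p ∣ Nat.card f.ker) {g : G}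
    (hg : ¬ p ∣ orderOf (f g)) : ¬ p ∣ orderOf g := by
  intro h
  have h1 : g ^ orderOf (f g) ∈ f.ker := by rw [MonoidHom.mem_ker, map_pow, pow_orderOf_eq_one]
  have h2 : g ^ (orderOf (f g) * Nat.card f.ker) = 1 := by
    rw [pow_mul]
    exact congrArg Subtype.val (pow_card_eq_one' (x := (⟨_, h1⟩ : f.ker)))
  rcases hp.out.dvd_mul.1 (h.trans (orderOf_dvd_of_pow_eq_one h2)) with h' | h'
  · exact hg h'
  · exact hker h'

variable (f : G →* X)

/-- The map on classes of `p`-regular elements. -/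
def regMap : RegClass p G → RegClass p X := fun c =>
  ⟨ConjClasses.map f c.1, by
    obtain ⟨g, hg, hgp⟩ := c.2
    exact ⟨f g, hg ▸ rfl, fun h => hgp (h.trans (orderOf_map_dvd f g))⟩⟩

theorem regMap_surjective (hf : Function.Surjective f) :
    Function.Surjective (regMap (p := p) f) := by
  rintro ⟨c, x, rfl, hx⟩
  obtain ⟨g, rfl, hg⟩ := exists_lift_coprime f hf x ((hp.out.coprime_iff_not_dvd).2 hx).symm
  exact ⟨⟨ConjClasses.mk g, g, rfl, hp.out.coprime_iff_not_dvd.1 hg.symm⟩, rfl⟩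

theorem card_le_regClass (hf : Function.Surjective f) :
    Nat.card (RegClass p X) ≤ Nat.card (RegClass p G) :=
  Nat.card_le_card_of_surjective _ (regMap_surjective f hf)

/-- Two non-conjugate regular elements with the same image give one more class upstairs. -/
theorem card_add_one_le_regClass (hf : Function.Surjective f) {a a' : G}
    (ha : ¬ p ∣ orderOf a) (ha' : ¬ p ∣ orderOf a') (hfa : f a = f a') (hne : ¬ IsConj a a') :
    Nat.card (RegClass p X) + 1 ≤ Nat.card (RegClass p G) := by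
  classical
  let A : RegClass p G := ⟨ConjClasses.mk a, a, rfl, ha⟩
  let A' : RegClass p G := ⟨ConjClasses.mk a', a', rfl, ha'⟩
  have hAA : A ≠ A' := fun h => hne (ConjClasses.mk_eq_mk_iff_isConj.1 (congrArg Subtype.val h))
  have hsurj : Function.Surjective fun c : {c : RegClass p G // c ≠ A'} => regMap f c.1 := by
    intro x
    obtain ⟨c, rfl⟩ := regMap_surjective f hf x
    by_cases h : c = A'
    · refine ⟨⟨A, hAA⟩, Subtype.ext ?_⟩
      show ConjClasses.mk (f a) = ConjClasses.map f c.1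
      rw [h, hfa]; rfl
    · exact ⟨⟨c, h⟩, rfl⟩
  have h1 := Nat.card_le_card_of_surjective _ hsurj
  have h2 : Nat.card {c : RegClass p G // c ≠ A'} < Nat.card (RegClass p G) :=
    Finite.card_subtype_lt (p := fun c => c ≠ A') (x := A') (by simp)
  omega

/-- Two extra classes. -/
theorem card_add_two_le_regClass (hf : Function.Surjective f) {a a' b b' : G}
    (ha : ¬ p ∣ orderOf a) (ha' : ¬ p ∣ orderOf a') (hfa : f a = f a')
    (hb : ¬ p ∣ orderOf b) (hb' : ¬ p ∣ orderOf b') (hfb : f b = f b')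
    (haa : ¬ IsConj a a') (hbb : ¬ IsConj b b') (hab : ¬ IsConj a b') (hba : ¬ IsConj b a')
    (hne : ¬ IsConj a' b') :
    Nat.card (RegClass p X) + 2 ≤ Nat.card (RegClass p G) := by
  classical
  let A : RegClass p G := ⟨ConjClasses.mk a, a, rfl, ha⟩
  let A' : RegClass p G := ⟨ConjClasses.mk a', a', rfl, ha'⟩
  let B : RegClass p G := ⟨ConjClasses.mk b, b, rfl, hb⟩
  let B' : RegClass p G := ⟨ConjClasses.mk b', b', rfl, hb'⟩
  have key : ∀ {x y : G} (u v : RegClass p G), u.1 = ConjClasses.mk x → v.1 = ConjClasses.mk y →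
      ¬ IsConj x y → u ≠ v :=
    fun u v hu hv h e => h (ConjClasses.mk_eq_mk_iff_isConj.1 (hu.symm.trans (e ▸ hv)))
  have hsurj : Function.Surjective
      fun c : {c : RegClass p G // c ∉ ({A', B'} : Finset (RegClass p G))} => regMap f c.1 := by
    intro x
    obtain ⟨c, rfl⟩ := regMap_surjective f hf x
    by_cases h : c = A'
    · refine ⟨⟨A, by
        simp only [Finset.mem_insert, Finset.mem_singleton, not_or]
        exact ⟨key A A' rfl rfl haa, key A B' rfl rfl hab⟩⟩, Subtype.ext ?_⟩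
      show ConjClasses.mk (f a) = ConjClasses.map f c.1
      rw [h, hfa]; rfl
    by_cases h' : c = B'
    · refine ⟨⟨B, by
        simp only [Finset.mem_insert, Finset.mem_singleton, not_or]
        exact ⟨key B A' rfl rfl hba, key B B' rfl rfl hbb⟩⟩, Subtype.ext ?_⟩
      show ConjClasses.mk (f b) = ConjClasses.map f c.1
      rw [h', hfb]; rfl
    · exact ⟨⟨c, by simp [h, h']⟩, rfl⟩
  have h1 := Nat.card_le_card_of_surjective _ hsurj
  have hs : Set.ncard (({A', B'} : Finset (RegClass p G)) : Set (RegClass p G)) = 2 := by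
    rw [Set.ncard_coe_finset, Finset.card_pair (key A' B' rfl rfl hne)]
  have h3 := Set.ncard_add_ncard_compl (({A', B'} : Finset (RegClass p G)) : Set (RegClass p G))
  rw [hs, ← Nat.card_coe_set_eq] at h3
  exact (Nat.add_le_add_right h1 2).trans (le_of_eq (by rw [← h3, add_comm]; rfl))

theorem card_regClass_eq (hf : Function.Bijective f) :
    Nat.card (RegClass p G) = Nat.card (RegClass p X) := by
  refine Nat.card_congr (Equiv.ofBijective (regMap f) ⟨?_, regMap_surjective f hf.2⟩)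
  rintro ⟨c, g, rfl, hg⟩ ⟨d, g', rfl, hg'⟩ h
  have h' : IsConj (f g) (f g') := ConjClasses.mk_eq_mk_iff_isConj.1 (congrArg Subtype.val h)
  obtain ⟨x, hx⟩ := isConj_iff.1 h'
  obtain ⟨y, rfl⟩ := hf.2 x
  refine Subtype.ext (ConjClasses.mk_eq_mk_iff_isConj.2 (isConj_iff.2 ⟨y, hf.1 ?_⟩))
  rw [map_mul, map_mul, map_inv, hx]

/-- With a normal abelian Sylow `p`-subgroup the `p`-regular classes are those of a complement. -/
theorem card_regClass_complement {Q : Type*} [Group Q] [Finite Q] (P H : Subgroup Q) [P.Normal]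
    (hPp : IsPGroup p P) (hPab : ∀ a ∈ P, ∀ b ∈ P, a * b = b * a) (hidx : ¬ p ∣ P.index)
    (hPH : IsComplement' P H) : Nat.card (RegClass p Q) = Nat.card (ConjClasses H) := by
  classical
  have hcard : Nat.card H = P.index := hPH.symm.index_eq_card.symm
  have hH : ∀ h : H, ¬ p ∣ orderOf (h : Q) := fun h hd =>
    hidx (hcard ▸ hd.trans (Subgroup.orderOf_dvd_natCard H h.2))
  have hdisj : ∀ x, x ∈ P → x ∈ H → x = 1 := fun x hx hx' =>
    Subgroup.disjoint_def.1 hPH.disjoint hx hx'
  have hcop : (Nat.card P).Coprime P.index := by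
    obtain ⟨c, hc⟩ := IsPGroup.iff_card.1 hPp
    rw [hc]
    exact Nat.Coprime.pow_left c (hp.out.coprime_iff_not_dvd.2 hidx)
  let F : ConjClasses H → RegClass p Q := fun c =>
    ⟨ConjClasses.map H.subtype c, by
      obtain ⟨h, rfl⟩ := ConjClasses.mk_surjective c
      exact ⟨(h : Q), rfl, hH h⟩⟩
  refine (Nat.card_congr (Equiv.ofBijective F ⟨?_, ?_⟩)).symm
  · intro a b hab
    obtain ⟨a, rfl⟩ := ConjClasses.mk_surjective a
    obtain ⟨b, rfl⟩ := ConjClasses.mk_surjective b
    obtain ⟨q, hq⟩ := isConj_iff.1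
      (ConjClasses.mk_eq_mk_iff_isConj.1 (congrArg Subtype.val hab : _ = _))
    obtain ⟨⟨⟨u, hu⟩, ⟨h, hh⟩⟩, rfl⟩ := hPH.2 q
    change u * h * (a : Q) * (u * h)⁻¹ = (b : Q) at hq
    refine ConjClasses.mk_eq_mk_iff_isConj.2 (isConj_iff.2 ⟨⟨h, hh⟩, Subtype.ext ?_⟩)
    show h * (a : Q) * h⁻¹ = b
    set c := h * (a : Q) * h⁻¹ with hc
    have hcH : c ∈ H := mul_mem (mul_mem hh a.2) (inv_mem hh)
    have hq' : u * c * u⁻¹ = b := by rw [← hq, hc]; group
    have h1 : c⁻¹ * (u * c * u⁻¹) ∈ P := by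
      rw [show c⁻¹ * (u * c * u⁻¹) = (c⁻¹ * u * c⁻¹⁻¹) * u⁻¹ by group]
      exact mul_mem ((inferInstance : P.Normal).conj_mem u hu c⁻¹) (inv_mem hu)
    have h2 := hdisj _ h1 (mul_mem (inv_mem hcH) (hq' ▸ b.2))
    rw [← hq']
    exact inv_mul_eq_one.1 h2
  · rintro ⟨c, x, rfl, hx⟩
    have hs : Group.IsSolvable P := by
      letI : CommGroup P :=
        { (inferInstance : Group P) with mul_comm := fun a b => Subtype.ext (hPab a a.2 b b.2) }
      infer_instance
    obtain ⟨y, -, hy⟩ := CfsgLib.Coprime.exists_conj_le_complement P hcop H hcard (zpowers x) (by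
      obtain ⟨c, hc⟩ := IsPGroup.iff_card.1 hPp
      rw [hc, Nat.card_zpowers]
      exact Nat.Coprime.pow_left c (hp.out.coprime_iff_not_dvd.2 hx)) (Or.inl hs)
    have hmem : y * x * y⁻¹ ∈ H := by
      refine hy ?_
      exact Subgroup.mem_pointwise_smul_iff_inv_smul_mem.2 (by
        rw [← map_inv, MulAut.smul_def, MulAut.conj_apply]
        simp [mul_assoc])
    refine ⟨ConjClasses.mk ⟨_, hmem⟩, Subtype.ext ?_⟩
    exact (ConjClasses.mk_eq_mk_iff_isConj.2 (isConj_iff.2 ⟨y, rfl⟩)).symm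

/-- If a whole coset of a normal subgroup is one class, centralisers upstairs and downstairs have the
same order. -/
theorem card_centralizer_of_coset_conj (N : Subgroup G) [N.Normal] (y : G)
    (hall : ∀ n ∈ N, IsConj y (y * n)) :
    Nat.card (centralizer ({y} : Set G)) =
      Nat.card (centralizer ({(y : G ⧸ N)} : Set (G ⧸ N))) := by
  have hpre : (ConjClasses.mk y).carrier =
      (QuotientGroup.mk : G → G ⧸ N) ⁻¹' (ConjClasses.mk (y : G ⧸ N)).carrier := by
    ext z
    rw [Set.mem_preimage, ConjClasses.mem_carrier_iff_mk_eq, ConjClasses.mem_carrier_iff_mk_eq,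
      ConjClasses.mk_eq_mk_iff_isConj, ConjClasses.mk_eq_mk_iff_isConj]
    refine ⟨fun h => (QuotientGroup.mk' N).map_isConj h, fun h => ?_⟩
    obtain ⟨w, hw⟩ := isConj_iff.1 h.symm
    induction w using QuotientGroup.induction_on with
    | _ g =>
      rw [← QuotientGroup.mk_inv, ← QuotientGroup.mk_mul, ← QuotientGroup.mk_mul] at hw
      have h2 := hall (y⁻¹ * (g⁻¹ * z * g⁻¹⁻¹)) (by
        rw [← QuotientGroup.eq_one_iff, QuotientGroup.mk_mul, QuotientGroup.mk_inv,
          inv_mul_eq_one]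
        simp only [inv_inv, QuotientGroup.mk_mul, QuotientGroup.mk_inv] at hw ⊢
        rw [← hw]
        group)
      rw [mul_inv_cancel_left] at h2
      exact (h2.trans (isConj_iff.2 ⟨g, by group⟩)).symm
  have h1 : Nat.card (ConjClasses.mk y).carrier =
      Nat.card N * Nat.card (ConjClasses.mk (y : G ⧸ N)).carrier := by
    rw [hpre, ← Nat.card_prod]
    exact Nat.card_congr (QuotientGroup.preimageMkEquivSubgroupProdSet N _)
  rw [card_carrier_eq_index', card_carrier_eq_index'] at h1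
  have h2 := (centralizer ({y} : Set G)).card_mul_index
  have h3 := (centralizer ({(y : G ⧸ N)} : Set (G ⧸ N))).card_mul_index
  have h4 := N.card_eq_card_quotient_mul_card_subgroup
  rw [h1, h4, ← h3] at h2
  refine Nat.eq_of_mul_eq_mul_right (Nat.mul_pos (Nat.card_pos (α := N)) (Nat.pos_of_ne_zero
    (Subgroup.index_ne_zero_of_finite (H := centralizer ({(y : G ⧸ N)} : Set (G ⧸ N)))))) ?_
  rw [h2]
  ring

end CfsgLib.CoprimeTrans
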