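import Cfsg.Agent.Lib.CoprimeTrans.Lower
import Cfsg.Agent.Lib.Hall.Pi
import Cfsg.Agent.Lib.RegLinear.Final

/-!
# The exceptional group of order `120` on a plane over the field with eleven elements
-/

set_option autoImplicit false
set_option linter.style.haveILetI false
set_option linter.unusedSectionVars false
set_option synthInstance.maxHeartbeats 100000

noncomputable section

namespace CfsgLib.CoprimeTrans

open Subgroup CfsgLib.TransLinear

universe u

/-- A solvable group of order `120` has an element of order `15`. -/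
theorem exists_orderOf_fifteen {G : Type u} [Group G] [Finite G] [Group.IsSolvable G]
    (hG : Nat.card G = 120) : ∃ x : G, orderOf x = 15 := by
  classical
  obtain ⟨K, hK1, hK2⟩ := CfsgLib.Hall.exists_isPiHall (G := G) ({3, 5} : Set ℕ)
  have hmul := K.card_mul_index
  rw [hG] at hmul
  have h3 : 3 ∣ Nat.card K := ((Nat.prime_three.dvd_mul).1 (hmul ▸ (by norm_num : 3 ∣ 120))).resolve_right
    (hK2 3 Nat.prime_three (by simp))
  have h5 : 5 ∣ Nat.card K := (((show Nat.Prime 5 by norm_num).dvd_mul).1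
    (hmul ▸ (by norm_num : 5 ∣ 120))).resolve_right (hK2 5 (by norm_num) (by simp))
  have h2 : ¬ 2 ∣ Nat.card K := fun h => by simpa using hK1 2 Nat.prime_two h
  obtain ⟨j, hj⟩ : 15 ∣ Nat.card K := Nat.Coprime.mul_dvd_of_dvd_of_dvd (by norm_num) h3 h5
  have hj8 : j ∣ 8 := by
    refine ⟨K.index, ?_⟩
    rw [hj] at hmul
    linarith [mul_assoc 15 j K.index]
  have hK : Nat.card K = 15 := by
    obtain ⟨i, -, rfl⟩ := (Nat.dvd_prime_pow Nat.prime_two).1 (show j ∣ 2 ^ 3 from hj8)
    by_cases hi : i = 0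
    · rw [hj, hi]; norm_num
    · exact absurd (hj ▸ (dvd_pow_self 2 hi).mul_left 15) h2
  haveI : Fact (Nat.Prime 3) := ⟨Nat.prime_three⟩
  haveI : Fact (Nat.Prime 5) := ⟨by norm_num⟩
  obtain ⟨P⟩ : Nonempty (Sylow 5 K) := inferInstance
  obtain ⟨Q⟩ : Nonempty (Sylow 3 K) := inferInstance
  have hP : Nat.card (P : Subgroup K) = 5 := by
    rw [P.card_eq_multiplicity, hK, show (15 : ℕ) = 3 * 5 by norm_num,
      Nat.factorization_mul (by norm_num) (by norm_num)]
    simp [Nat.Prime.factorization_self (show Nat.Prime 5 by norm_num),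
      Nat.factorization_eq_zero_of_not_dvd (show ¬ 5 ∣ 3 by norm_num)]
  have hQ : Nat.card (Q : Subgroup K) = 3 := by
    rw [Q.card_eq_multiplicity, hK, show (15 : ℕ) = 3 * 5 by norm_num,
      Nat.factorization_mul (by norm_num) (by norm_num)]
    simp [Nat.Prime.factorization_self Nat.prime_three,
      Nat.factorization_eq_zero_of_not_dvd (show ¬ 3 ∣ 5 by norm_num)]
  have hnorm : ∀ (r : ℕ) [Fact r.Prime] (R : Sylow r K) (c : ℕ), Nat.card (R : Subgroup K) = r →
      15 = r * c → (∀ d, d ∣ c → d % r = 1 % r → d = 1) → (R : Subgroup K).Normal := by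
    intro r _ R c hR hc hd
    have hi : (R : Subgroup K).index = c := by
      have := (R : Subgroup K).card_mul_index
      rw [hR, hK, hc] at this
      exact Nat.eq_of_mul_eq_mul_left (Fact.out : r.Prime).pos this
    have h1 := hd _ (hi ▸ R.card_dvd_index) (card_sylow_modEq_one r K)
    haveI : Subsingleton (Sylow r K) := (Nat.card_eq_one_iff_unique.1 h1).1
    exact R.normal_of_subsingleton
  have hPn := hnorm 5 P 3 hP (by norm_num) fun d hd h => by
    rcases (Nat.dvd_prime Nat.prime_three).1 hd with rfl | rfl <;> simp_all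
  have hQn := hnorm 3 Q 5 hQ (by norm_num) fun d hd h => by
    rcases (Nat.dvd_prime (by norm_num : Nat.Prime 5)).1 hd with rfl | rfl <;> simp_all
  obtain ⟨x, hx⟩ := exists_prime_orderOf_dvd_card' (G := (P : Subgroup K)) 5 (dvd_of_eq hP.symm)
  obtain ⟨y, hy⟩ := exists_prime_orderOf_dvd_card' (G := (Q : Subgroup K)) 3 (dvd_of_eq hQ.symm)
  rw [← Subgroup.orderOf_coe] at hx hy
  have hdis : Disjoint (P : Subgroup K) (Q : Subgroup K) := disjoint_iff.2 (Subgroup.inf_eq_bot_of_coprime (by
    rw [hP, hQ]; norm_num))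
  have hc : Commute (x : K) (y : K) :=
    Subgroup.commute_of_normal_of_disjoint _ _ hPn hQn hdis _ _ x.2 y.2
  refine ⟨(((x : K) * y : K) : G), ?_⟩
  rw [Subgroup.orderOf_coe, hc.orderOf_mul_eq_mul_orderOf_of_coprime (by rw [hx, hy]; norm_num),
    hx, hy]

variable {q : ℕ} [Fact q.Prime] {V : Type*} [AddCommGroup V] [Module (ZMod q) V] [Finite V]
  {G : Type u} [Group G] [Finite G] {ρ : G →* (V ≃ₗ[ZMod q] V)}

/-- The exceptional group is `SL(2,5)`. -/
theorem nonempty_sl25 (hρ : Function.Injective ρ) (htr : Trans ρ) [Nontrivial V] (hq : q = 11)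
    (hn : Module.finrank (ZMod q) V = 2) (hG : Nat.card G = 120)
    (hz : Nat.card (scalars (act ρ)) = 2) (hk : Nat.card (ConjClasses G) = 9)
    (hfree : ∀ (g : G) (v : V), v ≠ 0 → ρ g v = v → g = 1) :
    Nonempty (G ≃* Matrix.SpecialLinearGroup (Fin 2) (ZMod 5)) := by
  classical
  subst hq
  have hcop : ¬ 11 ∣ Nat.card G := by rw [hG]; norm_num
  have hns : ¬ Group.IsSolvable G := by
    intro hs
    rcases classify hρ htr hcop with ⟨C, hS⟩ | ⟨-, -, g, m, -, -, -, hpow⟩ | ⟨h, -⟩
    · have := semi_le_classes htr hS (by norm_num) (by omega)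
      omega
    · obtain ⟨x, hx⟩ := exists_orderOf_fifteen hG
      obtain ⟨j, hj1, hj5, hj⟩ := hpow x
      have h2 : (x ^ j) ^ 2 = 1 := by
        have := congrArg Subtype.val (pow_card_eq_one' (x := (⟨_, hj⟩ : scalars (act ρ))))
        rwa [hz] at this
      rw [← pow_mul] at h2
      have h := orderOf_dvd_of_pow_eq_one h2
      rw [hx] at h
      have := Nat.le_of_dvd (by omega) h
      omega
    · omega
  let e : G ≃* ρ.range := MonoidHom.ofInjective hρ
  have hreg : CfsgLib.RegLinear.Reg ρ.range := by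
    intro v w hv hw
    obtain ⟨g, hg⟩ := htr v w hv hw
    refine ⟨e g, hg, ?_⟩
    rintro ⟨f, a, rfl⟩ ha
    change ρ a v = w at ha
    have hfix : ρ (g⁻¹ * a) v = v := by
      show ρ (g⁻¹ * a) v = v
      rw [map_mul]
      show ρ g⁻¹ (ρ a v) = v
      rw [ha, ← hg]
      show (ρ g⁻¹ * ρ g) v = v
      rw [← map_mul, inv_mul_cancel, map_one]; rfl
    refine Subtype.ext ?_
    show ρ a = ρ g
    rw [inv_mul_eq_one.1 (hfree _ v hv hfix)]
  have hns' : ¬ Group.IsSolvable ρ.range := fun h => by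
    haveI := h
    exact hns (Group.isSolvable_of_surjective e.symm.surjective (f := e.symm.toMonoidHom))
  have hV : Nat.card V = 121 := by
    rw [Module.natCard_eq_pow_finrank (K := ZMod 11) (V := V), Nat.card_zmod, hn]
    norm_num
  rcases CfsgLib.RegLinear.insoluble_structure hreg hns' with ⟨-, ⟨θ⟩⟩ | ⟨h, -⟩ | ⟨h, -⟩
  · exact ⟨e.trans θ⟩
  · omega
  · omega

end CfsgLib.CoprimeTrans
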