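import Cfsg.Agent.Lib.PCore.PSolvable
import Cfsg.Agent.Lib.CoprimeTrans.Affine
import Cfsg.Prelude.Def_Perm

/-!
# `p`-solvable groups with one class of nontrivial `p`-elements
-/

set_option autoImplicit false
set_option linter.style.haveILetI false

namespace CfsgLib.CoprimeTrans

open Subgroup

variable {Q : Type*} [Group Q] [Finite Q] {p : ℕ} [hp : Fact p.Prime]

/-- The structure of a `p`-solvable group with trivial `p'`-core and one class of nontrivial
`p`-elements. -/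
theorem top_structure (hsolv : Cfsg.IsPSolvable p Q) (h0 : Cfsg.pPrimeCore p Q = ⊥)
    (hdiv : p ∣ Nat.card Q)
    (hconj : ∀ x y : Q, x ≠ 1 → y ≠ 1 → (∃ k : ℕ, orderOf x = p ^ k) →
      (∃ k : ℕ, orderOf y = p ^ k) → IsConj x y) :
    ∃ P H : Subgroup Q, P.Normal ∧ IsPGroup p P ∧ P ≠ ⊥ ∧ (∀ v ∈ P, v ^ p = 1) ∧
      (∀ a ∈ P, ∀ b ∈ P, a * b = b * a) ∧ ¬ p ∣ P.index ∧
      centralizer (P : Set Q) = P ∧ IsComplement' P H ∧
      (∀ v ∈ P, ∀ w ∈ P, v ≠ 1 → w ≠ 1 → ∃ g ∈ H, g * v * g⁻¹ = w) := by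
  classical
  haveI : Nontrivial Q := Finite.one_lt_card_iff_nontrivial.1
    (lt_of_lt_of_le hp.out.one_lt (Nat.le_of_dvd Nat.card_pos hdiv))
  set P := Cfsg.pCore p Q with hP
  have hPp : IsPGroup p P := PCore.pCore_isPGroup
  have hPne : P ≠ ⊥ := PCore.pCore_ne_bot hsolv h0
  haveI hPn : P.Normal := inferInstance
  have hpow : ∀ x ∈ P, ∃ k : ℕ, orderOf x = p ^ k := fun x hx => by
    obtain ⟨k, hk⟩ := IsPGroup.iff_orderOf.1 hPp ⟨x, hx⟩
    exact ⟨k, (Subgroup.orderOf_mk x hx) ▸ hk⟩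
  obtain ⟨x₀, hx₀, hx₀1⟩ := (Subgroup.bot_or_exists_ne_one P).resolve_left hPne
  have hall : ∀ y : Q, (∃ k : ℕ, orderOf y = p ^ k) → y ∈ P := by
    intro y hy
    by_cases hy1 : y = 1
    · exact hy1 ▸ one_mem P
    obtain ⟨g, hg⟩ := isConj_iff.1 (hconj x₀ y hx₀1 hy1 (hpow _ hx₀) hy)
    exact hg ▸ hPn.conj_mem _ hx₀ g
  haveI : Nontrivial P := ⟨⟨x₀, hx₀⟩, 1, fun h => hx₀1 (congrArg Subtype.val h)⟩
  have hexp : ∀ v ∈ P, v ^ p = 1 := by
    intro v hv
    by_cases hv1 : v = 1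
    · rw [hv1, one_pow]
    obtain ⟨c, hc⟩ := IsPGroup.iff_card.1 hPp
    obtain ⟨z, hz⟩ := exists_prime_orderOf_dvd_card' (G := P) p (by
      rw [hc]
      refine dvd_pow_self p fun h => ?_
      have := Finite.one_lt_card (α := P)
      rw [hc, h, pow_zero] at this
      exact lt_irrefl 1 this)
    rw [← Subgroup.orderOf_coe] at hz
    have hz1 : (z : Q) ≠ 1 := fun h => hp.out.ne_one (by rw [← hz, h, orderOf_one])
    obtain ⟨g, hg⟩ := isConj_iff.1 (hconj (z : Q) v hz1 hv1 (hpow _ z.2) (hpow _ hv))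
    rw [← hg, conj_pow, ← hz, pow_orderOf_eq_one, mul_one, mul_inv_cancel]
  have hab : ∀ a ∈ P, ∀ b ∈ P, a * b = b * a := by
    haveI := hPp.center_nontrivial
    obtain ⟨z, hz⟩ := exists_ne (1 : Subgroup.center P)
    let Z : Subgroup Q := (Subgroup.center P).map P.subtype
    haveI : Z.Normal := inferInstance
    intro a ha b hb
    by_cases ha1 : a = 1
    · rw [ha1, one_mul, mul_one]
    have hzQ : ((z : P) : Q) ≠ 1 := fun h => hz (Subtype.ext (Subtype.ext h))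
    obtain ⟨g, hg⟩ := isConj_iff.1 (hconj ((z : P) : Q) a hzQ ha1 (hpow _ (z : P).2) (hpow _ ha))
    have haZ : a ∈ Z := hg ▸ (inferInstance : Z.Normal).conj_mem _ ⟨_, z.2, rfl⟩ g
    obtain ⟨a', ha', rfl⟩ := haZ
    exact (congrArg Subtype.val (Subgroup.mem_center_iff.1 ha' ⟨b, hb⟩)).symm
  have hidx : ¬ p ∣ P.index := by
    obtain ⟨S⟩ : Nonempty (Sylow p Q) := inferInstance
    have hSP : (S : Subgroup Q) ≤ P := fun y hy => by
      obtain ⟨k, hk⟩ := IsPGroup.iff_orderOf.1 S.isPGroup' ⟨y, hy⟩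
      exact hall y ⟨k, (Subgroup.orderOf_mk y hy) ▸ hk⟩
    rw [show P = (S : Subgroup Q) from S.is_maximal' hPp hSP]
    exact S.not_dvd_index
  have hC : centralizer (P : Set Q) = P := le_antisymm (PCore.centralizer_pCore_le hsolv h0)
    fun a ha => mem_centralizer_iff.2 fun b hb => (hab a ha b hb).symm
  obtain ⟨H, hH⟩ := Subgroup.exists_right_complement'_of_coprime (N := P) (by
    obtain ⟨c, hc⟩ := IsPGroup.iff_card.1 hPp
    rw [hc]
    exact Nat.Coprime.pow_left c (hp.out.coprime_iff_not_dvd.2 hidx))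
  refine ⟨P, H, hPn, hPp, hPne, hexp, hab, hidx, hC, hH, fun v hv w hw hv1 hw1 => ?_⟩
  obtain ⟨q, hq⟩ := isConj_iff.1 (hconj v w hv1 hw1 (hpow _ hv) (hpow _ hw))
  obtain ⟨⟨⟨u, hu⟩, ⟨h, hh⟩⟩, rfl⟩ := hH.2 q
  refine ⟨h, hh, ?_⟩
  change u * h * v * (u * h)⁻¹ = w at hq
  have hc := hab u hu (h * v * h⁻¹) (hPn.conj_mem v hv h)
  calc h * v * h⁻¹ = u * (h * v * h⁻¹) * u⁻¹ := by rw [hc, mul_inv_cancel_right]
    _ = u * h * v * (u * h)⁻¹ := by group
    _ = w := hq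

/-- A self-centralising normal subgroup of order `p` with complement of order `p - 1` gives the
one-dimensional affine group. -/
theorem nonempty_affineGroup (P H : Subgroup Q) [P.Normal] (hP : Nat.card P = p)
    (hH : Nat.card H = p - 1) (hPH : IsComplement' P H)
    (hC : centralizer (P : Set Q) = P) : Nonempty (Q ≃* Cfsg.affineGroup (ZMod p)) := by
  classical
  haveI : NeZero p := ⟨hp.out.ne_zero⟩
  obtain ⟨v, hv⟩ := exists_prime_orderOf_dvd_card' (G := P) p (dvd_of_eq hP.symm)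
  rw [← Subgroup.orderOf_coe] at hv
  have hvP : ((v : Q)) ∈ P := v.2
  have hgen : zpowers (v : Q) = P := Subgroup.eq_of_le_of_card_ge (zpowers_le.2 hvP)
    (by rw [hP, Nat.card_zpowers, hv])
  have hdisj : ∀ x, x ∈ P → x ∈ H → x = 1 := fun x hx hx' =>
    Subgroup.disjoint_def.1 hPH.disjoint hx hx'
  have hpow : ∀ x ∈ P, ∃ j : ZMod p, (v : Q) ^ j.val = x := by
    intro x hx
    obtain ⟨k, rfl⟩ := Subgroup.mem_zpowers_iff.1 (hgen.ge hx)
    refine ⟨(k : ZMod p), ?_⟩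
    rw [← zpow_natCast, zpow_eq_zpow_iff_modEq, hv, ← ZMod.intCast_eq_intCast_iff]
    push_cast
    rw [ZMod.natCast_zmod_val]
  have hval : ∀ i : ℕ, (v : Q) ^ (i : ZMod p).val = (v : Q) ^ i := fun i => by
    rw [ZMod.val_natCast, ← hv, pow_mod_orderOf]
  let θ : ZMod p → Q ⧸ H := fun j => (((v : Q) ^ j.val : Q) : Q ⧸ H)
  have hθ : Function.Injective θ := by
    intro i j hij
    have h1 := hdisj _ (mul_mem (inv_mem (pow_mem hvP _)) (pow_mem hvP _)) (QuotientGroup.eq.1 hij)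
    have h2 := pow_inj_mod.1 (inv_mul_eq_one.1 h1)
    rw [hv, Nat.mod_eq_of_lt i.val_lt, Nat.mod_eq_of_lt j.val_lt] at h2
    exact ZMod.val_injective p h2
  have hidx : H.index = p := hPH.index_eq_card.trans hP
  let ψ : ZMod p ≃ Q ⧸ H := Equiv.ofBijective θ (hθ.bijective_of_nat_card_le (by
    rw [Nat.card_zmod, ← Subgroup.index_eq_card, hidx]))
  let φ : Q →* Equiv.Perm (ZMod p) :=
    ψ.symm.permCongrHom.toMonoidHom.comp (MulAction.toPermHom Q (Q ⧸ H))
  have happ : ∀ (q : Q) (j : ZMod p), θ (φ q j) = q • θ j := fun q j => by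
    show ψ (ψ.symm (q • ψ.symm.symm j)) = q • θ j
    rw [Equiv.apply_symm_apply]
    rfl
  have hker : Function.Injective φ := by
    rw [injective_iff_map_eq_one]
    intro q hq
    have h : ∀ j, q • θ j = θ j := fun j => by rw [← happ, hq]; rfl
    have h0 := h 0
    simp only [θ, ZMod.val_zero, pow_zero, MulAction.Quotient.smul_coe, smul_eq_mul, mul_one,
      QuotientGroup.eq] at h0
    have hqH : q ∈ H := inv_mem_iff.1 (by simpa using h0)
    have h1 := h 1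
    simp only [θ, MulAction.Quotient.smul_coe, smul_eq_mul, QuotientGroup.eq, ZMod.val_one,
      pow_one] at h1
    have h2 : (q * (v : Q) * q⁻¹)⁻¹ * v ∈ H := by
      have := mul_mem hqH h1
      rwa [show q * ((q * (v : Q))⁻¹ * v) = (q * (v : Q) * q⁻¹)⁻¹ * v by group] at this
    have h3 := hdisj _ (mul_mem (inv_mem ((inferInstance : P.Normal).conj_mem _ hvP q)) hvP) h2
    have h4 : q * v = v * q := mul_inv_eq_iff_eq_mul.1 (inv_mul_eq_one.1 h3)
    refine hdisj q ?_ hqH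
    rw [← hC, ← hgen, mem_centralizer_iff]
    intro x hx
    obtain ⟨k, rfl⟩ := Subgroup.mem_zpowers_iff.1 hx
    exact ((show Commute q (v : Q) from h4).zpow_right k).eq.symm
  have hmem : ∀ q, φ q ∈ Cfsg.affineGroup (ZMod p) := by
    intro q
    obtain ⟨⟨⟨u, hu⟩, ⟨h, hh⟩⟩, rfl⟩ := hPH.2 q
    change φ (u * h) ∈ _
    obtain ⟨b, rfl⟩ := hpow u hu
    obtain ⟨a, ha⟩ := hpow _ ((inferInstance : P.Normal).conj_mem _ hvP h)
    have ha0 : a ≠ 0 := by
      rintro rfl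
      rw [ZMod.val_zero, pow_zero, eq_comm, conj_eq_one_iff] at ha
      rw [ha, orderOf_one] at hv
      exact hp.out.ne_one hv.symm
    refine ⟨Units.mk0 a ha0, b, fun j => hθ ?_⟩
    rw [happ]
    show (((v : Q) ^ b.val * h * (v : Q) ^ j.val : Q) : Q ⧸ H) = _
    rw [QuotientGroup.eq]
    show _ * (v : Q) ^ (a * j + b).val ∈ H
    have e1 : (v : Q) ^ (a * j + b).val = (v : Q) ^ b.val * (h * (v : Q) ^ j.val * h⁻¹) := by
      rw [← conj_pow, ← ha, ← pow_mul, ← pow_add, ← hval (b.val + a.val * j.val)]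
      congr 1
      push_cast
      rw [ZMod.natCast_zmod_val, ZMod.natCast_zmod_val, ZMod.natCast_zmod_val, add_comm]
      
    rw [e1, show ((v : Q) ^ b.val * h * (v : Q) ^ j.val)⁻¹ *
      ((v : Q) ^ b.val * (h * (v : Q) ^ j.val * h⁻¹)) = h⁻¹ by group]
    exact inv_mem hh
  let f : Q →* Cfsg.affineGroup (ZMod p) := φ.codRestrict _ hmem
  have hf : Function.Injective f := fun a b e => hker (congrArg Subtype.val e)
  refine ⟨MulEquiv.ofBijective f (hf.bijective_of_nat_card_le ?_)⟩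
  let g : (ZMod p)ˣ × ZMod p → Cfsg.affineGroup (ZMod p) := fun ab =>
    ⟨(Units.mulLeft ab.1).trans (Equiv.addRight ab.2), ab.1, ab.2, fun x => rfl⟩
  have hg : Function.Surjective g := by
    rintro ⟨σ, a, b, hab⟩
    exact ⟨(a, b), Subtype.ext (Equiv.ext fun x => (hab x).symm)⟩
  refine (Nat.card_le_card_of_surjective g hg).trans (le_of_eq ?_)
  rw [Nat.card_prod, Nat.card_units, Nat.card_zmod, ← hPH.card_mul_card, hP, hH, mul_comm]

end CfsgLib.CoprimeTrans
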